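import Mathlib

/-!
# Concrete facts on the alternating group of degree six

The Sylow `3`-normaliser and the classes of elements of order three, as used in the `3`-local
recognition of the McLaughlin group.
-/

set_option autoImplicit false
set_option maxRecDepth 100000
set_option linter.style.haveILetI false

namespace CfsgLib.McLThreeLocal

open Equiv

/-- The cycle `(0 1 2)`. -/
def sa : Perm (Fin 6) := swap 0 1 * swap 1 2

/-- The cycle `(3 4 5)`. -/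
def sb : Perm (Fin 6) := swap 3 4 * swap 4 5

/-- Membership of the Sylow `3`-subgroup generated by `sa` and `sb`, decidably. -/
def InP (x : Perm (Fin 6)) : Prop := ∃ i j : Fin 3, x = sa ^ (i : ℕ) * sb ^ (j : ℕ)

instance : DecidablePred InP := fun _ => by unfold InP; infer_instance

/-- Normalising that subgroup. -/
def NormP (x : Perm (Fin 6)) : Prop := InP (x * sa * x⁻¹) ∧ InP (x * sb * x⁻¹)

instance : DecidablePred NormP := fun _ => by unfold NormP; infer_instance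

theorem sign_sa : Perm.sign sa = 1 ∧ Perm.sign sb = 1 := by decide +kernel

theorem inP_facts : ∀ i j k l : Fin 3, InP (sa ^ (i : ℕ) * sb ^ (j : ℕ) * (sa ^ (k : ℕ) * sb ^ (l : ℕ))) ∧
    (sa ^ (i : ℕ) * sb ^ (j : ℕ) = sa ^ (k : ℕ) * sb ^ (l : ℕ) → i = k ∧ j = l) ∧
    InP (sa ^ (i : ℕ) * sb ^ (j : ℕ))⁻¹ := by decide +kernel

/-- In the normaliser of the Sylow subgroup, an involution inverts it. -/
theorem normP_invol : ∀ u : Perm (Fin 6), u * u = 1 → Perm.sign u = 1 → NormP u → u ≠ 1 →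
    u * sa * u⁻¹ = sa⁻¹ ∧ u * sb * u⁻¹ = sb⁻¹ := by
  decide +kernel

/-- The fourth powers in the normaliser. -/
theorem normP_pow : ∀ u : Perm (Fin 6), Perm.sign u = 1 → NormP u → InP (u * u * (u * u)) := by
  decide +kernel

/-- An element of order three and a conjugate have a product of order five. -/
theorem five : ∀ i j : Fin 3, (i, j) ≠ (0, 0) →
    ∃ g : Perm (Fin 6), Perm.sign g = 1 ∧
      (sa ^ (i : ℕ) * sb ^ (j : ℕ) * (g * (sa ^ (i : ℕ) * sb ^ (j : ℕ)) * g⁻¹)) ^ 5 = 1 ∧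
      sa ^ (i : ℕ) * sb ^ (j : ℕ) * (g * (sa ^ (i : ℕ) * sb ^ (j : ℕ)) * g⁻¹) ≠ 1 := by
  decide +kernel

/-- The element of order four normalising the Sylow subgroup. -/
theorem normP_four : ∀ u : Perm (Fin 6), u * u = 1 → Perm.sign u = 1 → NormP u → u ≠ 1 →
    ∃ f : Perm (Fin 6), Perm.sign f = 1 ∧ NormP f ∧ f * f = u := by
  decide +kernel

theorem centralizer_single : ∀ i j : Fin 3, (i, j) ≠ (0, 0) → ∀ y : Perm (Fin 6),
    Perm.sign y = 1 → y * (sa ^ (i : ℕ) * sb ^ (j : ℕ)) = sa ^ (i : ℕ) * sb ^ (j : ℕ) * y →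
      InP y := by
  decide +kernel

theorem centralizer_inP (i j : Fin 3) (h : sa ^ (i : ℕ) * sb ^ (j : ℕ) ≠ 1) (y : Perm (Fin 6))
    (hy : Perm.sign y = 1)
    (hc : y * (sa ^ (i : ℕ) * sb ^ (j : ℕ)) = sa ^ (i : ℕ) * sb ^ (j : ℕ) * y) : InP y :=
  centralizer_single i j (fun e => h (by simp [Prod.mk.injEq] at e; simp [e.1, e.2])) y hy hc

theorem cube_inP : ∀ y : Perm (Fin 6), InP y → y ^ 3 = 1 := by
  rintro y ⟨i, j, rfl⟩
  revert i j
  decide +kernel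

/-- A permutation outside the normaliser. -/
def sg : Perm (Fin 6) := swap 2 3 * swap 0 1

/-- The Sylow normaliser has two double cosets with the Sylow subgroup. -/
theorem double_coset : Perm.sign sg = 1 ∧ ¬ NormP sg ∧
    ∀ h : Perm (Fin 6), Perm.sign h = 1 → ¬ NormP h →
      ∃ i j : Fin 3, NormP (sg⁻¹ * (sa ^ (i : ℕ) * sb ^ (j : ℕ))⁻¹ * h) := by
  decide +kernel

/-! ### The same facts inside the alternating group -/

section Alt

local notation "A6" => alternatingGroup (Fin 6)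

/-- `sa` in the alternating group. -/
def ea : A6 := ⟨sa, Perm.mem_alternatingGroup.2 sign_sa.1⟩

/-- `sb` in the alternating group. -/
def eb : A6 := ⟨sb, Perm.mem_alternatingGroup.2 sign_sa.2⟩

/-- The Sylow `3`-subgroup. -/
def pNine : Subgroup A6 where
  carrier := {x | InP x.1}
  one_mem' := ⟨0, 0, by decide +kernel⟩
  mul_mem' := by
    rintro x y ⟨i, j, hx⟩ ⟨k, l, hy⟩
    show InP (x.1 * y.1)
    rw [hx, hy]
    exact (inP_facts i j k l).1
  inv_mem' := by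
    rintro x ⟨i, j, hx⟩
    show InP x.1⁻¹
    rw [hx]
    exact (inP_facts i j i j).2.2

theorem card_pNine : Nat.card pNine = 9 := by
  have hb : Function.Bijective (fun p : Fin 3 × Fin 3 => (⟨ea ^ (p.1 : ℕ) * eb ^ (p.2 : ℕ),
      ⟨p.1, p.2, by simp [ea, eb]⟩⟩ : pNine)) := by
    constructor
    · rintro ⟨i, j⟩ ⟨k, l⟩ h
      have h' := congrArg (fun x : pNine => (x.1 : Perm (Fin 6))) h
      simp only [Subgroup.coe_mul, SubgroupClass.coe_pow, ea, eb] at h'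
      obtain ⟨rfl, rfl⟩ := (inP_facts i j k l).2.1 h'
      rfl
    · rintro ⟨x, i, j, hx⟩
      exact ⟨(i, j), Subtype.ext (Subtype.ext (by simp [ea, eb, hx]))⟩
  rw [← Nat.card_congr (Equiv.ofBijective _ hb), Nat.card_prod, Nat.card_eq_fintype_card,
    Fintype.card_fin]

theorem card_alt_six : Nat.card A6 = 360 := by
  rw [nat_card_alternatingGroup, Nat.card_fin]
  decide +kernel

/-- Every `3`-subgroup of maximal order is conjugate to `pNine`. -/
theorem exists_conj_pNine {P : Subgroup A6} (hP : Nat.card P = 9) :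
    ∃ g : A6, ∀ x, x ∈ P ↔ g * x * g⁻¹ ∈ pNine := by
  haveI : Fact (Nat.Prime 3) := ⟨Nat.prime_three⟩
  have h : ∀ Q : Subgroup A6, Nat.card Q = 9 → ∃ S : Sylow 3 A6, (S : Subgroup A6) = Q := by
    intro Q hQ
    refine ⟨(IsPGroup.of_card (n := 2) (by rw [hQ]; norm_num)).toSylow ?_, rfl⟩
    have := Q.card_mul_index
    rw [hQ, card_alt_six] at this
    omega
  obtain ⟨S, rfl⟩ := h P hP
  obtain ⟨T, hT⟩ := h pNine card_pNine
  obtain ⟨g, hg⟩ := MulAction.exists_smul_eq A6 S T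
  refine ⟨g, fun x => ?_⟩
  rw [← hT, ← hg, Sylow.coe_subgroup_smul, Subgroup.mem_pointwise_smul_iff_inv_smul_mem]
  simp [MulAut.smul_def, mul_assoc]

theorem normP_of_mem {y : A6} (hy : y ∈ Subgroup.normalizer (pNine : Set A6)) : NormP y.1 := by
  have ha : ea ∈ pNine := ⟨1, 0, by simp [ea]⟩
  have hb : eb ∈ pNine := ⟨0, 1, by simp [eb]⟩
  exact ⟨(Subgroup.mem_normalizer_iff.1 hy ea).1 ha, (Subgroup.mem_normalizer_iff.1 hy eb).1 hb⟩

theorem mem_of_normP {y : A6} (hy : NormP y.1) : y ∈ Subgroup.normalizer (pNine : Set A6) := by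
  refine Subgroup.mem_normalizer_fintype fun x hx => ?_
  obtain ⟨i, j, hx⟩ := hx
  have ha : y * ea * y⁻¹ ∈ pNine := hy.1
  have hb : y * eb * y⁻¹ ∈ pNine := hy.2
  have he : x = ea ^ (i : ℕ) * eb ^ (j : ℕ) := Subtype.ext (by simp [ea, eb, hx])
  have : y * x * y⁻¹ = (y * ea * y⁻¹) ^ (i : ℕ) * (y * eb * y⁻¹) ^ (j : ℕ) := by
    rw [he, conj_pow, conj_pow]
    group
  rw [this]
  exact mul_mem (pow_mem ha _) (pow_mem hb _)

/-- The normaliser transported to an arbitrary Sylow subgroup. -/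
theorem conj_normalizer {P : Subgroup A6} {g : A6} (hg : ∀ x, x ∈ P ↔ g * x * g⁻¹ ∈ pNine)
    (y : A6) :
    y ∈ Subgroup.normalizer (P : Set A6) ↔
      g * y * g⁻¹ ∈ Subgroup.normalizer (pNine : Set A6) := by
  simp only [Subgroup.mem_normalizer_iff, hg]
  constructor
  · intro h x
    have := h (g⁻¹ * x * g)
    rw [show g * (g⁻¹ * x * g) * g⁻¹ = x by group] at this
    rw [this, show g * (y * (g⁻¹ * x * g) * y⁻¹) * g⁻¹ = g * y * g⁻¹ * x * (g * y * g⁻¹)⁻¹ by group]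
  · intro h x
    rw [h (g * x * g⁻¹), show g * y * g⁻¹ * (g * x * g⁻¹) * (g * y * g⁻¹)⁻¹ =
      g * (y * x * y⁻¹) * g⁻¹ by group]

theorem card_sylow (Q : Sylow 3 A6) : Nat.card Q = 9 := by
  rw [Sylow.card_eq_multiplicity, card_alt_six]
  simp only [show (360 : ℕ) = 3 ^ 2 * 40 by norm_num]
  rw [Nat.factorization_mul (by norm_num) (by norm_num), Finsupp.add_apply,
    Nat.Prime.factorization_pow Nat.prime_three, Finsupp.single_eq_same,
    Nat.factorization_eq_zero_of_not_dvd (by norm_num)]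
  norm_num

/-- Centralisers of elements of order three. -/
theorem six_comm {x y : A6} (hx3 : x ^ 3 = 1) (hx1 : x ≠ 1) (hxy : y * x = x * y) : y ^ 3 = 1 := by
  haveI : Fact (Nat.Prime 3) := ⟨Nat.prime_three⟩
  obtain ⟨Q, hQ⟩ := (IsPGroup.of_card (G := Subgroup.zpowers x) (p := 3) (n := 1) (by
    rw [Nat.card_zpowers, orderOf_eq_prime hx3 hx1, pow_one])).exists_le_sylow
  have hQc : Nat.card Q = 9 := card_sylow Q
  obtain ⟨g, hg⟩ := exists_conj_pNine hQc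
  obtain ⟨i, j, he⟩ := (hg x).1 (hQ (Subgroup.mem_zpowers x))
  have hy' : InP (g * y * g⁻¹).1 := by
    have hc : (g * y * g⁻¹).1 * (g * x * g⁻¹).1 = (g * x * g⁻¹).1 * (g * y * g⁻¹).1 :=
      congrArg Subtype.val (show g * y * g⁻¹ * (g * x * g⁻¹) = g * x * g⁻¹ * (g * y * g⁻¹) by
        rw [show g * y * g⁻¹ * (g * x * g⁻¹) = g * (y * x) * g⁻¹ by group, hxy]; group)
    have hne : sa ^ (i : ℕ) * sb ^ (j : ℕ) ≠ 1 := fun h => hx1 (by
      have h2 : g * x * g⁻¹ = 1 := Subtype.ext (he.trans h)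
      simpa using h2)
    exact centralizer_inP i j hne _ (Perm.mem_alternatingGroup.1 (g * y * g⁻¹).2) (by rwa [← he])
  have h3 := cube_inP _ hy'
  have : (g * y * g⁻¹) ^ 3 = 1 := Subtype.ext (by simpa using h3)
  rw [conj_pow] at this
  simpa using this

/-- A conjugate of an element of order three making a product of order five. -/
theorem six_five {x : A6} (hx3 : x ^ 3 = 1) (hx1 : x ≠ 1) :
    ∃ g : A6, (x * (g * x * g⁻¹)) ^ 5 = 1 ∧ x * (g * x * g⁻¹) ≠ 1 := by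
  haveI : Fact (Nat.Prime 3) := ⟨Nat.prime_three⟩
  obtain ⟨Q, hQ⟩ := (IsPGroup.of_card (G := Subgroup.zpowers x) (p := 3) (n := 1) (by
    rw [Nat.card_zpowers, orderOf_eq_prime hx3 hx1, pow_one])).exists_le_sylow
  have hQc : Nat.card Q = 9 := card_sylow Q
  obtain ⟨g, hg⟩ := exists_conj_pNine hQc
  obtain ⟨i, j, he⟩ := (hg x).1 (hQ (Subgroup.mem_zpowers x))
  have hij : (i, j) ≠ (0, 0) := fun e => hx1 (by
    simp only [Prod.mk.injEq] at e
    have h2 : g * x * g⁻¹ = 1 := Subtype.ext (by rw [he, e.1, e.2]; simp)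
    simpa using h2)
  obtain ⟨a, ha, h5, hne⟩ := five i j hij
  rw [← he] at h5 hne
  obtain ⟨a, rfl⟩ : ∃ a' : A6, a'.1 = a := ⟨⟨a, Perm.mem_alternatingGroup.2 ha⟩, rfl⟩
  have e : ∀ u : A6, u * x * u⁻¹ * (a * (u * x * u⁻¹) * a⁻¹) =
      u * (x * (u⁻¹ * a * u * x * (u⁻¹ * a * u)⁻¹)) * u⁻¹ := fun u => by group
  refine ⟨g⁻¹ * a * g, ?_, fun h => hne ?_⟩
  · have h' : (g * x * g⁻¹ * (a * (g * x * g⁻¹) * a⁻¹)) ^ 5 = 1 := Subtype.ext (by simpa using h5)
    rw [e, conj_pow] at h'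
    simpa using h'
  · have h' : g * x * g⁻¹ * (a * (g * x * g⁻¹) * a⁻¹) = 1 := by rw [e, h]; simp
    simpa using congrArg Subtype.val h'

/-- An involution normalising a Sylow subgroup inverts it and is a square in the normaliser. -/
theorem six_invol {P : Subgroup A6} (hP : Nat.card P = 9) {u : A6}
    (hu : u ∈ Subgroup.normalizer (P : Set A6)) (h2 : u * u = 1) (h1 : u ≠ 1) :
    (∀ x ∈ P, u * x * u⁻¹ = x⁻¹) ∧ ∃ f ∈ Subgroup.normalizer (P : Set A6), f * f = u := by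
  obtain ⟨g, hg⟩ := exists_conj_pNine hP
  have hN := normP_of_mem ((conj_normalizer hg u).1 hu)
  have hs := Perm.mem_alternatingGroup.1 (g * u * g⁻¹).2
  have hsq : (g * u * g⁻¹).1 * (g * u * g⁻¹).1 = 1 := congrArg Subtype.val
    (show g * u * g⁻¹ * (g * u * g⁻¹) = 1 by
      rw [show g * u * g⁻¹ * (g * u * g⁻¹) = g * (u * u) * g⁻¹ by group, h2]; group)
  have hne : (g * u * g⁻¹).1 ≠ 1 := fun h => h1 (by
    have h' : g * u * g⁻¹ = 1 := Subtype.ext h
    simpa using h')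
  obtain ⟨ha, hb⟩ := normP_invol _ hsq hs hN hne
  have ha' : g * u * g⁻¹ * ea * (g * u * g⁻¹)⁻¹ = ea⁻¹ := Subtype.ext ha
  have hb' : g * u * g⁻¹ * eb * (g * u * g⁻¹)⁻¹ = eb⁻¹ := Subtype.ext hb
  constructor
  · intro x hx
    obtain ⟨i, j, hij⟩ := (hg x).1 hx
    have he : g * x * g⁻¹ = ea ^ (i : ℕ) * eb ^ (j : ℕ) := Subtype.ext (by simpa [ea, eb] using hij)
    have hc : ea ^ (i : ℕ) * eb ^ (j : ℕ) = eb ^ (j : ℕ) * ea ^ (i : ℕ) :=
      ((show Commute ea eb from Subtype.ext (by decide +kernel)).pow_pow _ _).eq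
    have key : g * u * g⁻¹ * (ea ^ (i : ℕ) * eb ^ (j : ℕ)) * (g * u * g⁻¹)⁻¹ =
        (ea ^ (i : ℕ) * eb ^ (j : ℕ))⁻¹ := by
      rw [show g * u * g⁻¹ * (ea ^ (i : ℕ) * eb ^ (j : ℕ)) * (g * u * g⁻¹)⁻¹ =
        (g * u * g⁻¹ * ea ^ (i : ℕ) * (g * u * g⁻¹)⁻¹) *
          (g * u * g⁻¹ * eb ^ (j : ℕ) * (g * u * g⁻¹)⁻¹) by group, ← conj_pow, ← conj_pow, ha',
        hb', inv_pow, inv_pow, ← mul_inv_rev, hc]
    rw [← he] at key
    calc u * x * u⁻¹ = g⁻¹ * (g * u * g⁻¹ * (g * x * g⁻¹) * (g * u * g⁻¹)⁻¹) * g := by group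
      _ = g⁻¹ * (g * x * g⁻¹)⁻¹ * g := by rw [key]
      _ = x⁻¹ := by group
  · obtain ⟨f, hf, hfN, hff⟩ := normP_four _ hsq hs hN hne
    refine ⟨g⁻¹ * ⟨f, Perm.mem_alternatingGroup.2 hf⟩ * g, (conj_normalizer hg _).2 ?_, ?_⟩
    · rw [show g * (g⁻¹ * ⟨f, Perm.mem_alternatingGroup.2 hf⟩ * g) * g⁻¹ =
        (⟨f, Perm.mem_alternatingGroup.2 hf⟩ : A6) by group]
      exact mem_of_normP hfN
    · have h' : (⟨f, Perm.mem_alternatingGroup.2 hf⟩ : A6) * ⟨f, Perm.mem_alternatingGroup.2 hf⟩ =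
          g * u * g⁻¹ := Subtype.ext hff
      calc _ = g⁻¹ * ((⟨f, Perm.mem_alternatingGroup.2 hf⟩ : A6) *
            ⟨f, Perm.mem_alternatingGroup.2 hf⟩) * g := by group
        _ = u := by rw [h']; group

/-- Fourth powers in the normaliser of a Sylow subgroup. -/
theorem six_four {P : Subgroup A6} (hP : Nat.card P = 9) {u : A6}
    (hu : u ∈ Subgroup.normalizer (P : Set A6)) : u * u * (u * u) ∈ P := by
  obtain ⟨g, hg⟩ := exists_conj_pNine hP
  have h := normP_pow _ (Perm.mem_alternatingGroup.1 (g * u * g⁻¹).2)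
    (normP_of_mem ((conj_normalizer hg u).1 hu))
  have h' : g * u * g⁻¹ * (g * u * g⁻¹) * (g * u * g⁻¹ * (g * u * g⁻¹)) ∈ pNine := h
  rw [hg, show g * (u * u * (u * u)) * g⁻¹ =
    g * u * g⁻¹ * (g * u * g⁻¹) * (g * u * g⁻¹ * (g * u * g⁻¹)) by group]
  exact h'

/-- The two double cosets of a Sylow subgroup and its normaliser. -/
theorem six_double {P : Subgroup A6} (hP : Nat.card P = 9) :
    (∃ a : A6, a ∉ Subgroup.normalizer (P : Set A6)) ∧
      ∀ a b : A6, a ∉ Subgroup.normalizer (P : Set A6) → b ∉ Subgroup.normalizer (P : Set A6) →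
        ∃ x ∈ P, a⁻¹ * x * b ∈ Subgroup.normalizer (P : Set A6) := by
  obtain ⟨g, hg⟩ := exists_conj_pNine hP
  obtain ⟨hs, hn, hall⟩ := double_coset
  obtain ⟨e, he⟩ : ∃ e : A6, e.1 = sg := ⟨⟨sg, Perm.mem_alternatingGroup.2 hs⟩, rfl⟩
  have hout : ∀ a : A6, a ∉ Subgroup.normalizer (P : Set A6) →
      ∃ y ∈ pNine, e⁻¹ * y⁻¹ * (g * a * g⁻¹) ∈ Subgroup.normalizer (pNine : Set A6) := by
    intro a ha
    obtain ⟨i, j, h⟩ := hall _ (Perm.mem_alternatingGroup.1 (g * a * g⁻¹).2)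
      fun h => ha ((conj_normalizer hg a).2 (mem_of_normP h))
    refine ⟨ea ^ (i : ℕ) * eb ^ (j : ℕ), ⟨i, j, by simp [ea, eb]⟩, mem_of_normP ?_⟩
    simpa [ea, eb, he] using h
  refine ⟨⟨g⁻¹ * e * g, fun h => hn ?_⟩, fun a b ha hb => ?_⟩
  · have h' := (conj_normalizer hg _).1 h
    rw [show g * (g⁻¹ * e * g) * g⁻¹ = e by group] at h'
    exact he ▸ normP_of_mem h'
  · obtain ⟨y, hy, hya⟩ := hout a ha
    obtain ⟨y', hy', hyb⟩ := hout b hb
    refine ⟨g⁻¹ * (y * y'⁻¹) * g, (hg _).2 ?_, (conj_normalizer hg _).2 ?_⟩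
    · rw [show g * (g⁻¹ * (y * y'⁻¹) * g) * g⁻¹ = y * y'⁻¹ by group]
      exact mul_mem hy (inv_mem hy')
    · have := mul_mem (inv_mem hya) hyb
      rwa [show g * (a⁻¹ * (g⁻¹ * (y * y'⁻¹) * g) * b) * g⁻¹ =
        (e⁻¹ * y⁻¹ * (g * a * g⁻¹))⁻¹ * (e⁻¹ * y'⁻¹ * (g * b * g⁻¹)) by group]

end Alt

end CfsgLib.McLThreeLocal
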