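import Mathlib

/-!
# Concrete facts on the elements of two-power order of the alternating group of degree six
-/

set_option autoImplicit false
set_option maxRecDepth 100000

namespace CfsgLib.McLThreeLocal

open Equiv

/-- The involution `(0 1)(2 3)`. -/
def sv : Perm (Fin 6) := swap 0 1 * swap 2 3

/-- A square root of `sv`. -/
def sf : Perm (Fin 6) := swap 0 2 * swap 2 1 * swap 1 3 * swap 4 5

/-- An element making with `sv` a product of order five. -/
def sh : Perm (Fin 6) := swap 1 2 * swap 3 4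

theorem sv_facts : Perm.sign sf = 1 ∧ sf * sf = sv ∧ Perm.sign sh = 1 ∧ sh * sh = 1 ∧
    (sv * (sh * sv * sh)) * (sv * (sh * sv * sh)) * (sv * (sh * sv * sh)) * (sv * (sh * sv * sh)) *
      (sv * (sh * sv * sh)) = 1 ∧ sv * (sh * sv * sh) ≠ 1 := by
  decide +kernel

theorem sq_sv : ∀ h : Perm (Fin 6), Perm.sign h = 1 → h * h = sv → h = sf ∨ h = sf⁻¹ := by
  decide +kernel

theorem invol_conj : ∀ u : Perm (Fin 6), Perm.sign u = 1 → u * u = 1 → u ≠ 1 →
    ∃ a : Perm (Fin 6), Perm.sign a = 1 ∧ a * u * a⁻¹ = sv := by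
  decide +kernel

theorem pow_eight : ∀ u : Perm (Fin 6), Perm.sign u = 1 →
    (u * u * (u * u)) * (u * u * (u * u)) = 1 → u * u * (u * u) = 1 := by
  decide +kernel

local notation "A6" => alternatingGroup (Fin 6)

/-- No element of order eight. -/
theorem six_eight {u : A6} (h : u ^ 8 = 1) : u ^ 4 = 1 := by
  have e : u ^ 4 = u * u * (u * u) := by simp only [pow_succ, pow_zero, one_mul, mul_assoc]
  have h8 : u ^ 4 * u ^ 4 = 1 := by rw [← pow_add]; exact h
  rw [e] at h8 ⊢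
  exact Subtype.ext (pow_eight u.1 (Perm.mem_alternatingGroup.1 u.2)
    (by simpa using congrArg Subtype.val h8))

theorem exists_conj_sv {u : A6} (h2 : u * u = 1) (h1 : u ≠ 1) :
    ∃ a : A6, (a * u * a⁻¹).1 = sv := by
  obtain ⟨a, ha, hau⟩ := invol_conj u.1 (Perm.mem_alternatingGroup.1 u.2)
    (by simpa using congrArg Subtype.val h2) (fun h => h1 (Subtype.ext h))
  exact ⟨⟨a, Perm.mem_alternatingGroup.2 ha⟩, by simpa using hau⟩

/-- An element of order four is determined up to inversion by its square. -/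
theorem six_sq {f h : A6} (hf4 : f ^ 4 = 1) (hf2 : f * f ≠ 1) (hh : h * h = f * f) :
    h = f ∨ h = f⁻¹ := by
  have h2 : f * f * (f * f) = 1 := by
    rw [← hf4]; simp only [pow_succ, pow_zero, one_mul, mul_assoc]
  obtain ⟨a, ha⟩ := exists_conj_sv h2 hf2
  obtain ⟨e, he⟩ : ∃ e : A6, e.1 = sf := ⟨⟨sf, Perm.mem_alternatingGroup.2 sv_facts.1⟩, rfl⟩
  have key : ∀ x : A6, x * x = f * f → a * x * a⁻¹ = e ∨ a * x * a⁻¹ = e⁻¹ := by
    intro x hx
    have hsq : (a * x * a⁻¹).1 * (a * x * a⁻¹).1 = sv := by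
      rw [← ha, ← hx, ← Subgroup.coe_mul]
      congr 1
      group
    rcases sq_sv _ (Perm.mem_alternatingGroup.1 (a * x * a⁻¹).2) hsq with h | h
    · exact Or.inl (Subtype.ext (h.trans he.symm))
    · exact Or.inr (Subtype.ext (h.trans (by rw [← he]; rfl)))
  have hinj : ∀ x y : A6, a * x * a⁻¹ = a * y * a⁻¹ → x = y := fun x y => (MulAut.conj a).injective
    (a₁ := x) (a₂ := y)
  rcases key h hh with p | p <;> rcases key f rfl with q | q
  · exact Or.inl (hinj _ _ (p.trans q.symm))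
  · exact Or.inr (hinj _ _ (by rw [p, show a * f⁻¹ * a⁻¹ = (a * f * a⁻¹)⁻¹ by group, q, inv_inv]))
  · exact Or.inr (hinj _ _ (by rw [p, show a * f⁻¹ * a⁻¹ = (a * f * a⁻¹)⁻¹ by group, q]))
  · exact Or.inl (hinj _ _ (p.trans q.symm))

/-- An involution and a conjugate with product of order five. -/
theorem six_invol_five {u : A6} (h2 : u * u = 1) (h1 : u ≠ 1) :
    ∃ a : A6, (u * (a * u * a⁻¹)) ^ 5 = 1 ∧ u * (a * u * a⁻¹) ≠ 1 := by
  obtain ⟨b, hb⟩ := exists_conj_sv h2 h1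
  obtain ⟨-, -, hs, hh2, h5, hne⟩ := sv_facts
  obtain ⟨e, he⟩ : ∃ e : A6, e.1 = sh := ⟨⟨sh, Perm.mem_alternatingGroup.2 hs⟩, rfl⟩
  have hei : e.1⁻¹ = sh := by rw [he]; exact inv_eq_of_mul_eq_one_right hh2
  refine ⟨b⁻¹ * e * b, ?_⟩
  obtain ⟨p, hp⟩ : ∃ p, p = u * (b⁻¹ * e * b * u * (b⁻¹ * e * b)⁻¹) := ⟨_, rfl⟩
  have hpe : (b * p * b⁻¹).1 = sv * (sh * sv * sh) := by
    rw [hp, show b * (u * (b⁻¹ * e * b * u * (b⁻¹ * e * b)⁻¹)) * b⁻¹ =
      b * u * b⁻¹ * (e * (b * u * b⁻¹) * e⁻¹) by group]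
    push_cast
    push_cast at hb
    rw [hei, he, hb]
  rw [← hp]
  constructor
  · have : (b * p * b⁻¹) ^ 5 = 1 := Subtype.ext (by
      rw [SubgroupClass.coe_pow, hpe, OneMemClass.coe_one]
      simpa only [pow_succ, pow_zero, one_mul] using h5)
    rw [conj_pow] at this
    simpa using this
  · intro h
    refine hne ?_
    rw [← hpe, h]
    simp

end CfsgLib.McLThreeLocal
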