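import Cfsg.Agent.McLThreeLocal.Split

/-!
# The elements `w`, `j`, and the action of `t` on the Sylow subgroup
-/

set_option autoImplicit false
set_option linter.style.haveILetI false
set_option linter.unusedSectionVars false

namespace CfsgLib.McLThreeLocal

namespace Setup

variable {G : Type*} [Group G] [Finite G] (c : Setup G)
include c

theorem fin_cases_zpow {x : G} (h : x ^ 3 = 1) {y : G} (hy : y ∈ Subgroup.zpowers x) :
    ∃ i : Fin 3, y = x ^ (i : ℕ) := by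
  obtain ⟨k, rfl⟩ := hy
  refine ⟨⟨(k % 3).toNat, by omega⟩, ?_⟩
  show x ^ k = x ^ (k % 3).toNat
  rw [← zpow_natCast x (k % 3).toNat, Int.toNat_of_nonneg (by omega)]
  conv_lhs => rw [← Int.emod_add_mul_ediv k 3, zpow_add, zpow_mul, show x ^ (3 : ℤ) = 1 by
    exact_mod_cast h, one_zpow, mul_one]

theorem z_pow_comm {l : G} (hl : l ∈ c.L) {u : G} (hu : u ∈ Subgroup.zpowers c.z) :
    l * u = u * l := by
  obtain ⟨k, rfl⟩ := hu
  exact ((show Commute l c.z from c.L_comm l hl).zpow_right k).eq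

/-- The element of order three of the complement lying in the Sylow subgroup. -/
noncomputable def w : G := c.σ x0

/-- The element of order four inverting it. -/
noncomputable def j : G := c.σ j0

theorem w_cube : c.w ^ 3 = 1 := by
  rw [w, ← map_pow, pow_succ, sq, x0_facts.1, map_one]

theorem w_ne : c.w ≠ 1 := fun h => x0_facts.2 (c.σ_inj (h.trans (map_one _).symm))

theorem w_mem_L : c.w ∈ c.L := c.σ_mem _

theorem j_mem_L : c.j ∈ c.L := c.σ_mem _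

theorem j_z : c.j * c.z = c.z * c.j := c.z_σ _

theorem w_z : c.w * c.z = c.z * c.w := c.z_σ _

theorem j_sq : c.j * c.j = c.t := by rw [j, ← map_mul, j0_facts.1, c.σ_ee]

theorem j_w : c.j * c.w * c.j⁻¹ = c.w⁻¹ := by
  rw [j, w, ← map_inv, ← map_mul, ← map_mul, j0_facts.2.1, map_inv]

theorem j_t : c.j * c.t = c.t * c.j := (c.t_σ _).symm

theorem t_w : c.t * c.w = c.w * c.t := c.t_σ _

theorem t_conj_mul (x y : G) : c.t * (x * y) * c.t = c.t * x * c.t * (c.t * y * c.t) := by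
  rw [show c.t * x * c.t * (c.t * y * c.t) = c.t * x * (c.t * c.t) * y * c.t by group, c.t_sq]
  group

/-- The Sylow subgroup is the preimage of the subgroup generated by `x0`. -/
theorem mem_S_iff {l : G} (hl : l ∈ c.L) :
    l ∈ c.S ↔ ∃ i : Fin 3, c.p ⟨l, hl⟩ = x0 ^ (i : ℕ) := by
  refine ⟨fun h => c.p_S ⟨l, hl⟩ h, fun ⟨i, hi⟩ => ?_⟩
  let A : Subgroup c.L := (Subgroup.zpowers x0).comap c.p
  have hle : c.S.subgroupOf c.L ≤ A := fun x hx => by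
    obtain ⟨k, hk⟩ := c.p_S x hx
    show c.p x ∈ Subgroup.zpowers x0
    rw [hk]
    exact pow_mem (Subgroup.mem_zpowers _) _
  have hcard : Nat.card A ≤ 729 := by
    let f : A →* Subgroup.zpowers x0 := (c.p.comp A.subtype).codRestrict _ fun a => a.2
    have h := Subgroup.card_eq_card_quotient_mul_card_subgroup f.ker
    have h1 : Nat.card (A ⧸ f.ker) ≤ 3 := by
      rw [Nat.card_congr (QuotientGroup.quotientKerEquivRange f).toEquiv]
      refine (Subgroup.card_le_card_group f.range).trans_eq ?_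
      rw [Nat.card_zpowers, orderOf_eq_prime (p := 3) (by rw [pow_succ, sq]; exact x0_facts.1)
        x0_facts.2]
    have h2 : Nat.card f.ker ≤ 243 := by
      rw [← c.card_Q]
      exact Nat.card_le_card_of_injective
        (fun x => (⟨((x : A) : c.L).1, (c.p_ker _).1 (congrArg Subtype.val x.2)⟩ : c.Q))
        fun x y hxy => Subtype.ext (Subtype.ext (Subtype.ext (congrArg Subtype.val hxy :)))
    rw [h]
    calc _ ≤ 3 * 243 := Nat.mul_le_mul h1 h2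
      _ = 729 := by norm_num
  have heq : c.S.subgroupOf c.L = A := Subgroup.eq_of_le_of_card_ge hle (by
    rw [Nat.card_congr (Subgroup.subgroupOfEquivOfLe c.S_le_L).toEquiv, c.card_S]; exact hcard)
  have : (⟨l, hl⟩ : c.L) ∈ A := by
    show c.p ⟨l, hl⟩ ∈ Subgroup.zpowers x0
    rw [hi]
    exact pow_mem (Subgroup.mem_zpowers _) _
  rwa [← heq] at this

theorem w_mem_S : c.w ∈ c.S :=
  (c.mem_S_iff c.w_mem_L).2 ⟨1, by
    show c.p ⟨c.σ x0, _⟩ = _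
    rw [c.p_σ]; simp⟩

/-- Elements of `L` normalising the image of `S` normalise `S` and `J`. -/
theorem norm_S_of_p {l : G} (hl : l ∈ c.L)
    (h : ∀ i : Fin 3, ∃ k : Fin 3, c.p ⟨l, hl⟩ * x0 ^ (i : ℕ) * (c.p ⟨l, hl⟩)⁻¹ = x0 ^ (k : ℕ)) :
    l ∈ Subgroup.normalizer (c.S : Set G) := by
  refine mem_norm_of_conj fun s hs => ?_
  have hsL := c.S_le_L hs
  obtain ⟨i, hi⟩ := c.p_S ⟨s, hsL⟩ hs
  obtain ⟨k, hk⟩ := h i
  refine (c.mem_S_iff (mul_mem (mul_mem hl hsL) (inv_mem hl))).2 ⟨k, ?_⟩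
  rw [← hk, ← hi, ← map_inv, ← map_mul, ← map_mul]
  rfl

theorem norm_J_of_norm_S {g : G} (hg : g ∈ Subgroup.normalizer (c.S : Set G)) :
    g ∈ Subgroup.normalizer (c.J : Set G) := by
  refine mem_norm_of_conj fun x hx => ?_
  have h := c.eq_J c.card_S c.J_le_S (A := c.J.map (MulAut.conj g).toMonoidHom)
    (by rintro _ ⟨b, hb, rfl⟩; exact conj_mem_of_norm hg (c.J_le_S hb))
    (by rw [Subgroup.card_map_of_injective (MulAut.conj g).injective, c.card_J])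
    (by rintro _ ⟨b, hb, rfl⟩ _ ⟨b', hb', rfl⟩; rw [← map_mul, ← map_mul, c.J_comm b hb b' hb'])
    (by rintro _ ⟨b, hb, rfl⟩; rw [← map_pow, c.J_exp b hb, map_one])
  rw [← h]
  exact ⟨x, hx, rfl⟩

theorem t_norm_S : c.t ∈ Subgroup.normalizer (c.S : Set G) :=
  c.norm_S_of_p c.t_mem fun i => ⟨i, by
    rw [c.p_t, ee_central, mul_assoc, mul_inv_cancel, mul_one]⟩

theorem t_norm_J : c.t ∈ Subgroup.normalizer (c.J : Set G) := c.norm_J_of_norm_S c.t_norm_S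

theorem j_norm_S : c.j ∈ Subgroup.normalizer (c.S : Set G) :=
  c.norm_S_of_p c.j_mem_L fun i => ⟨-i, by
    rw [show c.p ⟨c.j, c.j_mem_L⟩ = j0 from c.p_σ j0]
    revert i
    decide +kernel⟩

theorem j_norm_J : c.j ∈ Subgroup.normalizer (c.J : Set G) := c.norm_J_of_norm_S c.j_norm_S

theorem t_conj_J {x : G} (hx : x ∈ c.J) : c.t * x * c.t ∈ c.J := by
  have h := conj_mem_of_norm c.t_norm_J hx
  rwa [c.t_inv] at h

theorem exists_J_out : ∃ a ∈ c.J, a ∉ c.Q ∧ c.t * a = a * c.t := by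
  obtain ⟨a, haJ, haQ⟩ : ∃ a ∈ c.J, a ∉ c.Q := SetLike.not_le_iff_exists.1 c.J_not_le_Q
  have hd := c.t_comm_mod (c.S_le_L (c.J_le_S haJ))
  have hdJ : a⁻¹ * (c.t * a * c.t) ∈ c.J := mul_mem (inv_mem haJ) (c.t_conj_J haJ)
  exact ⟨_, mul_mem haJ (pow_mem hdJ 2),
    fun h => haQ ((Subgroup.mul_mem_cancel_right _ (pow_mem hd 2)).1 h),
    exists_comm_invol c.t_sq (c.J_exp _ hdJ)⟩

theorem mem_L_cent_S {l : G} (hl : l ∈ c.S) (ht : c.t * l = l * c.t) :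
    ∃ i k : Fin 3, l = c.z ^ (i : ℕ) * c.w ^ (k : ℕ) := by
  obtain ⟨u, hu, x, hx⟩ := c.mem_L_cent (c.S_le_L hl) ht
  obtain ⟨k, hk⟩ := c.p_S ⟨l, c.S_le_L hl⟩ hl
  have hux : c.p ⟨l, c.S_le_L hl⟩ = x := by
    have hq : u ∈ c.Q := Subgroup.zpowers_le.2 c.z_mem_Q hu
    rw [show (⟨l, c.S_le_L hl⟩ : c.L) = ⟨u, c.Q_le hq⟩ * ⟨c.σ x, c.σ_mem x⟩ from Subtype.ext hx,
      map_mul, c.p_σ, (c.p_ker ⟨u, c.Q_le hq⟩).2 hq, one_mul]
  obtain ⟨i, rfl⟩ := c.fin_cases_zpow c.z_cube hu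
  exact ⟨i, k, by rw [hx, ← hux, hk, map_pow]; rfl⟩

theorem w_mem_J : c.w ∈ c.J := by
  obtain ⟨a, haJ, haQ, hat⟩ := c.exists_J_out
  obtain ⟨i, k, rfl⟩ := c.mem_L_cent_S (c.J_le_S haJ) hat
  have hwk : c.w ^ (k : ℕ) ∈ c.J := (Subgroup.mul_mem_cancel_left _ (pow_mem c.z_mem_J _)).1 haJ
  fin_cases k
  · exact absurd (by simpa using pow_mem c.z_mem_Q (i : ℕ)) haQ
  · simpa using hwk
  · have h4 : c.w = (c.w ^ 2) ^ 2 := by rw [← pow_mul, pow_succ, c.w_cube, one_mul]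
    rw [h4]
    exact pow_mem (by simpa using hwk) 2

theorem grid_mem_J (i k : ℕ) : c.z ^ i * c.w ^ k ∈ c.J :=
  mul_mem (pow_mem c.z_mem_J _) (pow_mem c.w_mem_J _)

theorem w_not_Q : c.w ∉ c.Q := fun h => x0_facts.2 (by
  have := (c.p_ker ⟨c.w, c.w_mem_L⟩).2 h
  rwa [show c.p ⟨c.w, c.w_mem_L⟩ = x0 from c.p_σ x0] at this)

theorem w_pow_Q {k : Fin 3} (h : c.w ^ (k : ℕ) ∈ c.Q) : k = 0 := by
  fin_cases k
  · rfl
  · exact absurd (by simpa using h) c.w_not_Q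
  · refine absurd ?_ c.w_not_Q
    have h4 : c.w = (c.w ^ 2) ^ 2 := by rw [← pow_mul, pow_succ, c.w_cube, one_mul]
    rw [h4]
    exact pow_mem (by simpa using h) 2

theorem grid_inj {i k i' k' : Fin 3}
    (h : c.z ^ (i : ℕ) * c.w ^ (k : ℕ) = c.z ^ (i' : ℕ) * c.w ^ (k' : ℕ)) : i = i' ∧ k = k' := by
  have hp : ∀ a b : Fin 3, c.p ⟨c.z ^ (a : ℕ) * c.w ^ (b : ℕ),
      mul_mem (c.Q_le (pow_mem c.z_mem_Q _)) (pow_mem c.w_mem_L _)⟩ = x0 ^ (b : ℕ) := fun a b => by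
    rw [show (⟨c.z ^ (a : ℕ) * c.w ^ (b : ℕ),
      mul_mem (c.Q_le (pow_mem c.z_mem_Q _)) (pow_mem c.w_mem_L _)⟩ : c.L) =
      ⟨c.z, c.Q_le c.z_mem_Q⟩ ^ (a : ℕ) * ⟨c.w, c.w_mem_L⟩ ^ (b : ℕ) from Subtype.ext (by simp),
      map_mul, map_pow, map_pow, (c.p_ker ⟨c.z, c.Q_le c.z_mem_Q⟩).2 c.z_mem_Q, one_pow, one_mul,
      show c.p ⟨c.w, c.w_mem_L⟩ = x0 from c.p_σ x0]
  have hk : k = k' := by
    have key : ∀ a b : Fin 3, x0 ^ (a : ℕ) = x0 ^ (b : ℕ) → a = b := by decide +kernel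
    apply key
    rw [← hp i k, ← hp i' k']
    congr 1
    exact Subtype.ext h
  subst hk
  refine ⟨Fin.ext (pow_injOn_Iio_orderOf ?_ ?_ (mul_right_cancel h)), rfl⟩
  · rw [c.z_order]; exact i.2
  · rw [c.z_order]; exact i'.2

/-- Decomposition of the Sylow subgroup. -/
theorem S_decomp {s : G} (hs : s ∈ c.S) : ∃ q ∈ c.Q, ∃ k : Fin 3, s = q * c.w ^ (k : ℕ) := by
  obtain ⟨k, hk⟩ := c.p_S ⟨s, c.S_le_L hs⟩ hs
  refine ⟨s * (c.w ^ (k : ℕ))⁻¹, ?_, k, (inv_mul_cancel_right _ _).symm⟩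
  exact (c.p_ker (⟨s, c.S_le_L hs⟩ * (⟨_, pow_mem c.w_mem_L _⟩ : c.L)⁻¹)).1 (by
    rw [map_mul, map_inv, hk, show c.p (⟨c.w ^ (k : ℕ), pow_mem c.w_mem_L _⟩ : c.L) = x0 ^ (k : ℕ) by
      rw [show (⟨c.w ^ (k : ℕ), pow_mem c.w_mem_L _⟩ : c.L) = ⟨c.w, c.w_mem_L⟩ ^ (k : ℕ) from
        Subtype.ext (by simp), map_pow, show c.p ⟨c.w, c.w_mem_L⟩ = x0 from c.p_σ x0],
      mul_inv_cancel])

/-- `t` inverts `Q` modulo the centre. -/
theorem t_invert_Q {q : G} (hq : q ∈ c.Q) : q * (c.t * q * c.t) ∈ Subgroup.zpowers c.z := by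
  have htq : c.t * q * c.t ∈ c.Q := by
    have h := conj_mem_of_norm c.t_norm_Q hq
    rwa [c.t_inv] at h
  have hy : q * (c.t * q * c.t) ∈ c.Q := mul_mem hq htq
  have e : c.t * (q * (c.t * q * c.t)) * c.t⁻¹ = c.t * q * c.t * q := by
    rw [c.t_inv, c.t_conj_mul, show c.t * (c.t * q * c.t) * c.t = c.t * c.t * q * (c.t * c.t) by group,
      c.t_sq, one_mul, mul_one]
  obtain ⟨v, hv, hvx⟩ : ∃ v ∈ Subgroup.zpowers c.z,
      c.t * q * c.t * q = q * (c.t * q * c.t) * v := by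
    have hv := c.Q_comm _ htq _ hq
    refine ⟨_, hv, ?_⟩
    rw [c.z_pow_comm (c.Q_le hy) hv]
    group
  exact c.fix_Q hy (comm_of_conj (fix_of_shift (e.trans hvx) (conj_of_comm (c.z_pow_comm c.t_mem hv))
    (n := 2) (by rw [sq, c.t_sq]) (c.J_exp v (c.Z_le_J hv)) (by norm_num)))

/-- `t` inverts `S` modulo `J`. -/
theorem t_invert_S {s : G} (hs : s ∈ c.S) : s * (c.t * s * c.t) ∈ c.J := by
  obtain ⟨q, hq, k, rfl⟩ := c.S_decomp hs
  have hw : c.t * c.w ^ (k : ℕ) * c.t = c.w ^ (k : ℕ) := by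
    rw [((show Commute c.t c.w from c.t_w).pow_right _).eq, mul_assoc, c.t_sq, mul_one]
  rw [c.t_conj_mul, hw]
  obtain ⟨r, hr, hqr⟩ : ∃ r ∈ c.Q, c.t * q * c.t = r :=
    ⟨_, by have h := conj_mem_of_norm c.t_norm_Q hq; rwa [c.t_inv] at h, rfl⟩
  have hqrJ : q * r ∈ c.J := c.Z_le_J (hqr ▸ c.t_invert_Q hq)
  rw [hqr, show q * c.w ^ (k : ℕ) * (r * c.w ^ (k : ℕ)) =
    q * r * (r⁻¹ * c.w ^ (k : ℕ) * r) * c.w ^ (k : ℕ) by group]
  refine mul_mem (mul_mem hqrJ ?_) (pow_mem c.w_mem_J _)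
  have h := conj_mem_of_norm (inv_mem (c.S_norm_J (c.Q_le_S hr))) (pow_mem c.w_mem_J (k : ℕ))
  rwa [inv_inv] at h

theorem S_cube {s : G} (hs : s ∈ c.S) : s ^ 3 ∈ c.J := by
  obtain ⟨q, hq, k, rfl⟩ := c.S_decomp hs
  have hn := c.S_norm_J (c.Q_le_S hq)
  have hw := pow_mem c.w_mem_J (k : ℕ)
  rw [show (q * c.w ^ (k : ℕ)) ^ 3 = (q * c.w ^ (k : ℕ) * q⁻¹) * (q ^ 2 * c.w ^ (k : ℕ) * (q ^ 2)⁻¹) *
    (q ^ 3 * c.w ^ (k : ℕ)) by simp only [pow_succ, pow_zero, one_mul]; group, c.Q_exp q hq, one_mul]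
  exact mul_mem (mul_mem (conj_mem_of_norm hn hw) (conj_mem_of_norm (pow_mem hn 2) hw)) hw

end Setup

end CfsgLib.McLThreeLocal
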