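import Cfsg.Agent.McLThreeLocal.Quot
import Cfsg.Agent.AltEightLocal.Main
import Cfsg.Agent.S3344

/-!
# Case A: `C(t)` modulo `t` is the alternating group of degree eight
-/

set_option autoImplicit false
set_option linter.style.haveILetI false
set_option linter.unusedSectionVars false

namespace CfsgLib.McLThreeLocal

open CfsgLib.AltEightLocal (Local Hyp cyc flip three_cycle sign_facts mul_facts)

universe u

namespace Setup

variable {G : Type u} [Group G] [Finite G] (c : Setup G)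
include c

theorem wb_cube : c.wb ^ 3 = 1 := by
  rw [wb, ← map_pow, show (⟨c.w, c.w_mem_X⟩ : c.X) ^ 3 = 1 from Subtype.ext c.w_cube, map_one]

theorem zb_wb : c.zb * c.wb = c.wb * c.zb := by
  rw [zb, wb, ← map_mul, ← map_mul]
  congr 1
  exact Subtype.ext c.w_z.symm

theorem exists_local (hA : c.CaseA) : ∃ L : Local c.zb, L.al cyc = c.wb := by
  let L : Local c.zb :=
    { al := c.al
      inj := c.al_inj
      comm := fun _ h => c.al_comm h
      inv := fun _ h => c.al_inv h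
      surj := fun _ h => c.al_surj hA h
      cube := c.zb_cube
      ne := c.zb_ne }
  obtain ⟨p, hp3, hp1, hpw⟩ := c.al_w
  obtain ⟨-, r, hr⟩ := three_cycle p hp3 hp1
  exact ⟨L.relabel r, (congrArg c.al hr).trans hpw⟩

theorem selfC (hA : c.CaseA) {g : c.Xb} (hz : g * c.zb = c.zb * g) (hw : g * c.wb = c.wb * g) :
    ∃ i k : Fin 3, g = c.zb ^ (i : ℕ) * c.wb ^ (k : ℕ) := by
  obtain ⟨a, rfl⟩ := c.π_surj g
  obtain ⟨i, k, m, h⟩ := c.caseA_cent_R hA (c.lift_comm (x := ⟨c.z, c.z_mem_X⟩) c.z_cube hz)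
    (c.lift_comm (x := ⟨c.w, c.w_mem_X⟩) c.w_cube hw) (c.mem_X.1 a.2)
  refine ⟨i, k, ?_⟩
  rw [zb, wb, ← map_pow, ← map_pow, ← map_mul, eq_comm, c.π_eq_iff]
  push_cast
  fin_cases m
  · left
    rw [h]; simp
  · right
    rw [h]; simp

theorem exists_hyp (hA : c.CaseA) (hn : c.NormN) : Nonempty (Hyp c.Xb) := by
  classical
  haveI : Fact (Nat.Prime 3) := ⟨Nat.prime_three⟩
  obtain ⟨L, hLw⟩ := c.exists_local hA
  have hz3 := c.zb_cube
  have hw3 := c.wb_cube
  obtain ⟨D, hDdef⟩ : ∃ D : Subgroup c.Xb, D = Subgroup.closure {c.zb, c.wb} := ⟨_, rfl⟩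
  have hzD : c.zb ∈ D := hDdef ▸ Subgroup.subset_closure (by simp)
  have hwD : c.wb ∈ D := hDdef ▸ Subgroup.subset_closure (by simp)
  have hgridD : ∀ i k : ℕ, c.zb ^ i * c.wb ^ k ∈ D := fun i k =>
    mul_mem (pow_mem hzD i) (pow_mem hwD k)
  have hzw : Commute c.zb c.wb := c.zb_wb
  have hDc : ∀ d ∈ D, d * c.zb = c.zb * d ∧ d * c.wb = c.wb * d := by
    intro d hd
    rw [hDdef] at hd
    induction hd using Subgroup.closure_induction with
    | mem x hx =>
      rcases hx with rfl | rfl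
      · exact ⟨rfl, hzw.eq⟩
      · exact ⟨hzw.eq.symm, rfl⟩
    | one => simp
    | mul x y _ _ hx hy =>
      exact ⟨((show Commute x c.zb from hx.1).mul_left hy.1).eq,
        ((show Commute x c.wb from hx.2).mul_left hy.2).eq⟩
    | inv x _ hx => exact ⟨(show Commute x c.zb from hx.1).inv_left.eq,
        (show Commute x c.wb from hx.2).inv_left.eq⟩
  have hgrid : ∀ d ∈ D, ∃ i k : Fin 3, d = c.zb ^ (i : ℕ) * c.wb ^ (k : ℕ) := fun d hd =>
    c.selfC hA (hDc d hd).1 (hDc d hd).2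
  have hinjD : ∀ {i k i' k' : Fin 3}, c.zb ^ (i : ℕ) * c.wb ^ (k : ℕ) =
      c.zb ^ (i' : ℕ) * c.wb ^ (k' : ℕ) → i = i' ∧ k = k' := fun h => L.grid_inj (by rwa [hLw])
  obtain ⟨u, hut, huz, huw⟩ := c.exists_exchange
  obtain ⟨v, hv⟩ : ∃ v, v = c.π ⟨u, c.mem_X.2 hut.symm⟩ := ⟨_, rfl⟩
  have hvz : v * c.zb * v⁻¹ = c.wb := by
    rw [hv, zb, wb, ← map_inv, ← map_mul, ← map_mul]
    congr 1
    exact Subtype.ext huz
  have hvw : v * c.wb * v⁻¹ = c.zb := by
    rw [hv, zb, wb, ← map_inv, ← map_mul, ← map_mul]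
    congr 1
    exact Subtype.ext huw
  -- an involution exchanging `zb` and `wb`
  obtain ⟨cc, hcdef⟩ : ∃ cc, L.al flip = cc := ⟨_, rfl⟩
  have hcz : cc * c.zb * cc⁻¹ = c.zb⁻¹ := hcdef ▸ L.inv _ sign_facts.2.1
  have hcw : cc * c.wb * cc⁻¹ = c.wb⁻¹ := by
    rw [← hcdef, ← hLw, ← map_inv, ← map_inv, ← map_mul, ← map_mul]
    exact congrArg L.al (by decide +kernel)
  have hvv : ∃ i k : Fin 3, v * v = c.zb ^ (i : ℕ) * c.wb ^ (k : ℕ) := by
    refine c.selfC hA (comm_of_conj ?_) (comm_of_conj ?_)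
    · rw [conj_conj, hvz, hvw]
    · rw [conj_conj, hvw, hvz]
  obtain ⟨i₀, k₀, hd₀⟩ := hvv
  have hvD : v * v ∈ D := hd₀ ▸ hgridD _ _
  have hcube : ∀ d ∈ D, d * d * d = 1 := fun d hd => by
    obtain ⟨i, k, rfl⟩ := hgrid d hd
    have h3 : (c.zb ^ (i : ℕ) * c.wb ^ (k : ℕ)) ^ 3 = 1 := by
      rw [(hzw.pow_pow _ _).mul_pow, ← pow_mul, ← pow_mul, Nat.mul_comm, pow_mul, hz3, one_pow,
        one_mul, Nat.mul_comm, pow_mul, hw3, one_pow]
    simpa only [pow_succ, pow_zero, one_mul] using h3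
  obtain ⟨u₀, hu₀⟩ : ∃ u₀, u₀ = v * (v * v) := ⟨_, rfl⟩
  have hu₀sq : u₀ * u₀ = 1 := by
    rw [hu₀, show v * (v * v) * (v * (v * v)) = v * v * (v * v) * (v * v) by group]
    exact hcube _ hvD
  have hu₀i : u₀⁻¹ = u₀ := inv_eq_of_mul_eq_one_right hu₀sq
  have hu₀z : u₀ * c.zb * u₀⁻¹ = c.wb := by
    rw [hu₀, conj_conj, conj_of_comm (hDc _ hvD).1, hvz]
  have hu₀w : u₀ * c.wb * u₀⁻¹ = c.zb := by
    rw [hu₀, conj_conj, conj_of_comm (hDc _ hvD).2, hvw]
  obtain ⟨d, hd⟩ : ∃ d, d = u₀ * cc * u₀ * cc := ⟨_, rfl⟩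
  have hcsq : cc * cc = 1 := by rw [← hcdef]; exact L.al_sq mul_facts.2.2.1
  have hci : cc⁻¹ = cc := inv_eq_of_mul_eq_one_right hcsq
  have hdD : d ∈ D := by
    have h1 : d * c.zb * d⁻¹ = c.zb := by
      rw [hd, conj_conj, hcz, conj_conj, ← conj_inv, hu₀z, conj_conj, ← conj_inv, hcw, inv_inv, hu₀w]
    have h2 : d * c.wb * d⁻¹ = c.wb := by
      rw [hd, conj_conj, hcw, conj_conj, ← conj_inv, hu₀w, conj_conj, ← conj_inv, hcz, inv_inv, hu₀z]
    obtain ⟨i, k, rfl⟩ := c.selfC hA (comm_of_conj h1) (comm_of_conj h2)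
    exact hgridD _ _
  have hud : u₀ * d * u₀ = d⁻¹ := by
    rw [hd]
    simp [mul_assoc, hu₀i, hci]
    simp [← mul_assoc, hu₀sq]
  have hcd : cc * d * cc⁻¹ = d⁻¹ := by
    obtain ⟨i, k, hik⟩ := hgrid d hdD
    rw [hik, show cc * (c.zb ^ (i : ℕ) * c.wb ^ (k : ℕ)) * cc⁻¹ =
      (cc * c.zb * cc⁻¹) ^ (i : ℕ) * (cc * c.wb * cc⁻¹) ^ (k : ℕ) by rw [conj_pow, conj_pow]; group,
      hcz, hcw, inv_pow, inv_pow, mul_inv_rev]
    exact ((hzw.pow_pow _ _).inv_inv).eq
  have hd3 := hcube d hdD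
  -- no larger Sylow subgroup
  have hlift : ∀ x ∈ D, ∃ i k : Fin 3, x = c.π ⟨c.z ^ (i : ℕ) * c.w ^ (k : ℕ),
      mul_mem (pow_mem c.z_mem_X _) (pow_mem c.w_mem_X _)⟩ := by
    intro x hx
    obtain ⟨i, k, rfl⟩ := hgrid x hx
    refine ⟨i, k, ?_⟩
    rw [zb, wb, ← map_pow, ← map_pow, ← map_mul]
    rfl
  have hline : ∀ τ : c.Xb, τ * c.zb * τ⁻¹ ∈ D → τ * c.wb * τ⁻¹ ∈ D →
      τ * τ * (τ * τ) * c.zb = c.zb * (τ * τ * (τ * τ)) ∧
        τ * τ * (τ * τ) * c.wb = c.wb * (τ * τ * (τ * τ)) := by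
    intro τ h1 h2
    obtain ⟨a, rfl⟩ := c.π_surj τ
    have key : ∀ (x : G) (hx : x ∈ c.X), x ^ 3 = 1 → c.IsPt x →
        c.π a * c.π ⟨x, hx⟩ * (c.π a)⁻¹ ∈ D →
          ∃ p : Fin 3, p ≠ 0 ∧ ((a : G) * x * (a : G)⁻¹ = c.z ^ (p : ℕ) ∨
            (a : G) * x * (a : G)⁻¹ = c.w ^ (p : ℕ)) := by
      intro x hx hx3 hxp hmem
      obtain ⟨i, k, hik⟩ := hlift _ hmem
      have he := c.lift_conj (x := ⟨x, hx⟩) hx3
        (c.J_exp _ (c.grid_mem_J _ _)) hik
      change (a : G) * x * (a : G)⁻¹ = c.z ^ (i : ℕ) * c.w ^ (k : ℕ) at he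
      obtain ⟨m, hm, hxm | hxm⟩ := hxp
      all_goals
        have hconj : ∀ y, (a : G) * (m * y * m⁻¹) * (a : G)⁻¹ =
            ((a : G) * m) * y * ((a : G) * m)⁻¹ := fun y => by group
        have hp : c.IsPt ((a : G) * x * (a : G)⁻¹) := by
          rw [hxm, hconj]
          first
            | exact c.isPt_of_conj (by rw [← hconj, ← hxm, he]; exact c.grid_mem_J _ _)
            | (have h' := (c.isPt_of_conj (g := (a : G) * m) (by
                  rw [← inv_inv ((a : G) * m * c.z * ((a : G) * m)⁻¹)]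
                  refine inv_mem ?_
                  rw [conj_inv, ← hconj, ← hxm, he]
                  exact c.grid_mem_J _ _)).inv c
               rwa [conj_inv] at h')
        rcases c.grid_pt' (he ▸ hp) with h0 | h0
        · refine ⟨k, fun e => hp.ne_one c ?_, Or.inr ?_⟩
          · rw [he, h0, e]; simp
          · rw [he, h0]; simp
        · refine ⟨i, fun e => hp.ne_one c ?_, Or.inl ?_⟩
          · rw [he, h0, e]; simp
          · rw [he, h0]; simp
    obtain ⟨p, hp0, hp⟩ := key c.z c.z_mem_X c.z_cube c.isPt_z h1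
    obtain ⟨q, hq0, hq⟩ := key c.w c.w_mem_X c.w_cube c.isPt_w h2
    have hpow : ∀ (x : G) (n : Fin 3), (a : G) * x ^ (n : ℕ) * (a : G)⁻¹ =
        ((a : G) * x * (a : G)⁻¹) ^ (n : ℕ) := fun x n => (conj_pow).symm
    have cancel : ∀ x y : G, (a : G) * x * (a : G)⁻¹ = (a : G) * y * (a : G)⁻¹ → x = y :=
      fun x y h => (MulAut.conj (a : G)).injective h
    have hne : ∀ i k : Fin 3, i ≠ 0 → c.z ^ (i : ℕ) ≠ c.w ^ (k : ℕ) := fun i k hi h =>
      hi (c.grid_inj (i := i) (k := 0) (i' := 0) (k' := k) (by simpa using h)).1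
    have hqq : ∀ p q : Fin 3, p ≠ 0 → q ≠ 0 → p * q * (p * q) = 1 := by decide
    -- the square fixes both lines up to sign
    have h4 : (a : G) * a * ((a : G) * a) * c.z = c.z * ((a : G) * a * ((a : G) * a)) ∧
        (a : G) * a * ((a : G) * a) * c.w = c.w * ((a : G) * a * ((a : G) * a)) := by
      rcases hp with hp | hp <;> rcases hq with hq | hq
      · exfalso
        refine hne (p * q) 1 ?_ (cancel _ _ ?_)
        · intro e
          have := hqq p q hp0 hq0
          rw [e] at this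
          exact absurd this (by decide)
        · rw [hpow, hp, show c.w ^ ((1 : Fin 3) : ℕ) = c.w from pow_one _, hq,
            ← pow_fin_mul c.z_cube]
          congr 1
          have key2 : ∀ p q : Fin 3, p ≠ 0 → q ≠ 0 → p * (p * q) = q := by decide
          rw [key2 p q hp0 hq0]
      · constructor <;> refine comm_of_conj ?_
        · rw [conj_conj, conj_conj, conj_conj, hp, hpow, hp, ← pow_fin_mul c.z_cube, hpow, hp,
            ← pow_fin_mul c.z_cube, hpow, hp, ← pow_fin_mul c.z_cube]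
          have key2 : ∀ p : Fin 3, p ≠ 0 → p * (p * (p * p)) = 1 := by decide
          rw [key2 p hp0]; simp
        · rw [conj_conj, conj_conj, conj_conj, hq, hpow, hq, ← pow_fin_mul c.w_cube, hpow, hq,
            ← pow_fin_mul c.w_cube, hpow, hq, ← pow_fin_mul c.w_cube]
          have key2 : ∀ p : Fin 3, p ≠ 0 → p * (p * (p * p)) = 1 := by decide
          rw [key2 q hq0]; simp
      · constructor <;> refine comm_of_conj ?_
        · rw [conj_conj, conj_conj, conj_conj, hp, hpow, hq, ← pow_fin_mul c.z_cube, hpow, hp,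
            ← pow_fin_mul c.w_cube, hpow, hq, ← pow_fin_mul c.z_cube]
          have key2 : ∀ p q : Fin 3, p ≠ 0 → q ≠ 0 → q * (p * (q * p)) = 1 := by decide
          rw [key2 p q hp0 hq0]; simp
        · rw [conj_conj, conj_conj, conj_conj, hq, hpow, hp, ← pow_fin_mul c.w_cube, hpow, hq,
            ← pow_fin_mul c.z_cube, hpow, hp, ← pow_fin_mul c.w_cube]
          have key2 : ∀ p q : Fin 3, p ≠ 0 → q ≠ 0 → p * (q * (p * q)) = 1 := by decide
          rw [key2 p q hp0 hq0]; simp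
      · exfalso
        refine hne 1 (p * q) (by decide) (cancel _ _ ?_)
        rw [show c.z ^ ((1 : Fin 3) : ℕ) = c.z from pow_one _, hp, hpow, hq, ← pow_fin_mul c.w_cube]
        congr 1
        have key2 : ∀ p q : Fin 3, p ≠ 0 → q ≠ 0 → q * (p * q) = p := by decide
        rw [key2 p q hp0 hq0]
    rw [zb, wb, ← map_mul, ← map_mul, ← map_mul, ← map_mul, ← map_mul, ← map_mul]
    exact ⟨congrArg c.π (Subtype.ext h4.1), congrArg c.π (Subtype.ext h4.2)⟩
  have hD9 : Nat.card D = 9 := by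
    have hb : Function.Bijective (fun p : Fin 3 × Fin 3 =>
        (⟨c.zb ^ (p.1 : ℕ) * c.wb ^ (p.2 : ℕ), hgridD _ _⟩ : D)) := by
      constructor
      · rintro ⟨i, k⟩ ⟨i', k'⟩ h
        obtain ⟨rfl, rfl⟩ := hinjD (congrArg Subtype.val h)
        rfl
      · rintro ⟨x, hx⟩
        obtain ⟨i, k, rfl⟩ := hgrid x hx
        exact ⟨(i, k), rfl⟩
    rw [← Nat.card_congr (Equiv.ofBijective _ hb), Nat.card_prod, Nat.card_fin]
  refine ⟨⟨c.zb, c.wb, d * u₀, L, hLw, ?_, ?_, ?_, fun g h1 h2 => c.selfC hA h1 h2, ?_, ?_⟩⟩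
  · calc d * u₀ * (d * u₀) = d * (u₀ * d * u₀) := by group
      _ = 1 := by rw [hud, mul_inv_cancel]
  · calc d * u₀ * c.zb * (d * u₀) = d * (u₀ * c.zb * u₀) * (u₀⁻¹ * d * u₀) := by group
      _ = c.wb := by
        conv_lhs => arg 1; arg 2; arg 2; rw [← hu₀i]
        rw [hu₀z, hu₀i, hud, conj_of_comm (hDc _ hdD).2]
  · rw [hcdef]
    have e : u₀ * cc = d * cc * u₀ := by
      rw [hd]
      simp [mul_assoc, hu₀sq, hcsq]
    have e2 : cc * d = d * d * cc := by
      have h2 : d⁻¹ = d * d := inv_eq_of_mul_eq_one_right (by rw [← mul_assoc, hd3])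
      rw [← h2, ← hcd, inv_mul_cancel_right]
    calc d * u₀ * cc = d * d * cc * u₀ := by rw [mul_assoc d u₀ cc, e]; group
      _ = cc * (d * u₀) := by rw [← e2]; group
  · -- the centraliser of the product
    have hcom : ∀ i k : ℕ, c.zb ^ i * c.wb ^ k * (c.zb * c.wb) =
        c.zb * c.wb * (c.zb ^ i * c.wb ^ k) := fun i k =>
      (((Commute.refl c.zb).pow_left i).mul_left (hzw.symm.pow_left k)).mul_right
        ((hzw.pow_left i).mul_left ((Commute.refl c.wb).pow_left k)) |>.eq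
    have hvm : v * (c.zb * c.wb) = c.zb * c.wb * v := by
      refine comm_of_conj ?_
      rw [show v * (c.zb * c.wb) * v⁻¹ = v * c.zb * v⁻¹ * (v * c.wb * v⁻¹) by group, hvz, hvw,
        hzw.eq]
    let f : Fin 3 × Fin 3 × Fin 2 → Subgroup.centralizer ({c.zb * c.wb} : Set c.Xb) := fun p =>
      ⟨v ^ (p.2.2 : ℕ) * (c.zb ^ (p.1 : ℕ) * c.wb ^ (p.2.1 : ℕ)),
        Subgroup.mem_centralizer_singleton_iff.2 (((show Commute v _ from hvm).pow_left _).mul_left
          (hcom _ _)).eq⟩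
    have hvnot : v ∉ D := fun h => by
      have h1 := conj_of_comm (hDc v h).1
      rw [hvz] at h1
      exact absurd (hinjD (i := 0) (k := 1) (i' := 1) (k' := 0) (by simpa using h1)).1 (by decide)
    have hf : Function.Bijective f := by
      constructor
      · rintro ⟨i, k, e⟩ ⟨i', k', e'⟩ h
        have h' := congrArg Subtype.val h
        change v ^ (e : ℕ) * _ = v ^ (e' : ℕ) * _ at h'
        have he : e = e' := by
          fin_cases e <;> fin_cases e' <;> first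
            | rfl
            | (exfalso; simp at h'; refine hvnot ?_
               first
                 | (rw [eq_mul_inv_of_mul_eq h'.symm]; exact mul_mem (hgridD _ _) (inv_mem (hgridD _ _)))
                 | (rw [eq_mul_inv_of_mul_eq h']; exact mul_mem (hgridD _ _) (inv_mem (hgridD _ _))))
        subst he
        obtain ⟨rfl, rfl⟩ := hinjD (mul_left_cancel h')
        rfl
      · rintro ⟨g, hg⟩
        rw [Subgroup.mem_centralizer_singleton_iff] at hg
        obtain ⟨a, rfl⟩ := c.π_surj g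
        have hg' : (a : G) * (c.z * c.w) = c.z * c.w * a :=
          c.lift_comm (x := ⟨c.z * c.w, mul_mem c.z_mem_X c.w_mem_X⟩)
            (c.J_exp _ (mul_mem c.z_mem_J c.w_mem_J)) (by
            rw [show (⟨c.z * c.w, mul_mem c.z_mem_X c.w_mem_X⟩ : c.X) =
              ⟨c.z, c.z_mem_X⟩ * ⟨c.w, c.w_mem_X⟩ from rfl, map_mul]
            exact hg)
        rcases c.cent_n_cases hn hg' (c.mem_X.1 a.2) with ⟨h1, h2⟩ | ⟨h1, h2⟩
        · obtain ⟨i, k, h⟩ := c.selfC hA (g := c.π a)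
            (by rw [zb, ← map_mul, ← map_mul]; exact congrArg c.π (Subtype.ext h1))
            (by rw [wb, ← map_mul, ← map_mul]; exact congrArg c.π (Subtype.ext h2))
          exact ⟨(i, k, 0), Subtype.ext (by simp [f, h])⟩
        · have e1 : c.π a * c.zb * (c.π a)⁻¹ = c.wb := by
            rw [zb, wb, ← map_inv, ← map_mul, ← map_mul]; exact congrArg c.π (Subtype.ext h1)
          have e2 : c.π a * c.wb * (c.π a)⁻¹ = c.zb := by
            rw [zb, wb, ← map_inv, ← map_mul, ← map_mul]; exact congrArg c.π (Subtype.ext h2)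
          obtain ⟨i, k, h⟩ := c.selfC hA (g := v⁻¹ * c.π a)
            (comm_of_conj (by rw [conj_conj, e1, inv_inv, ← hvz]; group))
            (comm_of_conj (by rw [conj_conj, e2, inv_inv, ← hvw]; group))
          refine ⟨(i, k, 1), Subtype.ext ?_⟩
          show v ^ ((1 : Fin 2) : ℕ) * (c.zb ^ (i : ℕ) * c.wb ^ (k : ℕ)) = c.π a
          rw [← h]
          simp
    rw [← Nat.card_congr (Equiv.ofBijective f hf), Nat.card_prod, Nat.card_prod, Nat.card_fin,
      Nat.card_fin]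
  · intro h27
    have hdvd := Sylow.prime_dvd_card_quotient_normalizer (p := 3) (n := 2) (H := D)
      (by simpa using h27) (by rw [hD9]; norm_num)
    haveI hDn : (Subgroup.comap (Subgroup.normalizer (D : Set c.Xb)).subtype D).Normal :=
      Subgroup.normal_in_normalizer
    obtain ⟨q, hq⟩ := exists_prime_orderOf_dvd_card' 3 hdvd
    obtain ⟨τ, rfl⟩ := QuotientGroup.mk_surjective q
    have hτ3 : (τ : c.Xb) ^ 3 ∈ D := by
      obtain ⟨h, -⟩ := orderOf_eq_iff (show 0 < 3 by norm_num) |>.1 hq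
      rw [← QuotientGroup.mk_pow, QuotientGroup.eq_one_iff] at h
      exact h
    have hτ : (τ : c.Xb) ∉ D := fun h => by
      have h1 := (QuotientGroup.eq_one_iff τ).2 (show τ ∈ Subgroup.comap (Subgroup.normalizer (D : Set c.Xb)).subtype D from h)
      have h3 := orderOf_eq_one_iff.2 h1
      omega
    obtain ⟨h1, h2⟩ := hline _ (conj_mem_of_norm τ.2 hzD) (conj_mem_of_norm τ.2 hwD)
    obtain ⟨i, k, hik⟩ := c.selfC hA h1 h2
    refine hτ ((Subgroup.mul_mem_cancel_left _ hτ3).1 ?_)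
    rw [show (τ : c.Xb) ^ 3 * (τ : c.Xb) = (τ : c.Xb) * τ * ((τ : c.Xb) * τ) by
      simp only [pow_succ, pow_zero, one_mul, mul_assoc], hik]
    exact hgridD _ _

theorem nonempty_alt_eight (hA : c.CaseA) (hn : c.NormN) :
    Nonempty (c.Xb ≃* alternatingGroup (Fin 8)) := by
  obtain ⟨h⟩ := c.exists_hyp hA hn
  exact h.nonempty_alt @Cfsg.Agent.S3344.result

end Setup

end CfsgLib.McLThreeLocal
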