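import Cfsg.Agent.McLThreeLocal.Complement
import Cfsg.Agent.Solvable.Fitting

/-!
# The centraliser of `z * w`

If the `3`-core of this centraliser contains its centraliser, the whole centraliser normalises `J`.
-/

set_option autoImplicit false
set_option linter.style.haveILetI false
set_option linter.unusedSectionVars false

namespace CfsgLib.McLThreeLocal

namespace Setup

variable {G : Type*} [Group G] [Finite G] (c : Setup G)
include c

/-- The `3`-core of the centraliser of an element. -/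
def coreCent (_c : Setup G) (x : G) : Subgroup G :=
  (Cfsg.pCore 3 (Subgroup.centralizer ({x} : Set G))).map (Subgroup.centralizer ({x} : Set G)).subtype

theorem card_sylow_G (T : Sylow 3 G) : Nat.card T = 729 := by
  haveI : Fact (Nat.Prime 3) := ⟨Nat.prime_three⟩
  obtain ⟨P, hP⟩ : ∃ P : Sylow 3 G, (P : Subgroup G) = c.S := by
    refine ⟨(IsPGroup.of_card (p := 3) (n := 6) (by rw [c.card_S]; norm_num)).toSylow ?_, rfl⟩
    intro hd
    refine c.not_dvd ?_
    rw [← c.S.card_mul_index, c.card_S, show (3 : ℕ) ^ 7 = 729 * 3 by norm_num]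
    exact Nat.mul_dvd_mul_left _ hd
  have h1 := T.card_eq_multiplicity
  rw [← P.card_eq_multiplicity, hP, c.card_S] at h1
  exact h1

/-- A `3`-element of `M` fixing `z` and `w` lies in `J`. -/
theorem mem_J_of_fix {o : G} (ho : o ∈ c.M) (h3 : o ^ 729 = 1) (hz : o * c.z = c.z * o)
    (hw : o * c.w = c.w * o) : o ∈ c.J := by
  have hfix : ((⟨o, ho⟩ : c.M) : G) * c.z * ((⟨o, ho⟩ : c.M) : G)⁻¹ ∈ Subgroup.zpowers c.z := by
    rw [show o * c.z * o⁻¹ = c.z from conj_of_comm hz]
    exact Subgroup.mem_zpowers _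
  have h4 := six_four c.card_P ((c.fix_iff (m := ⟨o, ho⟩)).1 hfix)
  rw [← map_mul, ← map_mul, c.mem_P_iff] at h4
  have hS : o ∈ c.S := by
    have e : o = (o * o * (o * o)) ^ 547 := by
      rw [show o * o * (o * o) = o ^ 4 by simp only [pow_succ, pow_zero, one_mul, mul_assoc],
        ← pow_mul, show 4 * 547 = 729 * 3 + 1 by norm_num, pow_succ, pow_mul, h3, one_pow, one_mul]
    rw [e]
    exact pow_mem h4 _
  refine c.free hS c.isPt_w c.w_not_line ?_
  rw [conj_of_comm hw]
  exact Subgroup.mem_zpowers _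

theorem t_n : c.t * (c.z * c.w) = c.z * c.w * c.t :=
  ((show Commute c.t c.z from c.t_z).mul_right c.t_w).eq

/-- The centraliser of `z * w` normalises `J`. -/
theorem cent_n_norm (hn : Subgroup.centralizer (c.coreCent (c.z * c.w) : Set G) ≤
    c.coreCent (c.z * c.w)) {r : G} (hr : r * (c.z * c.w) = c.z * c.w * r) :
    r ∈ Subgroup.normalizer (c.J : Set G) := by
  haveI h3 : Fact (Nat.Prime 3) := ⟨Nat.prime_three⟩
  obtain ⟨O, hO⟩ : ∃ O, O = c.coreCent (c.z * c.w) := ⟨_, rfl⟩
  rw [← hO] at hn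
  have hOC : ∀ o ∈ O, o * (c.z * c.w) = c.z * c.w * o := by
    intro o ho
    rw [hO] at ho
    obtain ⟨o', -, rfl⟩ := ho
    exact Subgroup.mem_centralizer_singleton_iff.1 o'.2
  have hOn : ∀ k : G, k * (c.z * c.w) = c.z * c.w * k → ∀ o ∈ O, k * o * k⁻¹ ∈ O := by
    intro k hk o ho
    rw [hO] at ho ⊢
    obtain ⟨o', ho', rfl⟩ := ho
    exact ⟨⟨k, Subgroup.mem_centralizer_singleton_iff.2 hk⟩ * o' *
      ⟨k, Subgroup.mem_centralizer_singleton_iff.2 hk⟩⁻¹,
      (CfsgLib.Solvable.pCore_normal 3).conj_mem o' ho' _, rfl⟩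
  have hOp : IsPGroup 3 O := hO ▸ (CfsgLib.Solvable.isPGroup_pCore 3).map _
  have hJn : ∀ x ∈ c.J, x * (c.z * c.w) = c.z * c.w * x := fun x hx =>
    c.J_comm x hx _ (mul_mem c.z_mem_J c.w_mem_J)
  have hJO : c.J ≤ Subgroup.normalizer (O : Set G) := fun x hx => mem_norm_of_conj (hOn x (hJn x hx))
  obtain ⟨T, hT⟩ := (IsPGroup.to_sup_of_normal_right'
    (IsPGroup.of_card (p := 3) (n := 4) (G := c.J) (by rw [c.card_J]; norm_num)) hOp hJO).exists_le_sylow
  have hTc : Nat.card (T : Subgroup G) = 729 := c.card_sylow_G T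
  have hJT : c.J ≤ (T : Subgroup G) := le_sup_left.trans hT
  have hOT : O ≤ (T : Subgroup G) := le_sup_right.trans hT
  have hTM := c.le_M_of_J_le hTc hJT
  obtain ⟨g, hg⟩ := c.exists_conj_729 hTc c.card_S
  have hgN : g ∈ Subgroup.normalizer (c.J : Set G) := by
    refine mem_norm_of_conj fun y hy => ?_
    have h := c.eq_J c.card_S c.J_le_S (A := c.J.map (MulAut.conj g).toMonoidHom)
      (by rintro _ ⟨b, hb, rfl⟩; exact (hg b).1 (hJT hb))
      (by rw [Subgroup.card_map_of_injective (MulAut.conj g).injective, c.card_J])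
      (by rintro _ ⟨b, hb, rfl⟩ _ ⟨b', hb', rfl⟩; rw [← map_mul, ← map_mul, c.J_comm b hb b' hb'])
      (by rintro _ ⟨b, hb, rfl⟩; rw [← map_pow, c.J_exp b hb, map_one])
    rw [← h]
    exact ⟨y, hy, rfl⟩
  obtain ⟨x, hx⟩ : ∃ x, x = g⁻¹ * c.z * g := ⟨_, rfl⟩
  have hxT : ∀ o ∈ (T : Subgroup G), o * x = x * o := fun o ho => by
    have h := c.S_comm _ ((hg o).1 ho)
    rw [hx]
    calc o * (g⁻¹ * c.z * g) = g⁻¹ * (g * o * g⁻¹ * c.z) * g := by group
      _ = _ := by rw [h]; group
  have hxpt : c.IsPt x := by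
    have h := c.isPt_of_conj (g := g⁻¹) (by
      have h := conj_mem_of_norm (inv_mem hgN) c.z_mem_J
      exact h)
    rwa [inv_inv, ← hx] at h
  have hOJ : O ≤ c.J := by
    intro o ho
    have ho3 : o ^ 729 = 1 := c.S_pow (dvd_of_eq hTc) (hOT ho)
    obtain ⟨y, hy⟩ : ∃ y, y = c.t * x * c.t := ⟨_, rfl⟩
    have hypt : c.IsPt y := by
      have h := IsPt.conj_N c c.t_norm_J hxpt
      rwa [c.t_inv, ← hy] at h
    have hoy : o * y = y * o := by
      have h := hxT _ (hOT (hOn c.t c.t_n o ho))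
      rw [c.t_inv] at h
      calc o * y = c.t * (c.t * o * c.t * x) * c.t := by
            rw [hy]; simp [← mul_assoc, c.t_sq]
        _ = c.t * (x * (c.t * o * c.t)) * c.t := by rw [h]
        _ = _ := by rw [hy]; simp [mul_assoc, c.t_sq]
    by_cases hyx : y ∈ Subgroup.zpowers x
    · obtain ⟨i, hi⟩ := c.fin_cases_zpow (c.J_exp x (hxpt.mem_J c)) hyx
      have key : ∀ p : Fin 3, p = 0 ∨ p = 1 ∨ p = 2 := by decide
      have hfin := key i
      rcases hfin with rfl | rfl | rfl
      · exact absurd (hi.trans (pow_zero _)) (hypt.ne_one c)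
      · have hxt : c.t * x = x * c.t := by
          rw [hy, show x ^ ((1 : Fin 3) : ℕ) = x from pow_one _] at hi
          calc c.t * x = c.t * x * (c.t * c.t) := by rw [c.t_sq, mul_one]
            _ = c.t * x * c.t * c.t := by group
            _ = _ := by rw [hi]
        obtain ⟨a, b, hab⟩ := c.grid_of_fix (hxpt.mem_J c) hxt
        rcases c.grid_pt' (hab ▸ hxpt) with h0 | h0
        · -- `x` lies on the line of `w`
          subst h0
          have hb : b ≠ 0 := fun e => hxpt.ne_one c (by rw [hab, e]; simp)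
          have hxb : x = c.w ^ (b : ℕ) := by rw [hab]; simp
          have how : o * c.w = c.w * o := by
            rw [c.w_line hb, ← hxb]
            exact ((show Commute o x from hxT o (hOT ho)).pow_right _).eq
          have hoz : o * c.z = c.z * o := by
            have h1 : Commute o (c.z * c.w * c.w⁻¹) :=
              (show Commute o (c.z * c.w) from hOC o ho).mul_right
                (show Commute o c.w from how).inv_right
            rwa [mul_inv_cancel_right] at h1
          exact c.mem_J_of_fix (hTM (hOT ho)) ho3 hoz how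
        · subst h0
          have ha : a ≠ 0 := fun e => hxpt.ne_one c (by rw [hab, e]; simp)
          have hxa : x = c.z ^ (a : ℕ) := by rw [hab]; simp
          have hoz : o * c.z = c.z * o := by
            rw [c.z_line ha, ← hxa]
            exact ((show Commute o x from hxT o (hOT ho)).pow_right _).eq
          have how : o * c.w = c.w * o := by
            have h1 : Commute o (c.z⁻¹ * (c.z * c.w)) :=
              (show Commute o c.z from hoz).inv_right.mul_right (hOC o ho)
            rwa [inv_mul_cancel_left] at h1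
          exact c.mem_J_of_fix (hTM (hOT ho)) ho3 hoz how
      · exfalso
        have hE : x ∈ c.E := by
          refine ⟨hxpt.mem_J c, ?_⟩
          rw [← hy, hi]
          exact (inv_eq_of_mul_eq_one_right (show x * x ^ 2 = 1 by
            rw [← pow_succ', c.J_exp x (hxpt.mem_J c)])).symm
        have hxz : x ∈ Subgroup.zpowers c.z := by
          by_contra h
          exact c.other_not_Q hxpt h (c.E_le_Q hE)
        obtain ⟨a, ha⟩ := c.fin_cases_zpow c.z_cube hxz
        have h1 := c.decomp_inj (i := a) (k := 0) (i' := 0) (k' := 0) (one_mem _) hE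
          (by rw [ha]; simp)
        exact hxpt.ne_one c h1.2.2.symm
    · have ho1 : g * o * g⁻¹ ∈ c.S := (hg o).1 (hOT ho)
      have hy' : g * y * g⁻¹ ∉ Subgroup.zpowers c.z := fun h => hyx (by
        obtain ⟨k, hk⟩ := Subgroup.mem_zpowers_iff.1 h
        refine Subgroup.mem_zpowers_iff.2 ⟨k, ?_⟩
        rw [hx, show g⁻¹ * c.z * g = g⁻¹ * c.z * g⁻¹⁻¹ by group, conj_zpow, hk]
        group)
      have hJ := c.free ho1 (IsPt.conj_N c hgN hypt) hy' (by
        rw [show g * o * g⁻¹ * (g * y * g⁻¹) * (g * o * g⁻¹)⁻¹ = g * (o * y * o⁻¹) * g⁻¹ by group,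
          conj_of_comm hoy]
        exact Subgroup.mem_zpowers _)
      have h := conj_mem_of_norm (inv_mem hgN) hJ
      rwa [inv_inv, show g⁻¹ * (g * o * g⁻¹) * g = o by group] at h
  have hJeq : O = c.J := le_antisymm hOJ fun x hx => hn
    (Subgroup.mem_centralizer_iff.2 fun o ho => c.J_comm o (hOJ ho) x hx)
  exact mem_norm_of_conj fun x hx => hJeq ▸ hOn r hr x (hJeq.symm ▸ hx)

/-- The consequence used below: the centraliser of `z * w` and `t` normalises `J`. -/
def NormN : Prop := ∀ r : G, r * (c.z * c.w) = c.z * c.w * r → r * c.t = c.t * r →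
  r ∈ Subgroup.normalizer (c.J : Set G)

theorem normN_of_core (hn : Subgroup.centralizer (c.coreCent (c.z * c.w) : Set G) ≤
    c.coreCent (c.z * c.w)) : c.NormN := fun _ hr _ => c.cent_n_norm hn hr

theorem grid_line {r : G} (hr : r ∈ Subgroup.normalizer (c.J : Set G)) (ht : r * c.t = c.t * r)
    {x : G} (hx : c.IsPt x) (hxt : c.t * x = x * c.t) :
    (∃ i : Fin 3, r * x * r⁻¹ = c.z ^ (i : ℕ)) ∨ ∃ k : Fin 3, r * x * r⁻¹ = c.w ^ (k : ℕ) := by
  have hp := IsPt.conj_N c hr hx
  have hc : Commute c.t (r * x * r⁻¹) :=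
    ((show Commute c.t r from ht.symm).mul_right hxt).mul_right
      (show Commute c.t r from ht.symm).inv_right
  obtain ⟨i, k, hik⟩ := c.grid_of_fix (hp.mem_J c) hc.eq
  rcases c.grid_pt' (hik ▸ hp) with h | h <;> subst h
  · exact Or.inr ⟨k, by rw [hik]; simp⟩
  · exact Or.inl ⟨i, by rw [hik]; simp⟩

/-- The centraliser of `z * w` in `C(t)` fixes or interchanges `z` and `w`. -/
theorem cent_n_cases (hn : c.NormN) {r : G} (hr : r * (c.z * c.w) = c.z * c.w * r)
    (ht : r * c.t = c.t * r) :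
    (r * c.z = c.z * r ∧ r * c.w = c.w * r) ∨ (r * c.z * r⁻¹ = c.w ∧ r * c.w * r⁻¹ = c.z) := by
  have hN := hn r hr ht
  have hprod : r * c.z * r⁻¹ * (r * c.w * r⁻¹) =
      c.z ^ ((1 : Fin 3) : ℕ) * c.w ^ ((1 : Fin 3) : ℕ) := by
    rw [show r * c.z * r⁻¹ * (r * c.w * r⁻¹) = r * (c.z * c.w) * r⁻¹ by group, conj_of_comm hr]
    simp
  rcases c.grid_line hN ht c.isPt_z c.t_z with ⟨i, hi⟩ | ⟨i, hi⟩ <;>
    rcases c.grid_line hN ht c.isPt_w c.t_w with ⟨k, hk⟩ | ⟨k, hk⟩ <;> rw [hi, hk] at hprod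
  · exfalso
    have h : c.z ^ ((i + k : Fin 3) : ℕ) * c.w ^ ((0 : Fin 3) : ℕ) =
        c.z ^ ((1 : Fin 3) : ℕ) * c.w ^ ((1 : Fin 3) : ℕ) := by
      rw [pow_fin_add c.z_cube, ← hprod]; simp
    exact absurd (c.grid_inj h).2 (by decide)
  · obtain ⟨rfl, rfl⟩ := c.grid_inj hprod
    exact Or.inl ⟨comm_of_conj (by rw [hi]; simp), comm_of_conj (by rw [hk]; simp)⟩
  · rw [c.J_comm _ (pow_mem c.w_mem_J _) _ (pow_mem c.z_mem_J _)] at hprod
    obtain ⟨rfl, rfl⟩ := c.grid_inj hprod
    exact Or.inr ⟨by rw [hi]; simp, by rw [hk]; simp⟩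
  · exfalso
    have h : c.z ^ ((0 : Fin 3) : ℕ) * c.w ^ ((i + k : Fin 3) : ℕ) =
        c.z ^ ((1 : Fin 3) : ℕ) * c.w ^ ((1 : Fin 3) : ℕ) := by
      rw [pow_fin_add c.w_cube, ← hprod]; simp
    exact absurd (c.grid_inj h).1 (by decide)

/-- An element of `C(t)` interchanging `z` and `w`. -/
theorem exists_exchange : ∃ u : G, c.t * u = u * c.t ∧ u * c.z * u⁻¹ = c.w ∧ u * c.w * u⁻¹ = c.z := by
  have key : ∀ p : Fin 3, p ≠ 0 → p = 1 ∨ p = 2 := by decide
  have hwi : c.w ^ 2 = c.w⁻¹ := (inv_eq_of_mul_eq_one_right (by rw [← pow_succ', c.w_cube])).symm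
  have hzi : c.z ^ 2 = c.z⁻¹ := (inv_eq_of_mul_eq_one_right (by rw [← pow_succ', c.z_cube])).symm
  have hz := c.g_z
  have hw := c.g_w
  rcases key c.a c.a_ne with h | h
  · rw [h, show ((1 : Fin 3) : ℕ) = 1 from rfl, pow_one] at hz hw
    exact ⟨c.g, c.t_g, by rw [c.g_inv]; exact hz, by rw [c.g_inv]; exact hw⟩
  · rw [h, show ((2 : Fin 3) : ℕ) = 2 from rfl, hwi] at hz
    rw [h, show ((2 : Fin 3) : ℕ) = 2 from rfl, hzi] at hw
    refine ⟨c.jz * c.j * c.g, ?_, ?_, ?_⟩
    · exact (((show Commute c.t c.jz from c.jz_t.symm).mul_right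
        (show Commute c.t c.j from c.j_t.symm)).mul_right c.t_g).eq
    · rw [conj_conj, conj_conj, c.g_inv, hz, ← conj_inv, c.j_w, inv_inv, c.jz_w]
    · rw [conj_conj, conj_conj, c.g_inv, hw, ← conj_inv, conj_of_comm c.j_z, ← conj_inv, c.jz_z,
        inv_inv]

end Setup

end CfsgLib.McLThreeLocal
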