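import Cfsg.Agent.McLThreeLocal.Frame
import Cfsg.Agent.Perm.SLTwoFive

/-!
# The action on the complement `SL(2,5)`

The normaliser of the complement acts as a group of permutations on five letters; the conjugate of
`j` acts as an odd one.
-/

set_option autoImplicit false
set_option linter.style.haveILetI false
set_option linter.unusedSectionVars false

namespace CfsgLib.McLThreeLocal

open CfsgLib.Perm.RegularLinear (SLFive autQuot eq_one_of_autQuot slFive_quot)

/-- The chosen isomorphism with the alternating group of degree five. -/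
noncomputable def eFive : (SLFive ⧸ Subgroup.center SLFive) ≃* alternatingGroup (Fin 5) :=
  slFive_quot.some

/-- Automorphisms of the alternating group of degree five are permutations. -/
noncomputable def cFive : Equiv.Perm (Fin 5) ≃* MulAut (alternatingGroup (Fin 5)) :=
  MulEquiv.ofBijective (MulAut.conjNormal : Equiv.Perm (Fin 5) →* MulAut (alternatingGroup (Fin 5)))
    (CfsgLib.AutAlt.conjNormal_bijective (α := Fin 5) (by simp) (by simp))

/-- Automorphisms of `SL(2,5)` as permutations of five letters. -/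
noncomputable def permFive : MulAut SLFive →* Equiv.Perm (Fin 5) :=
  cFive.symm.toMonoidHom.comp ((MulAut.congr eFive).toMonoidHom.comp (autQuot SLFive))

theorem permFive_inj {φ : MulAut SLFive} (h : permFive φ = 1) : φ = 1 :=
  eq_one_of_autQuot perfect ((MulAut.congr eFive).injective (by
    rw [map_one]
    exact cFive.symm.injective (h.trans (map_one cFive.symm).symm)))

/-- The even permutation of an element. -/
noncomputable def altFive (y : SLFive) : alternatingGroup (Fin 5) := eFive (QuotientGroup.mk y)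

theorem permFive_conj (y : SLFive) :
    permFive (MulAut.conj y) = (altFive y : Equiv.Perm (Fin 5)) := by
  apply cFive.injective
  show cFive (cFive.symm (MulAut.congr eFive (autQuot SLFive (MulAut.conj y)))) = _
  rw [MulEquiv.apply_symm_apply]
  refine MulEquiv.ext fun x => ?_
  obtain ⟨x, rfl⟩ := eFive.surjective x
  induction x using QuotientGroup.induction_on with
  | H x =>
    show eFive (autQuot SLFive (MulAut.conj y) (eFive.symm (eFive (QuotientGroup.mk x)))) =
      MulAut.conjNormal ((altFive y : Equiv.Perm (Fin 5))) (eFive (QuotientGroup.mk x))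
    rw [MulEquiv.symm_apply_apply]
    refine Subtype.ext ?_
    rw [MulAut.conjNormal_apply]
    show (eFive (QuotientGroup.mk (y * x * y⁻¹)) : Equiv.Perm (Fin 5)) = _
    rw [QuotientGroup.mk_mul, QuotientGroup.mk_mul, QuotientGroup.mk_inv, map_mul, map_mul, map_inv]
    rfl

theorem altFive_surj (π : alternatingGroup (Fin 5)) : ∃ y, altFive y = π := by
  obtain ⟨q, rfl⟩ := eFive.surjective π
  induction q using QuotientGroup.induction_on with
  | H y => exact ⟨y, rfl⟩

namespace Setup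

variable {G : Type*} [Group G] [Finite G] (c : Setup G)
include c

/-- The normaliser of the complement. -/
def N5 : Subgroup G := Subgroup.normalizer (c.σ.range : Set G)

/-- The action on the five letters. -/
noncomputable def ρ : c.N5 →* Equiv.Perm (Fin 5) :=
  permFive.comp ((MulAut.congr (MonoidHom.ofInjective c.σ_inj).symm).toMonoidHom.comp
    c.σ.range.normalizerMonoidHom)

theorem σ_aut (n : c.N5) (x : SLFive) :
    c.σ ((MulAut.congr (MonoidHom.ofInjective c.σ_inj).symm)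
      (c.σ.range.normalizerMonoidHom n) x) = (n : G) * c.σ x * (n : G)⁻¹ := by
  show c.σ ((MonoidHom.ofInjective c.σ_inj).symm
    (c.σ.range.normalizerMonoidHom n (MonoidHom.ofInjective c.σ_inj x))) = _
  rw [MonoidHom.apply_ofInjective_symm c.σ_inj]
  rfl

theorem ρ_eq_one {n : c.N5} (h : c.ρ n = 1) (x : SLFive) : (n : G) * c.σ x = c.σ x * (n : G) := by
  have h1 := c.σ_aut n x
  have h2 : (MulAut.congr (MonoidHom.ofInjective c.σ_inj).symm)
      (c.σ.range.normalizerMonoidHom n) = 1 := permFive_inj h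
  exact comm_of_conj (h1.symm.trans (congrArg (fun φ : MulAut SLFive => c.σ (φ x)) h2))

theorem σ_mem_N5 (y : SLFive) : c.σ y ∈ c.N5 := Subgroup.le_normalizer ⟨y, rfl⟩

theorem ρ_σ (y : SLFive) : c.ρ ⟨c.σ y, c.σ_mem_N5 y⟩ = (altFive y : Equiv.Perm (Fin 5)) := by
  rw [← permFive_conj]
  refine congrArg permFive (MulEquiv.ext fun x => c.σ_inj ?_)
  refine (c.σ_aut ⟨c.σ y, c.σ_mem_N5 y⟩ x).trans ?_
  rw [MulAut.conj_apply, map_mul, map_mul, map_inv]

/-- Every even permutation comes from the complement. -/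
theorem exists_σ_of_even {n : c.N5} (h : Equiv.Perm.sign (c.ρ n) = 1) :
    ∃ y, ∀ x, (c.σ y)⁻¹ * (n : G) * c.σ x = c.σ x * ((c.σ y)⁻¹ * (n : G)) := by
  obtain ⟨y, hy⟩ := altFive_surj ⟨c.ρ n, Equiv.Perm.mem_alternatingGroup.2 h⟩
  refine ⟨y, fun x => c.ρ_eq_one (n := ⟨c.σ y, c.σ_mem_N5 y⟩⁻¹ * n) ?_ x⟩
  rw [map_mul, map_inv, c.ρ_σ, hy, inv_mul_cancel]

theorem ρ_σ_sign (y : SLFive) : Equiv.Perm.sign (c.ρ ⟨c.σ y, c.σ_mem_N5 y⟩) = 1 := by
  rw [c.ρ_σ]
  exact Equiv.Perm.mem_alternatingGroup.1 (altFive y).2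

/-- Elements commuting with `t` and normalising `⟨z⟩` normalise the complement. -/
theorem mem_N5 {n : G} (ht : n * c.t = c.t * n) (hz : n * c.z * n⁻¹ ∈ Subgroup.zpowers c.z) :
    n ∈ c.N5 := by
  have hnL := c.L_norm n hz
  have key : ∀ x, ∃ u ∈ Subgroup.zpowers c.z, ∃ y, n * c.σ x * n⁻¹ = u * c.σ y := fun x =>
    c.mem_L_cent (conj_mem_of_norm hnL (c.σ_mem x)) (by
      have hc : Commute c.t n := ht.symm
      exact ((hc.mul_right (c.t_σ x)).mul_right hc.inv_right).eq)
  choose u hu y hy using key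
  have hyp : ∀ x, c.p ⟨n * c.σ x * n⁻¹, conj_mem_of_norm hnL (c.σ_mem x)⟩ = y x := fun x => by
    have hq : u x ∈ c.Q := Subgroup.zpowers_le.2 c.z_mem_Q (hu x)
    rw [show (⟨n * c.σ x * n⁻¹, conj_mem_of_norm hnL (c.σ_mem x)⟩ : c.L) =
      ⟨u x, c.Q_le hq⟩ * ⟨c.σ (y x), c.σ_mem _⟩ from Subtype.ext (hy x), map_mul, c.p_σ,
      (c.p_ker ⟨u x, c.Q_le hq⟩).2 hq, one_mul]
  have hymul : ∀ a b, y (a * b) = y a * y b := fun a b => by
    rw [← hyp, ← hyp, ← hyp, ← map_mul]
    congr 1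
    refine Subtype.ext ?_
    show n * c.σ (a * b) * n⁻¹ = n * c.σ a * n⁻¹ * (n * c.σ b * n⁻¹)
    rw [map_mul]
    group
  have hux : ∀ x g, u x * c.σ g = c.σ g * u x := fun x g =>
    (c.z_pow_comm (c.σ_mem g) (hu x)).symm
  have humul : ∀ a b, u (a * b) = u a * u b := fun a b => by
    have h1 : u (a * b) * c.σ (y (a * b)) = u a * u b * c.σ (y (a * b)) := by
      rw [← hy, hymul, map_mul, map_mul]
      calc n * (c.σ a * c.σ b) * n⁻¹ = n * c.σ a * n⁻¹ * (n * c.σ b * n⁻¹) := by group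
        _ = u a * (c.σ (y a) * u b) * c.σ (y b) := by rw [hy, hy]; group
        _ = _ := by rw [← hux]; group
    exact mul_right_cancel h1
  let f : SLFive →* Subgroup.zpowers c.z :=
    MonoidHom.mk' (fun x => ⟨u x, hu x⟩) fun a b => Subtype.ext (humul a b)
  have hf : commutator SLFive ≤ f.ker := by
    rw [commutator_def, Subgroup.commutator_le]
    intro a _ b _
    rw [MonoidHom.mem_ker, map_commutatorElement, commutatorElement_eq_one_iff_mul_comm]
    obtain ⟨i, hi⟩ := Subgroup.mem_zpowers_iff.1 (f a).2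
    obtain ⟨k, hk⟩ := Subgroup.mem_zpowers_iff.1 (f b).2
    refine Subtype.ext ?_
    rw [Subgroup.coe_mul, Subgroup.coe_mul, ← hi, ← hk, ← zpow_add, ← zpow_add, add_comm]
  refine mem_norm_of_conj ?_
  rintro _ ⟨x, rfl⟩
  refine ⟨y x, ?_⟩
  have : u x = 1 := congrArg Subtype.val (hf (perfect ▸ Subgroup.mem_top x) : f x = 1)
  rw [hy x, this, one_mul]

theorem jz_N5 : c.jz ∈ c.N5 :=
  c.mem_N5 c.jz_t (by rw [c.jz_z]; exact inv_mem (Subgroup.mem_zpowers _))

/-- The conjugate of `j` acts as an odd permutation. -/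
theorem sign_jz : Equiv.Perm.sign (c.ρ ⟨c.jz, c.jz_N5⟩) = -1 := by
  rcases Int.units_eq_one_or (Equiv.Perm.sign (c.ρ ⟨c.jz, c.jz_N5⟩)) with h | h
  · obtain ⟨y, hy⟩ := c.exists_σ_of_even h
    exact (c.jz_outer y hy).elim
  · exact h

/-- An element centralising `z`, `t` and the complement is a product of powers of `z` and `t`. -/
theorem cent_σ {r : G} (hz : r * c.z = c.z * r) (ht : r * c.t = c.t * r)
    (h : ∀ x, r * c.σ x = c.σ x * r) : ∃ (i : Fin 3) (k : Fin 2), r = c.z ^ (i : ℕ) * c.t ^ (k : ℕ) :=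
  c.cent_zwtj hz (h x0) ht (h j0)

/-- Case A: the centraliser of `z` in `C(t)` induces only inner automorphisms. -/
def CaseA : Prop := ∀ (n : G) (ht : n * c.t = c.t * n) (hz : n * c.z = c.z * n),
  Equiv.Perm.sign (c.ρ ⟨n, c.mem_N5 ht (by rw [conj_of_comm hz]; exact Subgroup.mem_zpowers _)⟩) = 1

/-- An element of `C(z) ∩ C(t)` inducing an inner automorphism. -/
theorem inner_decomp {n : c.N5} (hz : (n : G) * c.z = c.z * n) (ht : (n : G) * c.t = c.t * n)
    (h : Equiv.Perm.sign (c.ρ n) = 1) : ∃ (i : Fin 3) (x : SLFive), (n : G) = c.z ^ (i : ℕ) * c.σ x := by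
  obtain ⟨y, hy⟩ := c.exists_σ_of_even h
  obtain ⟨i, k, hik⟩ := c.cent_σ
    ((show Commute (c.σ y) c.z from c.z_σ y).inv_left.mul_left hz).eq
    ((show Commute (c.σ y) c.t from (c.t_σ y).symm).inv_left.mul_left ht).eq hy
  refine ⟨i, y * ee ^ (k : ℕ), ?_⟩
  rw [map_mul, map_pow, c.σ_ee]
  calc (n : G) = c.σ y * ((c.σ y)⁻¹ * n) := by group
    _ = c.σ y * c.z ^ (i : ℕ) * c.t ^ (k : ℕ) := by rw [hik]; group
    _ = _ := by rw [((show Commute (c.σ y) c.z from c.z_σ y).pow_right _).eq]; group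

theorem caseA_decomp (hA : c.CaseA) {n : G} (hz : n * c.z = c.z * n) (ht : n * c.t = c.t * n) :
    ∃ (i : Fin 3) (x : SLFive), n = c.z ^ (i : ℕ) * c.σ x :=
  c.inner_decomp (n := ⟨n, _⟩) hz ht (hA n ht hz)

theorem caseA_cent_R (hA : c.CaseA) {n : G} (hz : n * c.z = c.z * n) (hw : n * c.w = c.w * n)
    (ht : n * c.t = c.t * n) :
    ∃ (i m : Fin 3) (k : Fin 2), n = c.z ^ (i : ℕ) * c.w ^ (m : ℕ) * c.t ^ (k : ℕ) := by
  obtain ⟨i, x, rfl⟩ := c.caseA_decomp hA hz ht
  have hx : x * x0 = x0 * x := by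
    refine c.σ_inj ?_
    rw [map_mul, map_mul]
    show c.σ x * c.w = c.w * c.σ x
    have h1 : c.z ^ (i : ℕ) * (c.σ x * c.w) = c.z ^ (i : ℕ) * (c.w * c.σ x) := by
      rw [← mul_assoc, ← mul_assoc, hw,
        ((show Commute c.w c.z from c.w_z).pow_right (i : ℕ)).symm.eq, mul_assoc]
    exact mul_left_cancel h1
  obtain ⟨m, k, rfl⟩ := centralizer_x0 x hx
  refine ⟨i, m, k, ?_⟩
  rw [map_mul, map_pow, map_pow, c.σ_ee, ← mul_assoc]
  rfl

end Setup

end CfsgLib.McLThreeLocal
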