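import Mathlib

/-!
# Anisotropic forms on a plane over the field of three elements

The facts needed on the eight non-zero vectors of a plane over `Fin 3` carrying the four-valued
colouring of the quadratic form, with the quarter turn changing the colours.
-/

set_option autoImplicit false
set_option maxRecDepth 100000
set_option synthInstance.maxSize 4096
set_option synthInstance.maxHeartbeats 400000

namespace CfsgLib.McLThreeLocal

/-- Vectors. -/
abbrev V3 := Fin 3 × Fin 3

/-- The linear map with columns `A.1`, `A.2`. -/
def app (A : V3 × V3) (v : V3) : V3 :=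
  (v.1 * A.1.1 + v.2 * A.2.1, v.1 * A.1.2 + v.2 * A.2.2)

/-- The quarter turn. -/
def rot (v : V3) : V3 := (-v.2, v.1)

/-- The colouring. -/
def qf (s u : Fin 3) (v : V3) : Fin 3 :=
  if v = (0, 0) then 0 else if v.2 = 0 then s else if v.1 = 0 then -s else if v.1 = v.2 then u else -u

/-- The only symmetries commuting with the turn are scalars. -/
theorem comm_rot_keep : ∀ s u : Fin 3, s ≠ 0 → u ≠ 0 → ∀ A : V3 × V3,
    (∀ v, qf s u (app A v) = qf s u v) → (∀ v, app A (rot v) = rot (app A v)) →
      (∀ v, app A v = v) ∨ ∀ v, app A v = -v := by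
  decide +kernel

/-- The colour changing maps commuting with the turn are the turns. -/
theorem comm_rot_change : ∀ s u : Fin 3, s ≠ 0 → u ≠ 0 → ∀ A : V3 × V3,
    (∀ v, qf s u (app A v) = -qf s u v) → (∀ v, app A (rot v) = rot (app A v)) →
      (∀ v, app A v = rot v) ∨ ∀ v, app A v = -rot v := by
  decide +kernel

/-- A symmetry of order two normalising the turn is a scalar. -/
theorem invol_keep : ∀ s u : Fin 3, s ≠ 0 → u ≠ 0 → ∀ A : V3 × V3,
    (∀ v, qf s u (app A v) = qf s u v) → (∀ v, app A (app A v) = v) →
      ((∀ v, app A (rot (app A v)) = rot v) ∨ ∀ v, app A (rot (app A v)) = -rot v) →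
      (∀ v, app A v = v) ∨ ∀ v, app A v = -v := by
  decide +kernel

end CfsgLib.McLThreeLocal
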