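import Cfsg.Agent.McLThreeLocal.CaseA
import Cfsg.Agent.PLocal.Cores

/-!
# Case A: `C(t)` is the non-split double cover of `A₈`, and `G` is the McLaughlin group

The recognition by this involution centraliser is a hypothesis `MclRecognition`.
-/

set_option autoImplicit false
set_option linter.style.haveILetI false
set_option linter.unusedSectionVars false

namespace CfsgLib.McLThreeLocal

open scoped commutatorElement

open CfsgLib.Perm.RegularLinear (SLFive)

universe u

/-- The recognition by the involution centraliser `2.A₈`. -/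
def MclRecognition : Prop :=
  ∀ {G : Type u} [Group G] [Finite G] (t : G) (_ht : orderOf t = 2)
    (_hcov : Cfsg.IsNonsplitDoubleCover (Subgroup.centralizer ({t} : Set G)) (alternatingGroup (Fin 8))),
    Subgroup.centralizer ({t} : Set G) ⊔ Cfsg.oddCore G = ⊤ ∨ Nonempty (G ≃* Cfsg.Spor.McL)

theorem card_alt_eight : Nat.card (alternatingGroup (Fin 8)) = 20160 := by
  rw [nat_card_alternatingGroup, Nat.card_fin]
  decide +kernel

namespace Setup

variable {G : Type u} [Group G] [Finite G] (c : Setup G)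
include c

theorem t_mem_commutator : c.tX ∈ commutator c.X := by
  have h : ee ∈ commutator SLFive := perfect ▸ Subgroup.mem_top _
  have h2 : (commutator SLFive).map (c.σ.codRestrict c.X c.σ_mem_X) ≤ commutator c.X := by
    rw [commutator_def, Subgroup.map_commutator, commutator_def]
    exact Subgroup.commutator_mono le_top le_top
  have h3 := h2 (Subgroup.mem_map_of_mem _ h)
  rwa [show c.σ.codRestrict c.X c.σ_mem_X ee = c.tX from Subtype.ext c.σ_ee] at h3

theorem commutator_X {e : c.Xb ≃* alternatingGroup (Fin 8)} : commutator c.X = ⊤ := by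
  haveI : IsSimpleGroup (alternatingGroup (Fin 8)) := alternatingGroup.isSimpleGroup (by simp)
  haveI hn : ((commutator c.X).map (e.toMonoidHom.comp c.π)).Normal :=
    Subgroup.Normal.map inferInstance _ (e.surjective.comp c.π_surj)
  rcases IsSimpleGroup.eq_bot_or_eq_top_of_normal _ hn with h | h
  · exfalso
    have hab : ∀ a b : alternatingGroup (Fin 8), a * b = b * a := by
      intro a b
      obtain ⟨x, rfl⟩ := (e.surjective.comp c.π_surj) a
      obtain ⟨y, rfl⟩ := (e.surjective.comp c.π_surj) b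
      have hm : e (c.π ⁅x, y⁆) ∈ (commutator c.X).map (e.toMonoidHom.comp c.π) :=
        ⟨⁅x, y⁆, Subgroup.commutator_mem_commutator (Subgroup.mem_top _) (Subgroup.mem_top _), rfl⟩
      rw [h, Subgroup.mem_bot, map_commutatorElement, map_commutatorElement,
        commutatorElement_eq_one_iff_mul_comm] at hm
      exact hm
    have hh := hab ⟨Equiv.swap 0 1 * Equiv.swap 1 2, Equiv.Perm.mem_alternatingGroup.2 (by decide)⟩
      ⟨Equiv.swap 1 2 * Equiv.swap 2 3, Equiv.Perm.mem_alternatingGroup.2 (by decide)⟩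
    exact absurd (congrArg Subtype.val hh) (by decide)
  · refine eq_top_iff.2 fun x _ => ?_
    obtain ⟨y, hy, he⟩ : e (c.π x) ∈ (commutator c.X).map (e.toMonoidHom.comp c.π) :=
      h ▸ Subgroup.mem_top _
    have hd : y⁻¹ * x ∈ c.T₂ := QuotientGroup.eq.1 (e.injective he)
    have h2 : c.T₂ ≤ commutator c.X := Subgroup.zpowers_le.2 c.t_mem_commutator
    have := mul_mem hy (h2 hd)
    rwa [mul_inv_cancel_left] at this

theorem center_X (e : c.Xb ≃* alternatingGroup (Fin 8)) : Subgroup.center c.X = c.T₂ := by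
  refine le_antisymm (fun a ha => ?_) fun a ha => ?_
  · have hc : e (c.π a) ∈ Subgroup.center (alternatingGroup (Fin 8)) :=
      Subgroup.mem_center_iff.2 fun b => by
        obtain ⟨x, rfl⟩ := (e.surjective.comp c.π_surj) b
        show e (c.π x) * e (c.π a) = e (c.π a) * e (c.π x)
        rw [← map_mul, ← map_mul, ← map_mul, ← map_mul, Subgroup.mem_center_iff.1 ha x]
    haveI : IsSimpleGroup (alternatingGroup (Fin 8)) := alternatingGroup.isSimpleGroup (by simp)
    rcases IsSimpleGroup.eq_bot_or_eq_top_of_normal (Subgroup.center (alternatingGroup (Fin 8)))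
      inferInstance with h | h
    · rw [h, Subgroup.mem_bot, ← map_one e] at hc
      exact (QuotientGroup.eq_one_iff a).1 (e.injective hc)
    · exfalso
      have hh := Subgroup.mem_center_iff.1 (show (⟨Equiv.swap 0 1 * Equiv.swap 1 2,
        Equiv.Perm.mem_alternatingGroup.2 (by decide)⟩ : alternatingGroup (Fin 8)) ∈
          Subgroup.center (alternatingGroup (Fin 8)) from h ▸ Subgroup.mem_top _)
        ⟨Equiv.swap 1 2 * Equiv.swap 2 3, Equiv.Perm.mem_alternatingGroup.2 (by decide)⟩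
      exact absurd (congrArg Subtype.val hh) (by decide)
  · refine Subgroup.mem_center_iff.2 fun b => ?_
    rcases c.mem_T₂.1 ha with h | h <;> refine Subtype.ext ?_ <;>
      rw [Subgroup.coe_mul, Subgroup.coe_mul, h]
    · simp
    · exact c.mem_X.1 b.2

theorem card_T₂ : Nat.card c.T₂ = 2 := by
  rw [T₂, Nat.card_zpowers, orderOf_eq_prime c.tX_sq fun h => c.t_ne (congrArg Subtype.val h)]

theorem double_cover (e : c.Xb ≃* alternatingGroup (Fin 8)) :
    Cfsg.IsNonsplitDoubleCover c.X (alternatingGroup (Fin 8)) := by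
  refine ⟨by rw [c.center_X e, c.card_T₂],
    ⟨(QuotientGroup.quotientMulEquivOfEq (c.center_X e)).trans e⟩, fun L hL => ?_⟩
  rw [c.center_X e] at hL
  have hdec : ∀ x : c.X, ∃ z ∈ c.T₂, ∃ l ∈ L, x = z * l := fun x => by
    obtain ⟨⟨⟨z, hz⟩, ⟨l, hl⟩⟩, h⟩ := hL.2 x
    exact ⟨z, hz, l, hl, h.symm⟩
  have hcen : ∀ z ∈ c.T₂, ∀ b : c.X, b * z = z * b := fun z hz b =>
    Subgroup.mem_center_iff.1 (by rw [c.center_X e]; exact hz) b
  have hle : commutator c.X ≤ L := by
    rw [commutator_def, Subgroup.commutator_le]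
    intro a _ b _
    obtain ⟨z, hz, l, hl, rfl⟩ := hdec a
    obtain ⟨z', hz', l', hl', rfl⟩ := hdec b
    have e1 : ⁅z * l, z' * l'⁆ = ⁅l, l'⁆ := by
      have h1 : ∀ p q : c.X, ⁅z * p, q⁆ = ⁅p, q⁆ := fun p q => by
        rw [commutatorElement_def, commutatorElement_def,
          show z * p * q * (z * p)⁻¹ * q⁻¹ = z * (p * q * p⁻¹) * z⁻¹ * q⁻¹ by group,
          show z * (p * q * p⁻¹) * z⁻¹ = p * q * p⁻¹ by rw [← hcen z hz, mul_inv_cancel_right]]
      have h2 : ∀ p q : c.X, ⁅p, z' * q⁆ = ⁅p, q⁆ := fun p q => by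
        rw [commutatorElement_def, commutatorElement_def, ← mul_assoc p, hcen z' hz' p,
          show z' * p * q * p⁻¹ * (z' * q)⁻¹ = z' * (p * q * p⁻¹ * q⁻¹) * z'⁻¹ by group,
          ← hcen z' hz', mul_inv_cancel_right]
      rw [h1, h2]
    rw [e1, commutatorElement_def]
    exact mul_mem (mul_mem (mul_mem hl hl') (inv_mem hl)) (inv_mem hl')
  have htop : L = ⊤ := eq_top_iff.2 (c.commutator_X (e := e) ▸ hle)
  have h1 := hL.disjoint
  rw [htop, disjoint_top] at h1
  have h2 := c.card_T₂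
  rw [h1, Subgroup.card_bot] at h2
  omega

theorem not_sup_top (e : c.Xb ≃* alternatingGroup (Fin 8)) : c.X ⊔ Cfsg.oddCore G ≠ ⊤ := by
  intro h
  obtain ⟨O, hOdef⟩ : ∃ O, O = Cfsg.oddCore G := ⟨_, rfl⟩
  rw [← hOdef] at h
  haveI hOn : O.Normal := hOdef ▸ Subgroup.sSup_normal _ fun _ h => h.1
  have hodd : (Nat.card O).Coprime 2 := hOdef ▸ CfsgLib.PLocal.coprime_card_pPrimeCore 2 G
  have hXO : c.X ⊓ O = ⊥ := by
    let K : Subgroup c.X := O.subgroupOf c.X
    haveI : IsSimpleGroup (alternatingGroup (Fin 8)) := alternatingGroup.isSimpleGroup (by simp)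
    have hK : Nat.card K ∣ Nat.card O :=
      (Nat.card_congr (Equiv.refl _)).trans rfl ▸ Subgroup.card_comap_dvd_of_injective O
        (f := c.X.subtype) c.X.subtype_injective
    haveI hKn : (K.map (e.toMonoidHom.comp c.π)).Normal :=
      Subgroup.Normal.map inferInstance _ (e.surjective.comp c.π_surj)
    have hbot : K.map (e.toMonoidHom.comp c.π) = ⊥ := by
      rcases IsSimpleGroup.eq_bot_or_eq_top_of_normal _ hKn with h' | h'
      · exact h'
      · exfalso
        have hd : Nat.card (alternatingGroup (Fin 8)) ∣ Nat.card O := by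
          rw [← Subgroup.card_top, ← h']
          exact (Subgroup.card_map_dvd (H := K) _).trans hK
        rw [card_alt_eight] at hd
        have := Nat.Coprime.coprime_dvd_left hd hodd
        norm_num at this
    refine (Subgroup.eq_bot_iff_forall _).2 fun x hx => ?_
    have hm : e (c.π ⟨x, hx.1⟩) ∈ K.map (e.toMonoidHom.comp c.π) := ⟨⟨x, hx.1⟩, hx.2, rfl⟩
    rw [hbot, Subgroup.mem_bot, ← map_one e] at hm
    rcases c.mem_T₂.1 ((QuotientGroup.eq_one_iff _).1 (e.injective hm)) with h' | h'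
    · exact h'
    · exfalso
      have h2 : orderOf c.t = 2 := orderOf_eq_prime (by rw [sq]; exact c.t_sq) c.t_ne
      have h3 := O.orderOf_dvd_natCard (show c.t ∈ O from (show x = c.t from h') ▸ hx.2)
      rw [h2] at h3
      have := Nat.Coprime.coprime_dvd_left h3 hodd
      norm_num at this
  -- the quotient by `O` is `X`
  let φ : c.X →* G ⧸ O := (QuotientGroup.mk' O).comp c.X.subtype
  have hφi : Function.Injective φ := (injective_iff_map_eq_one φ).2 fun x hx => Subtype.ext (by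
    have := Subgroup.mem_inf.2 ⟨x.2, (QuotientGroup.eq_one_iff _).1 hx⟩
    rwa [hXO, Subgroup.mem_bot] at this)
  have hφs : Function.Surjective φ := by
    intro q
    induction q using QuotientGroup.induction_on with
    | H g =>
      obtain ⟨x, hx, o, ho, rfl⟩ : ∃ x ∈ c.X, ∃ o ∈ O, x * o = g := by
        have hg : g ∈ c.X ⊔ O := h ▸ Subgroup.mem_top g
        rw [← SetLike.mem_coe, Subgroup.mul_normal] at hg
        exact hg
      exact ⟨⟨x, hx⟩, (QuotientGroup.eq.2 (by simpa using ho) :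
        (QuotientGroup.mk x : G ⧸ O) = QuotientGroup.mk (x * o))⟩
  have hcardQ : Nat.card (G ⧸ O) = 40320 := by
    rw [← Nat.card_congr (Equiv.ofBijective φ ⟨hφi, hφs⟩),
      Subgroup.card_eq_card_quotient_mul_card_subgroup c.T₂, c.card_T₂, Nat.card_congr e.toEquiv,
      card_alt_eight]
  let ψ : c.J →* G ⧸ O := (QuotientGroup.mk' O).comp c.J.subtype
  have h9 : 9 ≤ Nat.card ψ.ker := by
    have h1 := Subgroup.card_eq_card_quotient_mul_card_subgroup ψ.ker
    rw [Nat.card_congr (QuotientGroup.quotientKerEquivRange ψ).toEquiv, c.card_J] at h1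
    have h2 : Nat.card ψ.range ∣ 3 ^ 4 := ⟨_, h1⟩
    obtain ⟨i, -, hi⟩ := (Nat.dvd_prime_pow Nat.prime_three).1 h2
    have h3 := Subgroup.card_subgroup_dvd_card ψ.range
    rw [hcardQ, hi] at h3
    have hi2 : i ≤ 2 := by
      by_contra h5
      have h6 := (pow_dvd_pow 3 (show 3 ≤ i by omega)).trans h3
      norm_num at h6
    have hle : Nat.card ψ.range ≤ 9 := hi ▸ (Nat.pow_le_pow_right (by norm_num) hi2)
    by_contra hlt
    have : Nat.card ψ.range * Nat.card ψ.ker < 9 * 9 := by
      calc _ ≤ 9 * Nat.card ψ.ker := Nat.mul_le_mul_right _ hle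
        _ < 9 * 9 := Nat.mul_lt_mul_of_pos_left (by omega) (by norm_num)
    omega
  have hker : ∀ u : c.J, u ∈ ψ.ker ↔ (u : G) ∈ O := fun u => QuotientGroup.eq_one_iff _
  have hsub : ∀ u : G, u ∈ c.J → u ∈ O → u ∈ c.E := by
    intro u huJ huO
    obtain ⟨i, k, e', he, rfl⟩ := c.decomp huJ
    have htu : c.t * (c.z ^ (i : ℕ) * c.w ^ (k : ℕ) * e') * c.t ∈ O := by
      have h := hOn.conj_mem _ huO c.t
      rwa [c.t_inv] at h
    rw [c.t_conj_mul, c.grid_fix, c.E_inv_t he] at htu
    have h4 : c.z ^ (i : ℕ) * c.w ^ (k : ℕ) * (c.z ^ (i : ℕ) * c.w ^ (k : ℕ)) ∈ c.X ⊓ O := by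
      refine ⟨mul_mem ?_ ?_, ?_⟩
      · exact mul_mem (pow_mem c.z_mem_X _) (pow_mem c.w_mem_X _)
      · exact mul_mem (pow_mem c.z_mem_X _) (pow_mem c.w_mem_X _)
      · have h5 := mul_mem huO htu
        rwa [show c.z ^ (i : ℕ) * c.w ^ (k : ℕ) * e' * (c.z ^ (i : ℕ) * c.w ^ (k : ℕ) * e'⁻¹) =
          c.z ^ (i : ℕ) * c.w ^ (k : ℕ) * (e' * (c.z ^ (i : ℕ) * c.w ^ (k : ℕ))) * e'⁻¹ by group,
          c.J_comm e' he.1 _ (c.grid_mem_J _ _), ← mul_assoc, mul_inv_cancel_right] at h5
    rw [hXO, Subgroup.mem_bot] at h4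
    have h3 := c.J_exp _ (c.grid_mem_J (i : ℕ) (k : ℕ))
    rw [pow_succ, sq, h4, one_mul] at h3
    rw [h3, one_mul]
    exact he
  have hfinal : ∀ x ∈ c.E, x ∈ O := by
    have hinj : Function.Injective (fun u : ψ.ker =>
        (⟨((u : c.J) : G), hsub _ (u : c.J).2 ((hker u).1 u.2), (hker u).1 u.2⟩ :
          (c.E ⊓ O : Subgroup G))) := fun a b hab =>
      Subtype.ext (Subtype.ext (congrArg Subtype.val hab :))
    have h5 := Nat.card_le_card_of_injective _ hinj
    have h6 := Subgroup.eq_of_le_of_card_ge (inf_le_left : c.E ⊓ O ≤ c.E) (by rw [c.card_E]; omega)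
    intro x hx
    exact (h6.symm ▸ hx : x ∈ c.E ⊓ O).2
  -- then `Q` centralises `E`
  obtain ⟨x, hxE, hx1⟩ := c.exists_e₀
  refine hx1 ?_
  have hxz : x ∈ Subgroup.zpowers c.z := by
    refine c.Q_center x (c.E_le_Q hxE) fun q hq => (comm_of_conj ?_).symm
    have hqJ := c.S_norm_J (c.Q_le_S hq)
    have h1 : q * x * q⁻¹ ∈ c.E := hsub _ (conj_mem_of_norm hqJ hxE.1) (hOn.conj_mem _ (hfinal x hxE) q)
    obtain ⟨i, hi⟩ := c.fin_cases_zpow c.z_cube (c.Q_comm q hq x (c.E_le_Q hxE))
    have h2 := c.decomp_inj (i := i) (k := 0) (i' := 0) (k' := 0) hxE h1 (by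
      rw [← hi]; simp)
    exact h2.2.2.symm
  obtain ⟨i, hi⟩ := c.fin_cases_zpow c.z_cube hxz
  exact (c.decomp_inj (i := i) (k := 0) (i' := 0) (k' := 0) (one_mem _) hxE (by rw [hi]; simp)).2.2.symm

theorem nonempty_mcl (hA : c.CaseA) (hn : c.NormN)
    (hrec : MclRecognition.{u}) : Nonempty (G ≃* Cfsg.Spor.McL) := by
  obtain ⟨e⟩ := c.nonempty_alt_eight hA hn
  exact (hrec c.t (orderOf_eq_prime (by rw [sq]; exact c.t_sq) c.t_ne) (c.double_cover e)).resolve_left
    (c.not_sup_top e)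

end Setup

end CfsgLib.McLThreeLocal
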