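import Cfsg.Agent.McLThreeLocal.Swap
import Cfsg.Agent.McLThreeLocal.Coords

/-!
# The form on `E` given by the points

For every `e ∈ E` exactly one `z ^ i * w * e` is a point; `i` is non-zero for `e ≠ 1`, the element
`j` negates it and the exchanging involution keeps it.
-/

set_option autoImplicit false
set_option linter.style.haveILetI false
set_option linter.unusedSectionVars false

namespace CfsgLib.McLThreeLocal

namespace Setup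

variable {G : Type*} [Group G] [Finite G] (c : Setup G)
include c

/-- The point over `e`. -/
def IsQ (i : Fin 3) (e : G) : Prop := e ∈ c.E ∧ c.IsPt (c.z ^ (i : ℕ) * c.w * e)

theorem w_not_line : c.w ∉ Subgroup.zpowers c.z := fun h =>
  c.w_not_Q (Subgroup.zpowers_le.2 c.z_mem_Q h)

theorem w_pow_one : c.w = c.w ^ ((1 : Fin 3) : ℕ) := (pow_one _).symm

/-- An `S`-conjugate of `w` in normal form. -/
theorem conj_w {s : G} (hs : s ∈ c.S) :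
    ∃ i : Fin 3, ∃ e ∈ c.E, s * c.w * s⁻¹ = c.z ^ (i : ℕ) * c.w * e := by
  have hJ : s * c.w * s⁻¹ ∈ c.J := conj_mem_of_norm (c.S_norm_J hs) c.w_mem_J
  obtain ⟨i, k, e, he, hx⟩ := c.decomp hJ
  obtain ⟨q, hq, l, rfl⟩ := c.S_decomp hs
  have hwl : c.w ^ (l : ℕ) * c.w * (c.w ^ (l : ℕ))⁻¹ = c.w := by
    rw [← pow_succ, pow_succ']; group
  rw [conj_conj, hwl] at hx
  have hQ : c.w ^ ((k - 1 : Fin 3) : ℕ) ∈ c.Q := by
    have hne : ∀ u ∈ c.Q, c.w * u * c.w⁻¹ ∈ c.Q := fun u hu =>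
      conj_mem_of_norm (c.L_norm_Q c.w_mem_L) hu
    have h1 : q * c.w * q⁻¹ * c.w⁻¹ ∈ c.Q := by
      rw [show q * c.w * q⁻¹ * c.w⁻¹ = q * (c.w * q⁻¹ * c.w⁻¹) by group]
      exact mul_mem hq (hne _ (inv_mem hq))
    have hk : c.z ^ (i : ℕ) * c.w ^ ((k - 1 : Fin 3) : ℕ) * e = q * c.w * q⁻¹ * c.w⁻¹ := by
      rw [show (k - 1 : Fin 3) = k + -1 from sub_eq_add_neg _ _, pow_fin_add c.w_cube,
        pow_fin_neg c.w_cube, ← c.w_pow_one, hx,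
        show c.z ^ (i : ℕ) * c.w ^ (k : ℕ) * e * c.w⁻¹ =
          c.z ^ (i : ℕ) * c.w ^ (k : ℕ) * (e * c.w⁻¹) by group,
        c.J_comm e he.1 _ (inv_mem c.w_mem_J)]
      group
    rw [← hk] at h1
    exact (Subgroup.mul_mem_cancel_left _ (pow_mem c.z_mem_Q _)).1
      ((Subgroup.mul_mem_cancel_right _ (c.E_le_Q he)).1 h1)
  have hk1 : k = 1 := sub_eq_zero.1 (c.w_pow_Q hQ)
  exact ⟨i, e, he, by rw [conj_conj, hwl, hx, hk1, ← c.w_pow_one]⟩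

theorem IsQ.exists_conj {i : Fin 3} {e : G} (h : c.IsQ i e) :
    ∃ s ∈ c.S, s * c.w * s⁻¹ = c.z ^ (i : ℕ) * c.w * e := by
  have hxz : c.z ^ (i : ℕ) * c.w * e ∉ Subgroup.zpowers c.z := fun hh => by
    have hQ : c.z ^ (i : ℕ) * c.w ^ ((1 : Fin 3) : ℕ) * e ∈ c.Q := by
      rw [← c.w_pow_one]; exact Subgroup.zpowers_le.2 c.z_mem_Q hh
    exact absurd (c.dec_Q h.1 hQ) (by decide)
  obtain ⟨s, hs, hsx | hsx⟩ := c.orbit c.isPt_w c.w_not_line h.2 hxz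
  · exact ⟨s, hs, hsx.symm⟩
  · exfalso
    obtain ⟨i', e', he', hs'⟩ := c.conj_w hs
    have h1 : c.z ^ (i : ℕ) * c.w ^ ((1 : Fin 3) : ℕ) * e =
        c.z ^ ((-i' : Fin 3) : ℕ) * c.w ^ ((-1 : Fin 3) : ℕ) * e'⁻¹ := by
      rw [pow_fin_neg c.w_cube, ← c.w_pow_one, pow_fin_neg c.z_cube, hsx,
        show s * c.w⁻¹ * s⁻¹ = (s * c.w * s⁻¹)⁻¹ by group, hs', mul_inv_rev, mul_inv_rev,
        c.J_comm e'⁻¹ (inv_mem he'.1) _ (mul_mem (inv_mem c.w_mem_J) (inv_mem (pow_mem c.z_mem_J _))),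
        c.J_comm _ (inv_mem c.w_mem_J) _ (inv_mem (pow_mem c.z_mem_J _))]
    exact absurd (c.decomp_inj h.1 (inv_mem he') h1).2.1 (by decide)

theorem isQ_unique {i i' : Fin 3} {e : G} (h : c.IsQ i e) (h' : c.IsQ i' e) : i = i' := by
  obtain ⟨s, hs, hsx⟩ := h.exists_conj c
  have e1 : c.z ^ (i' : ℕ) * c.w * e =
      c.z ^ ((i' - i : Fin 3) : ℕ) * (s * c.w * s⁻¹) := by
    rw [hsx, ← mul_assoc, ← mul_assoc, ← pow_fin_add c.z_cube, sub_add_cancel]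
  have hz : ∀ n : ℕ, s⁻¹ * c.z ^ n * s = c.z ^ n := fun n => by
    rw [mul_assoc, ← ((show Commute s c.z from c.S_comm s hs).pow_right n).eq, inv_mul_cancel_left]
  have hp : c.IsPt (c.z ^ ((i' - i : Fin 3) : ℕ) * c.w ^ ((1 : Fin 3) : ℕ)) := by
    have h2 := IsPt.conj_M c (inv_mem (c.S_le_M hs)) (e1 ▸ h'.2)
    rwa [inv_inv, show s⁻¹ * (c.z ^ ((i' - i : Fin 3) : ℕ) * (s * c.w * s⁻¹)) * s =
      s⁻¹ * c.z ^ ((i' - i : Fin 3) : ℕ) * s * c.w by group, hz, c.w_pow_one] at h2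
  exact (sub_eq_zero.1 (c.grid_pt (by decide) hp)).symm

theorem isQ_exists {e : G} (he : e ∈ c.E) : ∃ i, c.IsQ i e := by
  have key : ∀ q : c.S ⧸ c.J.subgroupOf c.S, ∃ i : Fin 3, ∃ d : c.E,
      (q.out : G) * c.w * (q.out : G)⁻¹ = c.z ^ (i : ℕ) * c.w * d.1 := fun q => by
    obtain ⟨i, d, hd, h⟩ := c.conj_w q.out.2
    exact ⟨i, ⟨d, hd⟩, h⟩
  choose fi fe hf using key
  have hpt : ∀ q, c.IsQ (fi q) (fe q).1 := fun q =>
    ⟨(fe q).2, by rw [← hf]; exact IsPt.conj_M c (c.S_le_M q.out.2) c.isPt_w⟩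
  have hinj : Function.Injective fe := by
    intro q q' h
    have hi : fi q = fi q' := c.isQ_unique (hpt q) (h ▸ hpt q')
    have hh : (q.out : G) * c.w * (q.out : G)⁻¹ = (q'.out : G) * c.w * (q'.out : G)⁻¹ := by
      rw [hf, hf, h, hi]
    rw [← q.out_eq', ← q'.out_eq', QuotientGroup.eq, Subgroup.mem_subgroupOf]
    refine c.free (mul_mem (inv_mem q.out.2) q'.out.2) c.isPt_w c.w_not_line ?_
    push_cast
    rw [show (q.out : G)⁻¹ * (q'.out : G) * c.w * ((q.out : G)⁻¹ * (q'.out : G))⁻¹ =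
      (q.out : G)⁻¹ * ((q'.out : G) * c.w * (q'.out : G)⁻¹) * (q.out : G) by group, ← hh]
    simp [mul_assoc]
  have hcard : Nat.card (c.S ⧸ c.J.subgroupOf c.S) = 9 := by
    have h := Subgroup.card_eq_card_quotient_mul_card_subgroup (c.J.subgroupOf c.S)
    rw [Nat.card_congr (Subgroup.subgroupOfEquivOfLe c.J_le_S).toEquiv, c.card_S, c.card_J] at h
    omega
  obtain ⟨q, hq⟩ := ((Nat.bijective_iff_injective_and_card fe).2
    ⟨hinj, by rw [hcard, c.card_E]⟩).2 ⟨e, he⟩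
  exact ⟨fi q, by have := hpt q; rwa [hq] at this⟩

theorem isQ_one : c.IsQ 0 1 := ⟨one_mem _, by simpa using c.isPt_w⟩

theorem isQ_zero {e : G} (h : c.IsQ 0 e) : e = 1 := by
  have hp := IsPt.conj_N c (c.M_le c.g_mem) h.2
  rw [c.g_inv, show c.z ^ ((0 : Fin 3) : ℕ) * c.w * e = c.w * e by simp,
    show c.g * (c.w * e) * c.g = c.g * c.w * (c.g * c.g) * e * c.g by rw [c.g_sq]; group,
    show c.g * c.w * (c.g * c.g) * e * c.g = c.g * c.w * c.g * (c.g * e * c.g) by group, c.g_w] at hp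
  have he' := c.g_E h.1
  by_cases hz : c.z ^ (c.a : ℕ) * (c.g * e * c.g) ∈ Subgroup.zpowers c.z
  · obtain ⟨i, hi⟩ := c.fin_cases_zpow c.z_cube hz
    have h1 : c.z ^ (c.a : ℕ) * c.w ^ ((0 : Fin 3) : ℕ) * (c.g * e * c.g) =
        c.z ^ (i : ℕ) * c.w ^ ((0 : Fin 3) : ℕ) * 1 := by simpa using hi
    have h2 := (c.decomp_inj he' (one_mem _) h1).2.2
    calc e = c.g * c.g * e * (c.g * c.g) := by rw [c.g_sq]; group
      _ = c.g * (c.g * e * c.g) * c.g := by group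
      _ = 1 := by rw [h2, mul_one, c.g_sq]
  · exact absurd (mul_mem (pow_mem c.z_mem_Q _) (c.E_le_Q he')) (c.other_not_Q hp hz)

theorem j_z_pow (n : ℕ) : c.j * c.z ^ n * c.j⁻¹ = c.z ^ n :=
  conj_of_comm ((show Commute c.j c.z from c.j_z).pow_right n).eq

theorem j_E {e : G} (he : e ∈ c.E) : c.j * e * c.j⁻¹ ∈ c.E := by
  refine ⟨conj_mem_of_norm c.j_norm_J he.1, ?_⟩
  have hti : c.t * c.j⁻¹ = c.j⁻¹ * c.t :=
    (Commute.inv_right (show Commute c.t c.j from c.j_t.symm)).eq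
  calc c.t * (c.j * e * c.j⁻¹) * c.t = c.t * c.j * e * (c.j⁻¹ * c.t) := by group
    _ = c.j * (c.t * e * c.t) * c.j⁻¹ := by rw [← hti, ← c.j_t]; group
    _ = _ := by rw [c.E_inv_t he]; group

theorem isQ_even {i : Fin 3} {e : G} (h : c.IsQ i e) : c.IsQ i e⁻¹ := by
  refine ⟨inv_mem h.1, ?_⟩
  have hp := IsPt.conj_N c c.t_norm_J h.2
  rwa [c.t_inv, c.t_conj_mul, c.E_inv_t h.1,
    show c.z ^ (i : ℕ) * c.w = c.z ^ (i : ℕ) * c.w ^ ((1 : Fin 3) : ℕ) by rw [← c.w_pow_one],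
    c.grid_fix, ← c.w_pow_one] at hp

/-- The action of an element of the normaliser on the points over `E`. -/
theorem isQ_act {n : G} (hn : n ∈ Subgroup.normalizer (c.J : Set G))
    (hE : ∀ e ∈ c.E, n * e * n⁻¹ ∈ c.E) {d : Fin 3} (hz : n * c.z * n⁻¹ = c.z ^ (d : ℕ))
    (hw : n * c.w * n⁻¹ = c.w) {i : Fin 3} {e : G} (h : c.IsQ i e) :
    c.IsQ (i * d) (n * e * n⁻¹) := by
  refine ⟨hE e h.1, ?_⟩
  have hp := IsPt.conj_N c hn h.2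
  rwa [show n * (c.z ^ (i : ℕ) * c.w * e) * n⁻¹ =
    n * c.z ^ (i : ℕ) * n⁻¹ * (n * c.w * n⁻¹) * (n * e * n⁻¹) by group, ← conj_pow, hz, hw,
    ← pow_fin_mul c.z_cube, mul_comm d i] at hp

theorem isQ_j {i : Fin 3} {e : G} (h : c.IsQ i e) : c.IsQ (-i) (c.j * e * c.j⁻¹) := by
  have hp := (IsPt.conj_N c c.j_norm_J h.2).inv c
  obtain ⟨d, hd, hde⟩ : ∃ d ∈ c.E, c.j * e * c.j⁻¹ = d := ⟨_, c.j_E h.1, rfl⟩
  obtain ⟨u, hu, huz⟩ : ∃ u ∈ c.J, (c.z ^ (i : ℕ))⁻¹ = u :=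
    ⟨_, inv_mem (pow_mem c.z_mem_J _), rfl⟩
  rw [show c.j * (c.z ^ (i : ℕ) * c.w * e) * c.j⁻¹ =
    c.j * c.z ^ (i : ℕ) * c.j⁻¹ * (c.j * c.w * c.j⁻¹) * (c.j * e * c.j⁻¹) by group,
    c.j_z_pow, c.j_w, hde, mul_inv_rev (c.z ^ (i : ℕ) * c.w⁻¹), mul_inv_rev (c.z ^ (i : ℕ)),
    inv_inv, huz, c.J_comm _ c.w_mem_J u hu,
    c.J_comm _ (inv_mem hd.1) _ (mul_mem hu c.w_mem_J), ← huz, ← pow_fin_neg c.z_cube] at hp
  have h' := c.isQ_even (i := -i) (e := d⁻¹) ⟨inv_mem hd, hp⟩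
  rw [hde]
  rwa [inv_inv] at h'

theorem isQ_g {i : Fin 3} {e : G} (h : c.IsQ i e) : c.IsQ i (c.g * e * c.g) := by
  by_cases hi : i = 0
  · subst hi
    rw [c.isQ_zero h, mul_one, c.g_sq]
    exact c.isQ_one
  refine ⟨c.g_E h.1, ?_⟩
  have hp := IsPt.conj_N c (c.M_le c.g_mem) h.2
  rw [c.g_inv] at hp
  obtain ⟨e', he', he'd⟩ : ∃ e' ∈ c.E, c.g * e * c.g = e' := ⟨_, c.g_E h.1, rfl⟩
  rw [show c.g * (c.z ^ (i : ℕ) * c.w * e) * c.g =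
      c.g * c.z ^ (i : ℕ) * c.g⁻¹ * (c.g * c.w * c.g⁻¹) * (c.g * e * c.g) by group,
    ← conj_pow, c.g_inv, c.g_z, c.g_w, he'd,
    c.J_comm _ (pow_mem (pow_mem c.w_mem_J _) _) _ (pow_mem c.z_mem_J _),
    ← pow_fin_mul c.w_cube] at hp
  rw [he'd]
  -- raise to the power `a * i`
  obtain ⟨n, hn⟩ : ∃ n : Fin 3, n = c.a * i := ⟨_, rfl⟩
  have hn0 : n ≠ 0 := by
    have key : ∀ p q : Fin 3, p ≠ 0 → q ≠ 0 → p * q ≠ 0 := by decide
    exact hn ▸ key _ _ c.a_ne hi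
  have hpn : c.IsPt ((c.z ^ (c.a : ℕ) * c.w ^ ((c.a * i : Fin 3) : ℕ) * e') ^ (n : ℕ)) := by
    have key : ∀ p : Fin 3, p ≠ 0 → p = 1 ∨ p = 2 := by decide
    rcases key n hn0 with rfl | rfl
    · rwa [show ((1 : Fin 3) : ℕ) = 1 from rfl, pow_one]
    · rw [show ((2 : Fin 3) : ℕ) = 2 from rfl,
        show (c.z ^ (c.a : ℕ) * c.w ^ ((c.a * i : Fin 3) : ℕ) * e') ^ 2 =
          (c.z ^ (c.a : ℕ) * c.w ^ ((c.a * i : Fin 3) : ℕ) * e')⁻¹ from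
          (inv_eq_of_mul_eq_one_right (by rw [← pow_succ', c.J_exp _ (hp.mem_J c)])).symm]
      exact hp.inv c
  have hc1 : Commute (c.z ^ (c.a : ℕ) * c.w ^ ((c.a * i : Fin 3) : ℕ)) e' :=
    c.J_comm _ (c.grid_mem_J _ _) _ he'.1
  have hc2 : Commute (c.z ^ (c.a : ℕ)) (c.w ^ ((c.a * i : Fin 3) : ℕ)) :=
    c.J_comm _ (pow_mem c.z_mem_J _) _ (pow_mem c.w_mem_J _)
  have e1 : c.a * n = i := by
    have key : ∀ p q : Fin 3, p ≠ 0 → p * (p * q) = q := by decide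
    rw [hn, key _ _ c.a_ne]
  have e2 : c.a * i * n = 1 := by rw [← hn]; exact fin_sq n hn0
  rw [hc1.mul_pow, hc2.mul_pow, ← pow_fin_mul c.z_cube, ← pow_fin_mul c.w_cube, e1, e2,
    ← c.w_pow_one] at hpn
  have key : ∀ p : Fin 3, p ≠ 0 → p = 1 ∨ p = 2 := by decide
  rcases key n hn0 with rfl | rfl
  · rwa [show ((1 : Fin 3) : ℕ) = 1 from rfl, pow_one] at hpn
  · have h2 := c.isQ_even (i := i) (e := e' ^ 2) ⟨pow_mem he' 2, hpn⟩
    rw [show (e' ^ 2)⁻¹ = e' from inv_eq_of_mul_eq_one_left (by rw [← pow_succ', c.J_exp _ he'.1])] at h2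
    exact h2.2

end Setup

end CfsgLib.McLThreeLocal
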