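import Cfsg.Agent.McLThreeLocal.Form

/-!
# Coordinates on `E` and the centraliser of `z, w, t, j`
-/

set_option autoImplicit false
set_option linter.style.haveILetI false
set_option linter.unusedSectionVars false

namespace CfsgLib.McLThreeLocal

namespace Setup

variable {G : Type*} [Group G] [Finite G] (c : Setup G)
include c

theorem exists_e₀ : ∃ e ∈ c.E, e ≠ 1 := by
  obtain ⟨⟨y, hy⟩, hy1⟩ := @exists_ne c.E
    (Finite.one_lt_card_iff_nontrivial.1 (by rw [c.card_E]; norm_num)) 1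
  exact ⟨y, hy, fun h => hy1 (Subtype.ext h)⟩

/-- The first basis vector. -/
noncomputable def e₀ : G := c.exists_e₀.choose

theorem e₀_mem : c.e₀ ∈ c.E := c.exists_e₀.choose_spec.1

theorem e₀_ne : c.e₀ ≠ 1 := c.exists_e₀.choose_spec.2

/-- The second basis vector. -/
noncomputable def e₁ : G := c.j * c.e₀ * c.j⁻¹

theorem e₁_mem : c.e₁ ∈ c.E := c.j_E c.e₀_mem

theorem E_cube {e : G} (he : e ∈ c.E) : e ^ 3 = 1 := c.J_exp e he.1

/-- The coordinates. -/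
noncomputable def ev (v : V3) : G := c.e₀ ^ (v.1 : ℕ) * c.e₁ ^ (v.2 : ℕ)

theorem ev_mem (v : V3) : c.ev v ∈ c.E := mul_mem (pow_mem c.e₀_mem _) (pow_mem c.e₁_mem _)

theorem ev_add (u v : V3) : c.ev (u + v) = c.ev u * c.ev v := by
  have hc : Commute (c.e₁ ^ (u.2 : ℕ)) (c.e₀ ^ (v.1 : ℕ)) :=
    (show Commute c.e₁ c.e₀ from c.J_comm _ c.e₁_mem.1 _ c.e₀_mem.1).pow_pow _ _
  rw [ev, ev, ev, Prod.fst_add, Prod.snd_add, pow_fin_add (c.E_cube c.e₀_mem),
    pow_fin_add (c.E_cube c.e₁_mem)]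
  exact (hc.symm.mul_mul_mul_comm _ _)

theorem ev_zero : c.ev 0 = 1 := by
  show c.e₀ ^ 0 * c.e₁ ^ 0 = 1
  rw [pow_zero, pow_zero, one_mul]

theorem ev_neg (v : V3) : c.ev (-v) = (c.ev v)⁻¹ :=
  eq_inv_of_mul_eq_one_left (by rw [← c.ev_add, neg_add_cancel, c.ev_zero])

theorem isQ_ne {e : G} (he : e ∈ c.E) (h1 : e ≠ 1) : ∃ i, i ≠ 0 ∧ c.IsQ i e := by
  obtain ⟨i, hi⟩ := c.isQ_exists he
  exact ⟨i, fun h => h1 (c.isQ_zero (h ▸ hi)), hi⟩

theorem ev_inj {u v : V3} (h : c.ev u = c.ev v) : u = v := by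
  have key : ∀ v : V3, c.ev v = 1 → v = 0 := by
    rintro ⟨a, b⟩ hv
    change c.e₀ ^ (a : ℕ) * c.e₁ ^ (b : ℕ) = 1 at hv
    have hb : b = 0 := by
      by_contra hb
      have h1 : c.e₁ = c.e₀ ^ ((-a * b : Fin 3) : ℕ) := by
        rw [pow_fin_mul (c.E_cube c.e₀_mem), pow_fin_neg (c.E_cube c.e₀_mem),
          ← eq_inv_of_mul_eq_one_right hv, ← pow_fin_mul (c.E_cube c.e₁_mem), fin_sq b hb]
        exact (pow_one _).symm
      obtain ⟨i, hi0, hi⟩ := c.isQ_ne c.e₀_mem c.e₀_ne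
      have h2 : c.IsQ (-i) c.e₁ := c.isQ_j hi
      have hm : ∀ m : Fin 3, m = 0 ∨ m = 1 ∨ m = 2 := by decide
      have hne : ∀ p : Fin 3, p ≠ 0 → p ≠ -p := by decide
      rcases hm (-a * b) with e | e | e <;> rw [e] at h1
      · refine c.e₀_ne ?_
        have h3 : c.j * c.e₀ * c.j⁻¹ = 1 := h1.trans (pow_zero _)
        simpa using h3
      · rw [show c.e₀ ^ ((1 : Fin 3) : ℕ) = c.e₀ from pow_one _] at h1
        rw [h1] at h2
        exact hne i hi0 (c.isQ_unique hi h2)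
      · rw [show c.e₀ ^ ((2 : Fin 3) : ℕ) = c.e₀⁻¹ from
          (inv_eq_of_mul_eq_one_right (by rw [← pow_succ']; exact c.E_cube c.e₀_mem)).symm] at h1
        rw [h1] at h2
        exact hne i hi0 (c.isQ_unique (c.isQ_even hi) h2)
    subst hb
    have ha : c.e₀ ^ (a : ℕ) = 1 := by simpa using hv
    have hm : ∀ m : Fin 3, m ≠ 0 → (m : ℕ) = 1 ∨ (m : ℕ) = 2 := by decide
    by_contra hne
    rcases hm a (fun e => hne (by rw [e]; rfl)) with e | e <;> rw [e] at ha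
    · exact c.e₀_ne (by simpa using ha)
    · have := c.E_cube c.e₀_mem
      rw [pow_succ, ha, one_mul] at this
      exact c.e₀_ne this
  have h' := key (u + -v) (by rw [c.ev_add, c.ev_neg, h, mul_inv_cancel])
  rw [← sub_eq_add_neg, sub_eq_zero] at h'
  exact h'

theorem ev_surj {e : G} (he : e ∈ c.E) : ∃ v, c.ev v = e := by
  have hf : Function.Injective fun v : V3 => (⟨c.ev v, c.ev_mem v⟩ : c.E) := fun u v h =>
    c.ev_inj (congrArg Subtype.val h)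
  obtain ⟨v, hv⟩ := ((Nat.bijective_iff_injective_and_card _).2 ⟨hf, by
    rw [c.card_E, Nat.card_prod, Nat.card_fin]⟩).2 ⟨e, he⟩
  exact ⟨v, congrArg Subtype.val hv⟩

theorem ev_rot (v : V3) : c.j * c.ev v * c.j⁻¹ = c.ev (rot v) := by
  have h1 : c.j * c.e₁ * c.j⁻¹ = c.e₀⁻¹ := by
    rw [e₁, ← conj_conj, c.j_sq, c.t_inv, c.E_inv_t c.e₀_mem]
  have h0 : c.j * c.e₀ * c.j⁻¹ = c.e₁ := rfl
  rw [ev, ev, show c.j * (c.e₀ ^ (v.1 : ℕ) * c.e₁ ^ (v.2 : ℕ)) * c.j⁻¹ =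
    (c.j * c.e₀ ^ (v.1 : ℕ) * c.j⁻¹) * (c.j * c.e₁ ^ (v.2 : ℕ) * c.j⁻¹) by group,
    ← conj_pow, ← conj_pow, h0, h1, inv_pow]
  simp only [rot]
  rw [pow_fin_neg (c.E_cube c.e₀_mem)]
  exact c.J_comm _ (pow_mem c.e₁_mem.1 _) _ (inv_mem (pow_mem c.e₀_mem.1 _))

/-- `n` acts on `E` by `f`. -/
def Act (n : G) (f : V3 → V3) : Prop := ∀ v, n * c.ev v * n⁻¹ = c.ev (f v)

theorem Act.comp {m n : G} {f h : V3 → V3} (hm : c.Act m f) (hn : c.Act n h) :
    c.Act (m * n) (f ∘ h) := fun v => by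
  rw [conj_conj, hn, hm]
  rfl

theorem Act.unique {n : G} {f h : V3 → V3} (hm : c.Act n f) (hn : c.Act n h) (v : V3) : f v = h v :=
  c.ev_inj ((hm v).symm.trans (hn v))

theorem act_j : c.Act c.j rot := c.ev_rot

theorem act_t : c.Act c.t fun v => -v := fun v => by
  rw [c.t_inv, c.E_inv_t (c.ev_mem v), c.ev_neg]

theorem act_J {x : G} (hx : x ∈ c.J) : c.Act x id := fun v =>
  conj_of_comm (c.J_comm x hx _ (c.ev_mem v).1)

theorem exists_act {n : G} (hE : ∀ e ∈ c.E, n * e * n⁻¹ ∈ c.E) :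
    ∃ A : V3 × V3, c.Act n (app A) := by
  obtain ⟨p, hp⟩ := c.ev_surj (hE _ c.e₀_mem)
  obtain ⟨r, hr⟩ := c.ev_surj (hE _ c.e₁_mem)
  refine ⟨(p, r), fun v => ?_⟩
  have hc : Commute (c.e₀ ^ (p.1 : ℕ)) (c.e₁ ^ (p.2 : ℕ)) :=
    (show Commute c.e₀ c.e₁ from c.J_comm _ c.e₀_mem.1 _ c.e₁_mem.1).pow_pow _ _
  have hc' : Commute (c.e₀ ^ (r.1 : ℕ)) (c.e₁ ^ (r.2 : ℕ)) :=
    (show Commute c.e₀ c.e₁ from c.J_comm _ c.e₀_mem.1 _ c.e₁_mem.1).pow_pow _ _
  rw [ev, show n * (c.e₀ ^ (v.1 : ℕ) * c.e₁ ^ (v.2 : ℕ)) * n⁻¹ =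
    (n * c.e₀ ^ (v.1 : ℕ) * n⁻¹) * (n * c.e₁ ^ (v.2 : ℕ) * n⁻¹) by group,
    ← conj_pow, ← conj_pow, ← hp, ← hr]
  simp only [ev, app]
  rw [hc.mul_pow, hc'.mul_pow, pow_fin_add (c.E_cube c.e₀_mem), pow_fin_add (c.E_cube c.e₁_mem),
    mul_comm v.1 p.1, mul_comm v.2 r.1, mul_comm v.1 p.2, mul_comm v.2 r.2,
    pow_fin_mul (c.E_cube c.e₀_mem), pow_fin_mul (c.E_cube c.e₀_mem),
    pow_fin_mul (c.E_cube c.e₁_mem), pow_fin_mul (c.E_cube c.e₁_mem)]
  exact (((show Commute c.e₀ c.e₁ from c.J_comm _ c.e₀_mem.1 _ c.e₁_mem.1).pow_pow _ _).pow_pow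
    _ _).symm.mul_mul_mul_comm _ _

theorem exists_colour : ∃ s u : Fin 3, s ≠ 0 ∧ u ≠ 0 ∧ ∀ v, c.IsQ (qf s u v) (c.ev v) := by
  have hne : ∀ v : V3, v ≠ 0 → c.ev v ≠ 1 := fun v hv h => hv (c.ev_inj (h.trans c.ev_zero.symm))
  obtain ⟨s, hs, h10⟩ := c.isQ_ne (c.ev_mem (1, 0)) (hne _ (by decide))
  obtain ⟨u, hu, h11⟩ := c.isQ_ne (c.ev_mem (1, 1)) (hne _ (by decide))
  have hneg : ∀ {i : Fin 3} {v : V3}, c.IsQ i (c.ev v) → c.IsQ i (c.ev (-v)) := fun h => by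
    rw [c.ev_neg]; exact c.isQ_even h
  have hrot : ∀ {i : Fin 3} {v : V3}, c.IsQ i (c.ev v) → c.IsQ (-i) (c.ev (rot v)) := fun h => by
    rw [← c.ev_rot]; exact c.isQ_j h
  refine ⟨s, u, hs, hu, fun v => ?_⟩
  have hv : v = 0 ∨ v = (1, 0) ∨ v = -(1, 0) ∨ v = rot (1, 0) ∨ v = -rot (1, 0) ∨
      v = (1, 1) ∨ v = -(1, 1) ∨ v = rot (1, 1) ∨ v = -rot (1, 1) := by
    revert v; decide
  rcases hv with rfl | rfl | rfl | rfl | rfl | rfl | rfl | rfl | rfl
  · rw [c.ev_zero, show qf s u 0 = 0 from rfl]; exact c.isQ_one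
  · exact h10
  · exact hneg h10
  · exact hrot h10
  · exact hneg (hrot h10)
  · exact h11
  · exact hneg h11
  · exact hrot h11
  · exact hneg (hrot h11)

/-- The centraliser of `z, w, t, j`. -/
theorem cent_zwtj {r : G} (hz : r * c.z = c.z * r) (hw : r * c.w = c.w * r)
    (ht : r * c.t = c.t * r) (hj : r * c.j = c.j * r) :
    ∃ (i : Fin 3) (k : Fin 2), r = c.z ^ (i : ℕ) * c.t ^ (k : ℕ) := by
  have hzz : r * c.z * r⁻¹ ∈ Subgroup.zpowers c.z := by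
    rw [conj_of_comm hz]; exact Subgroup.mem_zpowers _
  have hS : r ∈ Subgroup.normalizer (c.S : Set G) := mem_norm_of_conj fun s hs => by
    obtain ⟨q, hq, k, rfl⟩ := c.S_decomp hs
    rw [show r * (q * c.w ^ (k : ℕ)) * r⁻¹ = r * q * r⁻¹ * (r * c.w ^ (k : ℕ) * r⁻¹) by group,
      conj_of_comm ((show Commute r c.w from hw).pow_right _).eq]
    exact mul_mem (c.Q_le_S (c.conj_mem_Q hzz hq)) (c.J_le_S (pow_mem c.w_mem_J _))
  have hJ := c.norm_J_of_norm_S hS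
  have hE : ∀ e ∈ c.E, r * e * r⁻¹ ∈ c.E := fun e he =>
    c.E_norm_fix hJ hzz (by rw [conj_of_comm hw]; exact Subgroup.mem_zpowers _) he
  obtain ⟨A, hA⟩ := c.exists_act hE
  obtain ⟨s, u, hs, hu, hq⟩ := c.exists_colour
  have hkeep : ∀ v, qf s u (app A v) = qf s u v := fun v => by
    have h := c.isQ_act hJ hE (d := 1) ((conj_of_comm hz).trans (pow_one _).symm) (conj_of_comm hw)
      (hq v)
    rw [mul_one, hA] at h
    exact c.isQ_unique (hq _) h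
  have hcomm : ∀ v, app A (rot v) = rot (app A v) := fun v => by
    have h1 : c.Act (r * c.j) fun v => app A (rot v) := Act.comp c hA c.act_j
    have h2 : c.Act (r * c.j) fun v => rot (app A v) := hj ▸ Act.comp c c.act_j hA
    exact Act.unique c h1 h2 v
  -- an element centralising `E` and commuting with `z, w, t, j`
  have main : ∀ x : G, x * c.z = c.z * x → x * c.w = c.w * x → x * c.t = c.t * x →
      x * c.j = c.j * x → (∀ e ∈ c.E, x * e * x⁻¹ = e) → ∃ i : Fin 3, x = c.z ^ (i : ℕ) := by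
    intro x hxz hxw hxt hxj hxE
    have hxJ : x ∈ c.J := c.cent_J fun y hy => comm_of_conj (by
      obtain ⟨i, k, e, he, rfl⟩ := c.decomp hy
      rw [show x * (c.z ^ (i : ℕ) * c.w ^ (k : ℕ) * e) * x⁻¹ =
        (x * (c.z ^ (i : ℕ) * c.w ^ (k : ℕ)) * x⁻¹) * (x * e * x⁻¹) by group, hxE e he,
        conj_of_comm (((show Commute x c.z from hxz).pow_right _).mul_right
          ((show Commute x c.w from hxw).pow_right _)).eq])
    obtain ⟨i, k, rfl⟩ := c.grid_of_fix hxJ hxt.symm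
    have h := conj_of_comm hxj.symm
    rw [show c.j * (c.z ^ (i : ℕ) * c.w ^ (k : ℕ)) * c.j⁻¹ =
      c.j * c.z ^ (i : ℕ) * c.j⁻¹ * (c.j * c.w ^ (k : ℕ) * c.j⁻¹) by group, c.j_z_pow, ← conj_pow,
      c.j_w, inv_pow, ← pow_fin_neg c.w_cube] at h
    have key : ∀ p : Fin 3, -p = p → p = 0 := by decide
    refine ⟨i, ?_⟩
    rw [key k (c.grid_inj h).2]
    simp
  rcases comm_rot_keep s u hs hu A hkeep hcomm with h | h
  · obtain ⟨i, hi⟩ := main r hz hw ht hj fun e he => by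
      obtain ⟨v, rfl⟩ := c.ev_surj he
      rw [hA, h]
    exact ⟨i, 0, by rw [hi]; simp⟩
  · obtain ⟨i, hi⟩ := main (r * c.t) ((show Commute r c.z from hz).mul_left c.t_z).eq
      ((show Commute r c.w from hw).mul_left c.t_w).eq
      ((show Commute r c.t from ht).mul_left (Commute.refl _)).eq
      ((show Commute r c.j from hj).mul_left c.j_t.symm).eq fun e he => by
      obtain ⟨v, rfl⟩ := c.ev_surj he
      rw [Act.comp c hA c.act_t]
      show c.ev (app A (-v)) = _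
      rw [h, neg_neg]
    exact ⟨i, 1, by rw [← hi]; simp [mul_assoc, c.t_sq]⟩

/-- The conjugate of `j` under the exchange. -/
noncomputable def jz : G := c.g * c.j * c.g

theorem jz_sq : c.jz * c.jz = c.t := by
  rw [jz, show c.g * c.j * c.g * (c.g * c.j * c.g) = c.g * c.j * (c.g * c.g) * c.j * c.g by group,
    c.g_sq, mul_one, mul_assoc c.g c.j c.j, c.j_sq, ← c.t_g, mul_assoc, c.g_sq, mul_one]

theorem jz_t : c.jz * c.t = c.t * c.jz := by
  rw [← c.jz_sq, mul_assoc]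

theorem g_w_pow : c.g * c.w ^ (c.a : ℕ) * c.g = c.z := by
  have h : c.g * c.w ^ (c.a : ℕ) * c.g⁻¹ = c.z := by
    rw [← conj_pow, c.g_inv, c.g_w, ← c.z_line c.a_ne]
  rwa [c.g_inv] at h

theorem g_z_pow : c.g * c.z ^ (c.a : ℕ) * c.g = c.w := by
  have h : c.g * c.z ^ (c.a : ℕ) * c.g⁻¹ = c.w := by
    rw [← conj_pow, c.g_inv, c.g_z, ← c.w_line c.a_ne]
  rwa [c.g_inv] at h

theorem jz_z : c.jz * c.z * c.jz⁻¹ = c.z⁻¹ := by
  rw [jz, show c.g * c.j * c.g * c.z * (c.g * c.j * c.g)⁻¹ =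
    c.g * (c.j * (c.g * c.z * c.g⁻¹) * c.j⁻¹) * c.g⁻¹ by group, c.g_inv, c.g_z, ← conj_pow, c.j_w,
    inv_pow]
  conv_rhs => rw [← c.g_w_pow]
  rw [mul_inv_rev, mul_inv_rev, c.g_inv, mul_assoc]

theorem jz_w : c.jz * c.w * c.jz⁻¹ = c.w := by
  rw [jz, show c.g * c.j * c.g * c.w * (c.g * c.j * c.g)⁻¹ =
    c.g * (c.j * (c.g * c.w * c.g⁻¹) * c.j⁻¹) * c.g⁻¹ by group, c.g_inv, c.g_w, c.j_z_pow,
    c.g_z_pow]

theorem jz_norm_J : c.jz ∈ Subgroup.normalizer (c.J : Set G) :=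
  mul_mem (mul_mem (c.M_le c.g_mem) c.j_norm_J) (c.M_le c.g_mem)

/-- The conjugate of `j` induces an outer automorphism on the complement. -/
theorem jz_outer (y : CfsgLib.Perm.RegularLinear.SLFive)
    (h : ∀ x, (c.σ y)⁻¹ * c.jz * c.σ x = c.σ x * ((c.σ y)⁻¹ * c.jz)) : False := by
  have hyw : y * x0 = x0 * y := by
    refine c.σ_inj ?_
    rw [map_mul, map_mul]
    show c.σ y * c.w = c.w * c.σ y
    have h1 := h x0
    rw [show c.σ x0 = c.w from rfl] at h1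
    have h2 : c.jz * c.w = c.w * c.jz := comm_of_conj c.jz_w
    have h4 : (c.σ y)⁻¹ * c.w = c.w * (c.σ y)⁻¹ := mul_right_cancel (b := c.jz) (by
      calc (c.σ y)⁻¹ * c.w * c.jz = (c.σ y)⁻¹ * c.jz * c.w := by rw [mul_assoc, ← h2, mul_assoc]
        _ = _ := by rw [h1, mul_assoc])
    exact (Commute.inv_left_iff.1 (show Commute (c.σ y)⁻¹ c.w from h4)).eq
  obtain ⟨i, k, rfl⟩ := centralizer_x0 y hyw
  obtain ⟨b, hb⟩ : ∃ b, b = (c.σ (x0 ^ (i : ℕ) * ee ^ (k : ℕ)))⁻¹ * c.jz := ⟨_, rfl⟩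
  simp only [← hb] at h
  have hbw : b * c.w * b⁻¹ = c.w := conj_of_comm (h x0)
  have hbj : b * c.j = c.j * b := h j0
  have hσ : c.σ (x0 ^ (i : ℕ) * ee ^ (k : ℕ)) = c.w ^ (i : ℕ) * c.t ^ (k : ℕ) := by
    rw [map_mul, map_pow, map_pow, c.σ_ee]; rfl
  rw [hσ] at hb
  have hbz : b * c.z * b⁻¹ = c.z ^ ((2 : Fin 3) : ℕ) := by
    rw [hb, conj_conj, c.jz_z, conj_of_comm
      (((show Commute c.w c.z from c.w_z).pow_left _).mul_left
        ((show Commute c.t c.z from c.t_z).pow_left _)).inv_left.inv_right.eq]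
    exact inv_eq_of_mul_eq_one_right (show c.z * c.z ^ 2 = 1 by rw [← pow_succ', c.z_cube])
  have hbJ : b ∈ Subgroup.normalizer (c.J : Set G) := hb ▸ mul_mem (inv_mem (mul_mem
    (pow_mem (Subgroup.le_normalizer c.w_mem_J) _) (pow_mem c.t_norm_J _))) c.jz_norm_J
  have hbE : ∀ e ∈ c.E, b * e * b⁻¹ ∈ c.E := fun e he =>
    c.E_norm_fix hbJ (by rw [hbz]; exact pow_mem (Subgroup.mem_zpowers _) _)
      (by rw [hbw]; exact Subgroup.mem_zpowers _) he
  obtain ⟨B, hB⟩ := c.exists_act hbE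
  obtain ⟨A, hA⟩ := c.exists_act (n := c.g) fun e he => by rw [c.g_inv]; exact c.g_E he
  obtain ⟨s, u, hs, hu, hq⟩ := c.exists_colour
  have hchange : ∀ v, qf s u (app B v) = -qf s u v := fun v => by
    have h' := c.isQ_act hbJ hbE hbz hbw (hq v)
    rw [hB] at h'
    rw [c.isQ_unique (hq _) h']
    have key : ∀ p : Fin 3, p * 2 = -p := by decide
    exact key _
  have hkeep : ∀ v, qf s u (app A v) = qf s u v := fun v => by
    have h' := c.isQ_g (hq v)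
    have e := hA v
    rw [c.g_inv] at e
    rw [e] at h'
    exact c.isQ_unique (hq _) h'
  have hAA : ∀ v, app A (app A v) = v := fun v => by
    have h1 : c.Act (c.g * c.g) fun v => app A (app A v) := Act.comp c hA hA
    have h2 : c.Act (c.g * c.g) id := by rw [c.g_sq]; exact c.act_J (one_mem _)
    exact Act.unique c h1 h2 v
  have hcomm : ∀ v, app B (rot v) = rot (app B v) := fun v => by
    have h1 : c.Act (b * c.j) fun v => app B (rot v) := Act.comp c hB c.act_j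
    have h2 : c.Act (b * c.j) fun v => rot (app B v) := hbj ▸ Act.comp c c.act_j hB
    exact Act.unique c h1 h2 v
  have hjz : c.Act c.jz fun v => app A (rot (app A v)) :=
    (Act.comp c (Act.comp c hA c.act_j) hA : c.Act (c.g * c.j * c.g) _)
  have hor : (∀ v, app B v = app A (rot (app A v))) ∨ ∀ v, app B v = -app A (rot (app A v)) := by
    have hw' : c.Act (c.w ^ (i : ℕ))⁻¹ id := c.act_J (inv_mem (pow_mem c.w_mem_J _))
    fin_cases k
    · left
      refine Act.unique c hB ?_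
      rw [hb]
      have h1 : c.Act ((c.w ^ (i : ℕ))⁻¹ * c.jz) fun v => app A (rot (app A v)) :=
        Act.comp c hw' hjz
      simpa using h1
    · right
      refine Act.unique c hB ?_
      have h1 : c.Act (c.t * ((c.w ^ (i : ℕ))⁻¹ * c.jz)) fun v => -app A (rot (app A v)) :=
        Act.comp c c.act_t (Act.comp c hw' hjz)
      rw [hb]
      simpa [mul_inv_rev, c.t_inv, mul_assoc] using h1
  have hnorm : (∀ v, app A (rot (app A v)) = rot v) ∨ ∀ v, app A (rot (app A v)) = -rot v := by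
    rcases comm_rot_change s u hs hu B hchange hcomm with h1 | h1 <;> rcases hor with h2 | h2
    · exact Or.inl fun v => (h2 v).symm.trans (h1 v)
    · exact Or.inr fun v => by rw [← h1 v, h2 v, neg_neg]
    · exact Or.inr fun v => (h2 v).symm.trans (h1 v)
    · exact Or.inl fun v => neg_injective ((h2 v).symm.trans (h1 v))
  rcases invol_keep s u hs hu A hkeep hAA hnorm with h1 | h1
  · refine c.g_E_not_one fun e he => ?_
    obtain ⟨v, rfl⟩ := c.ev_surj he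
    have := hA v
    rwa [h1, c.g_inv] at this
  · refine c.g_E_not_inv fun e he => ?_
    obtain ⟨v, rfl⟩ := c.ev_surj he
    have := hA v
    rwa [h1, c.g_inv, c.ev_neg] at this

end Setup

end CfsgLib.McLThreeLocal
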