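import Cfsg.Agent.McLThreeLocal.Complement

/-!
# The two elements of order four anticommute; `t` lies in `M`
-/

set_option autoImplicit false
set_option linter.style.haveILetI false
set_option linter.unusedSectionVars false

namespace CfsgLib.McLThreeLocal

open Equiv

/-- An involution normalising the Sylow subgroup. -/
theorem six_exists_invol {P : Subgroup (alternatingGroup (Fin 6))} (hP : Nat.card P = 9) :
    ∃ u ∈ Subgroup.normalizer (P : Set (alternatingGroup (Fin 6))), u * u = 1 ∧ u ≠ 1 := by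
  obtain ⟨g, hg⟩ := exists_conj_pNine hP
  obtain ⟨v, hv, hN, h2, h1⟩ : ∃ v : Perm (Fin 6), Perm.sign v = 1 ∧ NormP v ∧ v * v = 1 ∧ v ≠ 1 :=
    ⟨swap 1 2 * swap 4 5, by decide +kernel⟩
  obtain ⟨e, he⟩ : ∃ e : alternatingGroup (Fin 6), e.1 = v :=
    ⟨⟨v, Perm.mem_alternatingGroup.2 hv⟩, rfl⟩
  refine ⟨g⁻¹ * e * g, (conj_normalizer hg _).2 ?_, ?_, fun h => h1 ?_⟩
  · rw [show g * (g⁻¹ * e * g) * g⁻¹ = e by group]
    exact mem_of_normP (he ▸ hN)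
  · have hee : e * e = 1 := Subtype.ext (by rw [Subgroup.coe_mul, he]; exact h2)
    rw [show g⁻¹ * e * g * (g⁻¹ * e * g) = g⁻¹ * (e * e) * g by group, hee]
    group
  · have : e = 1 := by
      calc e = g * (g⁻¹ * e * g) * g⁻¹ := by group
        _ = 1 := by rw [h]; group
    rw [← he, this]; rfl

namespace Setup

variable {G : Type*} [Group G] [Finite G] (c : Setup G)
include c

theorem g_E_scalar {A : V3 × V3} (hA : c.Act c.g (app A))
    (h : (∀ v, app A v = v) ∨ ∀ v, app A v = -v) : False := by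
  rcases h with h1 | h1
  · refine c.g_E_not_one fun e he => ?_
    obtain ⟨v, rfl⟩ := c.ev_surj he
    have := hA v
    rwa [h1, c.g_inv] at this
  · refine c.g_E_not_inv fun e he => ?_
    obtain ⟨v, rfl⟩ := c.ev_surj he
    have := hA v
    rwa [h1, c.g_inv, c.ev_neg] at this

/-- The element `j` and its conjugate under the exchange anticommute. -/
theorem jz_j : c.jz * c.j = c.t * (c.j * c.jz) := by
  have hN : c.jz ∈ Subgroup.normalizer (c.σ.range : Set G) := c.jz_N5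
  obtain ⟨y, hy⟩ := (Subgroup.mem_normalizer_iff.1 hN c.j).1 ⟨j0, rfl⟩
  have hyw : y * x0 * y⁻¹ = x0⁻¹ := by
    refine c.σ_inj ?_
    rw [map_mul, map_mul, map_inv, map_inv, hy]
    show c.jz * c.j * c.jz⁻¹ * c.w * (c.jz * c.j * c.jz⁻¹)⁻¹ = c.w⁻¹
    have hwf : c.jz⁻¹ * c.w * c.jz⁻¹⁻¹ = c.w := by
      calc _ = c.jz⁻¹ * (c.jz * c.w * c.jz⁻¹) * c.jz := by rw [c.jz_w, inv_inv]
        _ = c.w := by group
    rw [conj_conj, hwf, conj_conj, c.j_w, ← conj_inv, c.jz_w]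
  have hcen : (y * j0⁻¹) * x0 = x0 * (y * j0⁻¹) := by
    refine comm_of_conj ?_
    have hj : j0⁻¹ * x0 * j0⁻¹⁻¹ = x0⁻¹ := by decide +kernel
    rw [conj_conj, hj, ← conj_inv, hyw, inv_inv]
  obtain ⟨l, k, hlk⟩ := centralizer_x0 _ hcen
  have hu : c.jz * c.j * c.jz⁻¹ * c.j⁻¹ = c.w ^ (l : ℕ) * c.t ^ (k : ℕ) := by
    have h := congrArg c.σ hlk
    rwa [map_mul, map_mul, map_inv, hy, map_pow, map_pow, c.σ_ee] at h
  -- the exchange inverts this commutator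
  have hl : l = 0 := by
    have h1 : c.g * (c.w ^ (l : ℕ) * c.t ^ (k : ℕ)) * c.g = (c.w ^ (l : ℕ) * c.t ^ (k : ℕ))⁻¹ := by
      rw [← hu, jz]
      simp [mul_assoc, c.g_inv]
      rw [← mul_assoc c.g c.g, c.g_sq, one_mul]
    have h2 : c.g * (c.w ^ (l : ℕ) * c.t ^ (k : ℕ)) * c.g =
        c.z ^ ((c.a * l : Fin 3) : ℕ) * c.t ^ (k : ℕ) := by
      rw [pow_fin_mul c.z_cube, ← c.g_w,
        show c.g * c.w * c.g = c.g * c.w * c.g⁻¹ by rw [c.g_inv], conj_pow, c.g_inv,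
        show c.g * c.w ^ (l : ℕ) * c.g * c.t ^ (k : ℕ) = c.g * c.w ^ (l : ℕ) * (c.g * c.t ^ (k : ℕ)) by
          group, ((show Commute c.g c.t from c.t_g.symm).pow_right _).eq]
      group
    rw [h2, mul_inv_rev,
      ((show Commute c.t c.w from c.t_w).pow_pow (k : ℕ) (l : ℕ)).inv_inv.eq] at h1
    have htk : (c.t ^ (k : ℕ))⁻¹ = c.t ^ (k : ℕ) := by rw [← inv_pow, c.t_inv]
    rw [htk, mul_left_inj, ← pow_fin_neg c.w_cube] at h1
    have h3 := c.grid_inj (i := c.a * l) (k := 0) (i' := 0) (k' := -l) (by simpa using h1)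
    have key : ∀ p q : Fin 3, p ≠ 0 → p * q = 0 → q = 0 := by decide
    exact key _ _ c.a_ne h3.1
  subst hl
  have hu' : c.jz * c.j = c.t ^ (k : ℕ) * (c.j * c.jz) := by
    have h1 : c.jz * c.j * c.jz⁻¹ * c.j⁻¹ = c.t ^ (k : ℕ) := by rw [hu]; simp
    rw [← h1]; group
  fin_cases k
  swap
  · rw [hu']; simp
  exfalso
  have hcomm' : c.jz * c.j = c.j * c.jz := by rw [hu']; simp
  obtain ⟨A, hA⟩ := c.exists_act (n := c.g) fun e he => by rw [c.g_inv]; exact c.g_E he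
  have hjz : c.Act c.jz fun v => app A (rot (app A v)) :=
    (Act.comp c (Act.comp c hA c.act_j) hA : c.Act (c.g * c.j * c.g) _)
  have hE : ∀ e ∈ c.E, c.jz * e * c.jz⁻¹ ∈ c.E := fun e he => by
    obtain ⟨v, rfl⟩ := c.ev_surj he
    rw [hjz]; exact c.ev_mem _
  obtain ⟨B, hB⟩ := c.exists_act hE
  have hBA : ∀ v, app B v = app A (rot (app A v)) := Act.unique c hB hjz
  obtain ⟨s, u, hs, hu2, hq⟩ := c.exists_colour
  have hchange : ∀ v, qf s u (app B v) = -qf s u v := fun v => by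
    have h' := c.isQ_act c.jz_norm_J hE (d := 2) (c.jz_z.trans
      (inv_eq_of_mul_eq_one_right (show c.z * c.z ^ 2 = 1 by rw [← pow_succ', c.z_cube]))) c.jz_w (hq v)
    rw [hB] at h'
    rw [c.isQ_unique (hq _) h']
    have key : ∀ p : Fin 3, p * 2 = -p := by decide
    exact key _
  have hkeep : ∀ v, qf s u (app A v) = qf s u v := fun v => by
    have h' := c.isQ_g (hq v)
    have e := hA v
    rw [c.g_inv] at e
    rw [e] at h'
    exact c.isQ_unique (hq _) h'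
  have hAA : ∀ v, app A (app A v) = v := fun v => by
    have h1 : c.Act (c.g * c.g) fun v => app A (app A v) := Act.comp c hA hA
    have h2 : c.Act (c.g * c.g) id := by rw [c.g_sq]; exact c.act_J (one_mem _)
    exact Act.unique c h1 h2 v
  have hcomm : ∀ v, app B (rot v) = rot (app B v) := fun v => by
    have h1 : c.Act (c.jz * c.j) fun v => app B (rot v) := Act.comp c hB c.act_j
    have h2 : c.Act (c.jz * c.j) fun v => rot (app B v) := hcomm' ▸ Act.comp c c.act_j hB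
    exact Act.unique c h1 h2 v
  refine c.g_E_scalar hA (invol_keep s u hs hu2 A hkeep hAA ?_)
  rcases comm_rot_change s u hs hu2 B hchange hcomm with h | h
  · exact Or.inl fun v => (hBA v).symm.trans (h v)
  · exact Or.inr fun v => (hBA v).symm.trans (h v)

/-- The product of the two has order four. -/
theorem jz_j_sq : c.jz * c.j * (c.jz * c.j) = c.t := by
  calc c.jz * c.j * (c.jz * c.j) = c.t * (c.j * c.jz) * (c.jz * c.j) := by
        rw [← c.jz_j]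
    _ = c.t * (c.j * (c.jz * c.jz) * c.j) := by group
    _ = c.t * (c.j * c.j * (c.t)) := by rw [c.jz_sq, mul_assoc c.j c.t c.j, ← c.j_t]; group
    _ = c.t := by rw [c.j_sq, c.t_sq, mul_one]

theorem exists_invol_fix : ∃ m : c.M, c.ψ m * c.ψ m = 1 ∧ c.ψ m ≠ 1 ∧
    (∀ x ∈ c.P, c.ψ m * x * (c.ψ m)⁻¹ = x⁻¹) ∧
    (m : G) * c.z * (m : G)⁻¹ = c.z ∧ (m : G) * c.w * (m : G)⁻¹ = c.w := by
  obtain ⟨v, hvN, hv2, hv1⟩ := six_exists_invol c.card_P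
  obtain ⟨hinv, -⟩ := six_invol c.card_P hvN hv2 hv1
  obtain ⟨m₀, hm₀⟩ := c.ψ_surj v
  have key : ∀ p : Fin 3, p ≠ 0 → p = 1 ∨ p = 2 := by decide
  have hz₀ : (m₀ : G) * c.z * (m₀ : G)⁻¹ ∈ Subgroup.zpowers c.z := c.fix_iff.2 (hm₀ ▸ hvN)
  obtain ⟨y, hy⟩ : ∃ y, y = (m₀ : G) * c.w * (m₀ : G)⁻¹ := ⟨_, rfl⟩
  have hyp : c.IsPt y := hy ▸ IsPt.conj_M c m₀.2 c.isPt_w
  have hyz : y ∉ Subgroup.zpowers c.z := fun h => by
    obtain ⟨i, hi⟩ := c.fin_cases_zpow c.z_cube hz₀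
    obtain ⟨k, hk⟩ := c.fin_cases_zpow c.z_cube h
    have hi0 : i ≠ 0 := fun e => by
      rw [e] at hi
      exact c.z_ne (conj_eq_one_iff.1 (hi.trans (pow_zero _)))
    have hwz : c.w ∈ Subgroup.zpowers c.z := by
      refine ⟨((k * i : Fin 3) : ℕ), ?_⟩
      show c.z ^ (((k * i : Fin 3) : ℕ) : ℤ) = c.w
      rw [zpow_natCast]
      refine (MulAut.conj (m₀ : G)).injective ?_
      show (m₀ : G) * c.z ^ ((k * i : Fin 3) : ℕ) * (m₀ : G)⁻¹ = (m₀ : G) * c.w * (m₀ : G)⁻¹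
      rw [← hy, hk, ← conj_pow, hi, ← pow_fin_mul c.z_cube]
      have key2 : ∀ i k : Fin 3, i ≠ 0 → i * (k * i) = k := by decide
      rw [key2 i k hi0]
    exact c.w_not_line hwz
  obtain ⟨s, hs, hsy⟩ := c.orbit c.isPt_w c.w_not_line hyp hyz
  obtain ⟨m, hm⟩ : ∃ m : c.M, m = ⟨s⁻¹, inv_mem (c.S_le_M hs)⟩ * m₀ := ⟨_, rfl⟩
  have hsP : c.ψ ⟨s⁻¹, inv_mem (c.S_le_M hs)⟩ ∈ c.P := c.mem_P_iff.2 (inv_mem hs)
  have hψm : c.ψ m = c.ψ ⟨s⁻¹, inv_mem (c.S_le_M hs)⟩ * v := by rw [hm, map_mul, hm₀]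
  have h2 : c.ψ m * c.ψ m = 1 := by
    rw [hψm]
    calc _ = c.ψ ⟨s⁻¹, inv_mem (c.S_le_M hs)⟩ *
          (v * c.ψ ⟨s⁻¹, inv_mem (c.S_le_M hs)⟩ * v⁻¹) * (v * v) := by group
      _ = 1 := by rw [hinv _ hsP, hv2]; group
  have h1 : c.ψ m ≠ 1 := fun h => by
    rw [hψm] at h
    have hvP : v ∈ c.P := (Subgroup.mul_mem_cancel_left _ hsP).1 (h ▸ one_mem _)
    have h3 := hinv v hvP
    rw [mul_inv_cancel_right] at h3
    have h4 : v ^ 3 = 1 := by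
      obtain ⟨n, hnS, hn⟩ := hvP
      rw [← hn, ← map_pow]
      exact (c.ψ_ker _).2 (by rw [SubgroupClass.coe_pow]; exact c.S_cube hnS)
    rw [pow_succ, sq, hv2, one_mul] at h4
    exact hv1 h4
  have hmN : c.ψ m ∈ Subgroup.normalizer (c.P : Set (alternatingGroup (Fin 6))) :=
    hψm ▸ mul_mem (Subgroup.le_normalizer hsP) hvN
  have hmz : (m : G) * c.z * (m : G)⁻¹ = c.z := by
    obtain ⟨i, hi⟩ := c.fin_cases_zpow c.z_cube (c.fix_iff.2 hmN)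
    have hi0 : i ≠ 0 := fun e => c.z_ne (conj_eq_one_iff.1 ((e ▸ hi).trans (pow_zero _)))
    rcases key i hi0 with rfl | rfl
    · simpa using hi
    · exact absurd h2 (c.inv_z_order (hi.trans
        (inv_eq_of_mul_eq_one_right (show c.z * c.z ^ 2 = 1 by rw [← pow_succ', c.z_cube])).symm))
  have hmw : (m : G) * c.w * (m : G)⁻¹ = c.w := by
    have hsy' : (m : G) * c.w * (m : G)⁻¹ = c.w ∨ (m : G) * c.w * (m : G)⁻¹ = c.w⁻¹ := by
      rw [hm]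
      push_cast
      rw [conj_conj, ← hy]
      rcases hsy with h | h
      · exact Or.inl (by rw [h]; group)
      · exact Or.inr (by rw [h]; group)
    refine hsy'.resolve_right fun h => ?_
    obtain ⟨n, hn⟩ : ∃ n : c.M, n = ⟨c.g, c.g_mem⟩ * m * ⟨c.g, c.g_mem⟩ := ⟨_, rfl⟩
    refine c.inv_z_order (m := n) ?_ ?_
    · rw [hn]
      push_cast
      rw [conj_conj, conj_conj, c.g_inv, c.g_z, ← conj_pow, h, inv_pow,
        show c.g * (c.w ^ (c.a : ℕ))⁻¹ * c.g = (c.g * c.w ^ (c.a : ℕ) * c.g⁻¹)⁻¹ by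
          rw [conj_inv, c.g_inv], c.g_inv, c.g_w_pow]
    · have hg : c.ψ ⟨c.g, c.g_mem⟩ * c.ψ ⟨c.g, c.g_mem⟩ = 1 := by
        rw [← map_mul]
        exact (c.ψ_ker _).2 (by rw [Subgroup.coe_mul, c.g_sq]; exact one_mem _)
      rw [hn, map_mul, map_mul]
      calc _ = c.ψ ⟨c.g, c.g_mem⟩ * c.ψ m * (c.ψ ⟨c.g, c.g_mem⟩ * c.ψ ⟨c.g, c.g_mem⟩) * c.ψ m *
            c.ψ ⟨c.g, c.g_mem⟩ := by group
        _ = c.ψ ⟨c.g, c.g_mem⟩ * (c.ψ m * c.ψ m) * c.ψ ⟨c.g, c.g_mem⟩ := by rw [hg]; group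
        _ = 1 := by rw [h2, mul_one, hg]
  refine ⟨m, h2, h1, fun x hx => ?_, hmz, hmw⟩
  exact (six_invol c.card_P hmN h2 h1).1 x hx

/-- The involution `t` lies in `M`. -/
theorem t_mem_M : c.t ∈ c.M := by
  obtain ⟨m, h2, h1, hinv, hmz, hmw⟩ := c.exists_invol_fix
  have hN := c.M_le m.2
  have hE : ∀ e ∈ c.E, (m : G) * e * (m : G)⁻¹ = e⁻¹ := by
    intro e he
    obtain ⟨i, hi⟩ := c.isQ_exists he
    obtain ⟨s, hs, hsx⟩ := hi.exists_conj c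
    have key : ∀ n : G, n ∈ Subgroup.normalizer (c.J : Set G) → n * c.w * n⁻¹ = c.w →
        s * (n * s * n⁻¹) ∈ c.J → n * (c.z ^ (i : ℕ) * c.w * e) * n⁻¹ = s⁻¹ * c.w * s := by
      intro n hn hw hJ
      rw [← hsx, show n * (s * c.w * s⁻¹) * n⁻¹ =
        (n * s * n⁻¹) * (n * c.w * n⁻¹) * (n * s * n⁻¹)⁻¹ by group, hw]
      calc n * s * n⁻¹ * c.w * (n * s * n⁻¹)⁻¹ =
            s⁻¹ * ((s * (n * s * n⁻¹)) * c.w * (s * (n * s * n⁻¹))⁻¹) * s := by group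
        _ = _ := by rw [conj_of_comm (c.J_comm _ hJ _ c.w_mem_J)]
    have h1' := key m hN hmw (by
      have h := hinv _ (c.mem_P_iff.2 (show ((⟨s, c.S_le_M hs⟩ : c.M) : G) ∈ c.S from hs))
      rw [← map_inv, ← map_mul, ← map_mul, ← map_inv] at h
      have h3 : c.ψ (⟨s, c.S_le_M hs⟩ * (m * ⟨s, c.S_le_M hs⟩ * m⁻¹)) = 1 := by
        rw [map_mul, h, ← map_mul, mul_inv_cancel, map_one]
      have := (c.ψ_ker _).1 h3
      push_cast at this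
      exact this)
    have h2' := key c.t c.t_norm_J (conj_of_comm c.t_w) (by rw [c.t_inv]; exact c.t_invert_S hs)
    rw [c.t_inv] at h2'
    rw [show c.t * (c.z ^ (i : ℕ) * c.w * e) * c.t = c.z ^ (i : ℕ) * c.w * e⁻¹ by
      rw [c.t_conj_mul, show c.z ^ (i : ℕ) * c.w = c.z ^ (i : ℕ) * c.w ^ ((1 : Fin 3) : ℕ) by
        rw [← c.w_pow_one], c.grid_fix, c.E_inv_t he]] at h2'
    rw [← h2', show (m : G) * (c.z ^ (i : ℕ) * c.w * e) * (m : G)⁻¹ =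
      (m : G) * c.z ^ (i : ℕ) * (m : G)⁻¹ * ((m : G) * c.w * (m : G)⁻¹) *
        ((m : G) * e * (m : G)⁻¹) by group, ← conj_pow, hmz, hmw] at h1'
    exact mul_left_cancel h1'
  have hd : c.t * (m : G) ∈ c.J := by
    refine c.cent_J fun x hx => comm_of_conj ?_
    obtain ⟨i, k, e, he, rfl⟩ := c.decomp hx
    rw [conj_conj, show (m : G) * (c.z ^ (i : ℕ) * c.w ^ (k : ℕ) * e) * (m : G)⁻¹ =
      ((m : G) * c.z ^ (i : ℕ) * (m : G)⁻¹) * ((m : G) * c.w ^ (k : ℕ) * (m : G)⁻¹) *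
        ((m : G) * e * (m : G)⁻¹) by group, ← conj_pow, ← conj_pow, hmz, hmw, hE e he, c.t_inv,
      c.t_conj_mul, c.grid_fix, c.E_inv_t (inv_mem he), inv_inv]
  have := mul_mem (c.J_le_M hd) (inv_mem m.2)
  rwa [mul_inv_cancel_right] at this

theorem exists_conj_g : ∃ m ∈ c.M, m * c.g * m⁻¹ = c.t := by
  have hg : c.ψ ⟨c.g, c.g_mem⟩ * c.ψ ⟨c.g, c.g_mem⟩ = 1 := by
    rw [← map_mul]
    exact (c.ψ_ker _).2 (by rw [Subgroup.coe_mul, c.g_sq]; exact one_mem _)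
  have ht : c.ψ ⟨c.t, c.t_mem_M⟩ * c.ψ ⟨c.t, c.t_mem_M⟩ = 1 := by
    rw [← map_mul]
    exact (c.ψ_ker _).2 (by rw [Subgroup.coe_mul, c.t_sq]; exact one_mem _)
  have htJ : c.t ∉ c.J := fun h => by
    have h3 := c.J_exp _ h
    rw [pow_succ, sq, c.t_sq, one_mul] at h3
    exact c.t_ne h3
  obtain ⟨a, ha⟩ := exists_conj_sv hg fun h => c.g_not_J ((c.ψ_ker _).1 h)
  obtain ⟨b, hb⟩ := exists_conj_sv ht fun h => htJ ((c.ψ_ker _).1 h)
  obtain ⟨n, hn⟩ := c.ψ_surj (b⁻¹ * a)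
  have hd : (n : G) * c.g * (n : G)⁻¹ * c.t ∈ c.J := by
    have h : c.ψ (n * ⟨c.g, c.g_mem⟩ * n⁻¹ * ⟨c.t, c.t_mem_M⟩) = 1 := by
      have e : b⁻¹ * (a * c.ψ ⟨c.g, c.g_mem⟩ * a⁻¹) * b = c.ψ ⟨c.t, c.t_mem_M⟩ := by
        rw [show a * c.ψ ⟨c.g, c.g_mem⟩ * a⁻¹ = b * c.ψ ⟨c.t, c.t_mem_M⟩ * b⁻¹ from
          Subtype.ext (ha.trans hb.symm)]
        group
      rw [map_mul, map_mul, map_mul, map_inv, hn,
        show b⁻¹ * a * c.ψ ⟨c.g, c.g_mem⟩ * (b⁻¹ * a)⁻¹ =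
          b⁻¹ * (a * c.ψ ⟨c.g, c.g_mem⟩ * a⁻¹) * b by group, e, ht]
    exact (c.ψ_ker _).1 h
  obtain ⟨d, hdd⟩ : ∃ d, d = (n : G) * c.g * (n : G)⁻¹ * c.t := ⟨_, rfl⟩
  rw [← hdd] at hd
  have hsq : (n : G) * c.g * (n : G)⁻¹ * ((n : G) * c.g * (n : G)⁻¹) = 1 := by
    rw [show (n : G) * c.g * (n : G)⁻¹ * ((n : G) * c.g * (n : G)⁻¹) =
      (n : G) * (c.g * c.g) * (n : G)⁻¹ by group, c.g_sq]
    group
  have hdt : c.t * d * c.t = d⁻¹ := by
    rw [hdd, mul_inv_rev, c.t_inv, inv_eq_of_mul_eq_one_right hsq]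
    simp [mul_assoc, c.t_sq]
  refine ⟨d * (n : G), mul_mem (c.J_le_M hd) n.2, ?_⟩
  have hd3 := c.J_exp d hd
  simp only [pow_succ, pow_zero, one_mul] at hd3
  calc d * (n : G) * c.g * (d * (n : G))⁻¹ = d * ((n : G) * c.g * (n : G)⁻¹) * d⁻¹ := by group
    _ = d * d * (c.t * d⁻¹ * c.t) * c.t⁻¹ := by
      rw [show (n : G) * c.g * (n : G)⁻¹ = d * c.t by rw [hdd, mul_assoc _ c.t c.t, c.t_sq, mul_one]]
      group
    _ = d * d * d * c.t⁻¹ := by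
      rw [show c.t * d⁻¹ * c.t = (c.t * d * c.t)⁻¹ by simp [mul_assoc, c.t_inv], hdt, inv_inv]
    _ = c.t := by rw [hd3, one_mul, c.t_inv]

end Setup

end CfsgLib.McLThreeLocal
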