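import Cfsg.Agent.McLThreeLocal.Cent
import Cfsg.Agent.AltEightLocal.LocalModel

/-!
# The centraliser of `t` modulo `t`, and the symmetric group of degree five in it
-/

set_option autoImplicit false
set_option linter.style.haveILetI false
set_option linter.unusedSectionVars false

namespace CfsgLib.McLThreeLocal

open CfsgLib.Perm.RegularLinear (SLFive)

theorem pow_fin_two {G : Type*} [Monoid G] {t : G} {n : G} {k : Fin 2} (h : n = t ^ (k : ℕ)) :
    n = 1 ∨ n = t := by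
  fin_cases k
  · exact Or.inl (h.trans (pow_zero t))
  · exact Or.inr (h.trans (pow_one t))

theorem altFive_ee : altFive ee = 1 := by
  have h : (QuotientGroup.mk ee : SLFive ⧸ Subgroup.center SLFive) = 1 :=
    (QuotientGroup.eq_one_iff _).2 (Subgroup.mem_center_iff.2 fun g => (ee_central g).symm)
  rw [altFive, h, map_one]

theorem altFive_eq_one {y : SLFive} (h : altFive y = 1) : y = 1 ∨ y = ee := by
  have h1 : (QuotientGroup.mk y : SLFive ⧸ Subgroup.center SLFive) = 1 :=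
    eFive.injective (h.trans (map_one eFive).symm)
  have h2 := Subgroup.mem_center_iff.1 ((QuotientGroup.eq_one_iff y).1 h1)
  exact center_le y (h2 x0).symm (h2 j0).symm

namespace Setup

variable {G : Type*} [Group G] [Finite G] (c : Setup G)
include c

/-- The centraliser of `t`. -/
def X : Subgroup G := Subgroup.centralizer {c.t}

theorem mem_X {a : G} : a ∈ c.X ↔ a * c.t = c.t * a := Subgroup.mem_centralizer_singleton_iff

theorem t_mem_X : c.t ∈ c.X := c.mem_X.2 rfl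

/-- `t` as an element of its centraliser. -/
noncomputable def tX : c.X := ⟨c.t, c.t_mem_X⟩

/-- The subgroup generated by `t`. -/
noncomputable def T₂ : Subgroup c.X := Subgroup.zpowers c.tX

instance T₂_normal : c.T₂.Normal := ⟨fun n hn g => by
  obtain ⟨k, rfl⟩ := hn
  have hc : Commute g c.tX := Subtype.ext (c.mem_X.1 g.2)
  show g * c.tX ^ k * g⁻¹ ∈ Subgroup.zpowers c.tX
  rw [(hc.zpow_right k).eq, mul_inv_cancel_right]
  exact zpow_mem (Subgroup.mem_zpowers _) k⟩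

/-- `C(t)` modulo `t`. -/
abbrev Xb : Type _ := c.X ⧸ c.T₂

/-- The projection. -/
noncomputable def π : c.X →* c.Xb := QuotientGroup.mk' c.T₂

theorem π_surj : Function.Surjective c.π := QuotientGroup.mk'_surjective _

theorem tX_sq : c.tX ^ 2 = 1 := Subtype.ext (by rw [SubgroupClass.coe_pow, sq]; exact c.t_sq)

theorem mem_T₂ {n : c.X} : n ∈ c.T₂ ↔ (n : G) = 1 ∨ (n : G) = c.t := by
  constructor
  · rintro ⟨k, rfl⟩
    rcases Int.even_or_odd' k with ⟨m, rfl | rfl⟩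
    · left
      simp only
      rw [zpow_mul, show c.tX ^ (2 : ℤ) = 1 by exact_mod_cast c.tX_sq, one_zpow]
      rfl
    · right
      simp only
      rw [zpow_add, zpow_mul, show c.tX ^ (2 : ℤ) = 1 by exact_mod_cast c.tX_sq, one_zpow, one_mul,
        zpow_one]
      rfl
  · rintro (h | h)
    · rw [show n = 1 from Subtype.ext h]; exact one_mem _
    · rw [show n = c.tX from Subtype.ext h]; exact Subgroup.mem_zpowers _

theorem π_eq_iff {a b : c.X} : c.π a = c.π b ↔ (b : G) = a ∨ (b : G) = a * c.t := by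
  rw [show (c.π a = c.π b) = ((QuotientGroup.mk a : c.Xb) = QuotientGroup.mk b) from rfl,
    QuotientGroup.eq, c.mem_T₂, Subgroup.coe_mul, InvMemClass.coe_inv, inv_mul_eq_one,
    inv_mul_eq_iff_eq_mul, eq_comm (a := (a : G))]

/-- Congruent elements of order three are equal. -/
theorem π_cube_inj {a b : c.X} (ha : (a : G) ^ 3 = 1) (hb : (b : G) ^ 3 = 1) (h : c.π a = c.π b) :
    (b : G) = a := by
  rcases c.π_eq_iff.1 h with h | h
  · exact h
  · exfalso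
    rw [h, (show Commute (a : G) c.t from c.mem_X.1 a.2).mul_pow, ha, one_mul, pow_succ, sq,
      c.t_sq, one_mul] at hb
    exact c.t_ne hb

theorem z_mem_X : c.z ∈ c.X := c.mem_X.2 c.t_z.symm

theorem w_mem_X : c.w ∈ c.X := c.mem_X.2 c.t_w.symm

theorem σ_mem_X (y : SLFive) : c.σ y ∈ c.X := c.mem_X.2 (c.t_σ y).symm

theorem jz_mem_X : c.jz ∈ c.X := c.mem_X.2 c.jz_t

/-- The image of `z`. -/
noncomputable def zb : c.Xb := c.π ⟨c.z, c.z_mem_X⟩

/-- The image of `w`. -/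
noncomputable def wb : c.Xb := c.π ⟨c.w, c.w_mem_X⟩

theorem zb_cube : c.zb ^ 3 = 1 := by
  rw [zb, ← map_pow, show (⟨c.z, c.z_mem_X⟩ : c.X) ^ 3 = 1 from Subtype.ext c.z_cube, map_one]

theorem zb_ne : c.zb ≠ 1 := fun h => by
  rw [zb, ← map_one c.π, c.π_eq_iff] at h
  rcases h with h | h
  · exact c.z_ne h.symm
  · have h3 := c.z_cube
    have : c.z = c.t := by
      calc c.z = c.z * c.t * c.t := by rw [mul_assoc, c.t_sq, mul_one]
        _ = (1 : G) * c.t := by rw [← h]; rfl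
        _ = c.t := one_mul _
    rw [this, pow_succ, sq, c.t_sq, one_mul] at h3
    exact c.t_ne h3

/-- Lifting a conjugation of elements of order three. -/
theorem lift_conj {a x y : c.X} (hx : (x : G) ^ 3 = 1) (hy : (y : G) ^ 3 = 1)
    (h : c.π a * c.π x * (c.π a)⁻¹ = c.π y) : (a : G) * x * (a : G)⁻¹ = y := by
  rw [← map_inv, ← map_mul, ← map_mul] at h
  exact (c.π_cube_inj (by push_cast; rw [conj_pow, hx, mul_one, mul_inv_cancel]) hy h).symm

theorem lift_comm {a x : c.X} (hx : (x : G) ^ 3 = 1) (h : c.π a * c.π x = c.π x * c.π a) :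
    (a : G) * x = x * a :=
  comm_of_conj (c.lift_conj hx hx (conj_of_comm h))

/-- The group `SL(2,5)` extended by the conjugate of `j`. -/
noncomputable def Y : Subgroup c.X where
  carrier := {n | ∃ y, (n : G) = c.σ y ∨ (n : G) = c.jz * c.σ y}
  one_mem' := ⟨1, Or.inl (by simp)⟩
  mul_mem' := by
    have hj : ∀ y, ∃ y', c.σ y * c.jz = c.jz * c.σ y' := fun y => by
      have hN : c.jz⁻¹ ∈ Subgroup.normalizer (c.σ.range : Set G) := inv_mem c.jz_N5
      obtain ⟨y', hy'⟩ := (Subgroup.mem_normalizer_iff.1 hN (c.σ y)).1 ⟨y, rfl⟩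
      exact ⟨y', by rw [hy']; group⟩
    rintro a b ⟨y, hy⟩ ⟨y', hy'⟩
    obtain ⟨u, hu⟩ := hj y
    rcases hy with h | h <;> rcases hy' with h' | h'
    · exact ⟨y * y', Or.inl (by rw [Subgroup.coe_mul, h, h', map_mul])⟩
    · refine ⟨u * y', Or.inr ?_⟩
      rw [Subgroup.coe_mul, h, h', ← mul_assoc, hu, map_mul, mul_assoc]
    · exact ⟨y * y', Or.inr (by rw [Subgroup.coe_mul, h, h', map_mul, mul_assoc])⟩
    · refine ⟨ee * (u * y'), Or.inl ?_⟩
      rw [Subgroup.coe_mul, h, h', map_mul, map_mul, c.σ_ee,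
        show c.jz * c.σ y * (c.jz * c.σ y') = c.jz * (c.σ y * c.jz) * c.σ y' by group, hu,
        ← c.jz_sq]
      group
  inv_mem' := by
    intro a ha
    obtain ⟨y, h | h⟩ := ha
    · exact ⟨y⁻¹, Or.inl (by rw [InvMemClass.coe_inv, h, map_inv])⟩
    · have hN : c.jz ∈ Subgroup.normalizer (c.σ.range : Set G) := c.jz_N5
      obtain ⟨u, hu⟩ := (Subgroup.mem_normalizer_iff.1 hN (c.σ y⁻¹)).1 ⟨y⁻¹, rfl⟩
      refine ⟨ee * u, Or.inr ?_⟩
      rw [InvMemClass.coe_inv, h, map_mul, c.σ_ee, hu, mul_inv_rev, map_inv, ← c.jz_sq]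
      have h4 : c.jz * c.jz * (c.jz * c.jz) = 1 := by rw [c.jz_sq, c.t_sq]
      calc (c.σ y)⁻¹ * c.jz⁻¹ = c.jz * c.jz * (c.jz * c.jz) * ((c.σ y)⁻¹ * c.jz⁻¹) := by
            rw [h4, one_mul]
        _ = c.t * (c.t * (c.σ y)⁻¹) * c.jz⁻¹ := by rw [c.jz_sq]; group
        _ = c.jz * c.jz * (c.jz * c.jz) * (c.σ y)⁻¹ * c.jz⁻¹ := by rw [c.jz_sq]; group
        _ = c.jz * (c.jz * c.jz) * (c.jz * (c.σ y)⁻¹ * c.jz⁻¹) := by group
        _ = _ := by group

theorem Y_N5 (n : c.Y) : ((n : c.X) : G) ∈ c.N5 := by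
  obtain ⟨y, h | h⟩ := n.2
  · rw [h]; exact c.σ_mem_N5 y
  · rw [h]; exact mul_mem c.jz_N5 (c.σ_mem_N5 y)

/-- The permutation action of `Y`. -/
noncomputable def ρY : c.Y →* Equiv.Perm (Fin 5) :=
  c.ρ.comp ((c.X.subtype.comp c.Y.subtype).codRestrict c.N5 c.Y_N5)

theorem ρY_σ {n : c.Y} {y : SLFive} (h : ((n : c.X) : G) = c.σ y) :
    c.ρY n = (altFive y : Equiv.Perm (Fin 5)) := by
  rw [← c.ρ_σ y]
  exact congrArg c.ρ (Subtype.ext h)

theorem ρY_jz {n : c.Y} {y : SLFive} (h : ((n : c.X) : G) = c.jz * c.σ y) :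
    c.ρY n = c.ρ ⟨c.jz, c.jz_N5⟩ * (altFive y : Equiv.Perm (Fin 5)) := by
  rw [← c.ρ_σ y, ← map_mul]
  exact congrArg c.ρ (Subtype.ext h)

theorem sign_ρY {n : c.Y} :
    (∃ y, ((n : c.X) : G) = c.σ y ∧ Equiv.Perm.sign (c.ρY n) = 1) ∨
      ∃ y, ((n : c.X) : G) = c.jz * c.σ y ∧ Equiv.Perm.sign (c.ρY n) = -1 := by
  obtain ⟨y, h | h⟩ := n.2
  · exact Or.inl ⟨y, h, by rw [c.ρY_σ h]; exact Equiv.Perm.mem_alternatingGroup.1 (altFive y).2⟩
  · refine Or.inr ⟨y, h, ?_⟩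
    rw [c.ρY_jz h, map_mul, c.sign_jz, Equiv.Perm.mem_alternatingGroup.1 (altFive y).2, mul_one]

theorem ρY_surj : Function.Surjective c.ρY := by
  intro p
  rcases Int.units_eq_one_or (Equiv.Perm.sign p) with h | h
  · obtain ⟨y, hy⟩ := altFive_surj ⟨p, Equiv.Perm.mem_alternatingGroup.2 h⟩
    exact ⟨⟨⟨c.σ y, c.σ_mem_X y⟩, y, Or.inl rfl⟩, by rw [c.ρY_σ (y := y) rfl, hy]⟩
  · obtain ⟨y, hy⟩ := altFive_surj ⟨(c.ρ ⟨c.jz, c.jz_N5⟩)⁻¹ * p, Equiv.Perm.mem_alternatingGroup.2 (by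
      rw [map_mul, map_inv, c.sign_jz, h]; rfl)⟩
    exact ⟨⟨⟨c.jz * c.σ y, mul_mem c.jz_mem_X (c.σ_mem_X y)⟩, y, Or.inr rfl⟩, by
      rw [c.ρY_jz (y := y) rfl, hy]; simp⟩

theorem ρY_ker (n : c.Y) : c.ρY n = 1 ↔ (n : c.X) ∈ c.T₂ := by
  constructor
  · intro h
    rcases c.sign_ρY (n := n) with ⟨y, hy, -⟩ | ⟨y, -, hs⟩
    · rw [c.ρY_σ hy] at h
      rcases altFive_eq_one (Subtype.ext h) with rfl | rfl
      · exact c.mem_T₂.2 (Or.inl (by rw [hy, map_one]))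
      · exact c.mem_T₂.2 (Or.inr (by rw [hy, c.σ_ee]))
    · rw [h, map_one] at hs
      exact absurd hs (by decide)
  · intro h
    rcases c.mem_T₂.1 h with h | h
    · rw [show n = 1 from Subtype.ext (Subtype.ext h), map_one]
    · rw [c.ρY_σ (y := ee) (by rw [h, c.σ_ee]), altFive_ee]
      rfl

/-- A lift of a permutation. -/
theorem exists_al : ∃ al : Equiv.Perm (Fin 5) →* c.Xb, Function.Injective al ∧
    ∀ n : c.Y, al (c.ρY n) = c.π (n : c.X) := by
  let e := QuotientGroup.quotientKerEquivOfSurjective c.ρY c.ρY_surj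
  let f : c.Y ⧸ c.ρY.ker →* c.Xb := QuotientGroup.lift _ (c.π.comp c.Y.subtype) fun n hn => by
    show c.π (n : c.X) = 1
    exact (QuotientGroup.eq_one_iff _).2 ((c.ρY_ker n).1 hn)
  refine ⟨f.comp e.symm.toMonoidHom, ?_, fun n => ?_⟩
  · intro p q h
    obtain ⟨a, rfl⟩ := c.ρY_surj p
    obtain ⟨b, rfl⟩ := c.ρY_surj q
    have h' : ∀ n : c.Y, e.symm (c.ρY n) = QuotientGroup.mk n := fun n => by
      rw [MulEquiv.symm_apply_eq]; rfl
    change f (e.symm (c.ρY a)) = f (e.symm (c.ρY b)) at h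
    rw [h', h'] at h
    change c.π (a : c.X) = c.π (b : c.X) at h
    refine inv_mul_eq_one.1 ?_
    rw [← map_inv, ← map_mul, c.ρY_ker]
    exact QuotientGroup.eq.1 h
  · show f (e.symm (c.ρY n)) = _
    rw [show e.symm (c.ρY n) = QuotientGroup.mk n by rw [MulEquiv.symm_apply_eq]; rfl]
    rfl

/-- The symmetric group of degree five in `C(t)` modulo `t`. -/
noncomputable def al : Equiv.Perm (Fin 5) →* c.Xb := c.exists_al.choose

theorem al_inj : Function.Injective c.al := c.exists_al.choose_spec.1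

theorem al_ρY (n : c.Y) : c.al (c.ρY n) = c.π (n : c.X) := c.exists_al.choose_spec.2 n

theorem al_comm {p : Equiv.Perm (Fin 5)} (hp : Equiv.Perm.sign p = 1) :
    c.al p * c.zb = c.zb * c.al p := by
  obtain ⟨n, rfl⟩ := c.ρY_surj p
  rw [c.al_ρY, zb, ← map_mul, ← map_mul]
  rcases c.sign_ρY (n := n) with ⟨y, hy, -⟩ | ⟨y, -, hs⟩
  · congr 1
    exact Subtype.ext (by push_cast; rw [hy]; exact c.z_σ y)
  · rw [hp] at hs
    exact absurd hs (by decide)

theorem al_inv {p : Equiv.Perm (Fin 5)} (hp : Equiv.Perm.sign p = -1) :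
    c.al p * c.zb * (c.al p)⁻¹ = c.zb⁻¹ := by
  obtain ⟨n, rfl⟩ := c.ρY_surj p
  rw [c.al_ρY, zb, ← map_inv, ← map_mul, ← map_mul, ← map_inv]
  rcases c.sign_ρY (n := n) with ⟨y, -, hs⟩ | ⟨y, hy, -⟩
  · rw [hp] at hs
    exact absurd hs (by decide)
  · congr 1
    refine Subtype.ext ?_
    push_cast
    rw [hy, conj_conj, conj_of_comm (c.z_σ y), c.jz_z]

theorem al_w : ∃ p : Equiv.Perm (Fin 5), p * p * p = 1 ∧ p ≠ 1 ∧ c.al p = c.wb := by
  let n : c.Y := ⟨⟨c.w, c.w_mem_X⟩, x0, Or.inl rfl⟩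
  refine ⟨c.ρY n, ?_, fun h => ?_, c.al_ρY n⟩
  · rw [← map_mul, ← map_mul, ← map_one c.ρY]
    congr 1
    exact Subtype.ext (Subtype.ext (show c.w * c.w * c.w = 1 by
      rw [← c.w_cube, pow_succ, sq]))
  · rcases c.mem_T₂.1 ((c.ρY_ker n).1 h) with h' | h'
    · exact c.w_ne h'
    · have h3 := c.w_cube
      rw [show c.w = c.t from h', pow_succ, sq, c.t_sq, one_mul] at h3
      exact c.t_ne h3

theorem al_surj (hA : c.CaseA) {g : c.Xb}
    (h : g * c.zb * g⁻¹ = c.zb ∨ g * c.zb * g⁻¹ = c.zb⁻¹) :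
    ∃ (i : ℕ) (p : Equiv.Perm (Fin 5)), g = c.zb ^ i * c.al p := by
  obtain ⟨a, rfl⟩ := c.π_surj g
  have hat : (a : G) * c.t = c.t * a := c.mem_X.1 a.2
  rcases h with h | h
  · have hz : (a : G) * c.z = c.z * a :=
      comm_of_conj (c.lift_conj (x := ⟨c.z, c.z_mem_X⟩) (y := ⟨c.z, c.z_mem_X⟩) c.z_cube c.z_cube h)
    obtain ⟨i, y, hy⟩ := c.caseA_decomp hA hz hat
    refine ⟨(i : ℕ), c.ρY ⟨⟨c.σ y, c.σ_mem_X y⟩, y, Or.inl rfl⟩, ?_⟩
    rw [c.al_ρY, zb, ← map_pow, ← map_mul]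
    congr 1
    exact Subtype.ext (by push_cast; exact hy)
  · have hz : (a : G) * c.z * (a : G)⁻¹ = c.z⁻¹ :=
      c.lift_conj (x := ⟨c.z, c.z_mem_X⟩) (y := ⟨c.z, c.z_mem_X⟩⁻¹) c.z_cube
        (by push_cast; rw [inv_pow, c.z_cube, inv_one]) (by rw [map_inv]; exact h)
    have hz' : c.jz⁻¹ * (a : G) * c.z = c.z * (c.jz⁻¹ * (a : G)) := by
      refine comm_of_conj ?_
      rw [conj_conj, hz, inv_inv, ← c.jz_z]
      group
    obtain ⟨i, y, hy⟩ := c.caseA_decomp hA hz'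
      (((show Commute c.jz c.t from c.jz_t).inv_left).mul_left hat).eq
    refine ⟨((-i : Fin 3) : ℕ), c.ρY ⟨⟨c.jz * c.σ y, mul_mem c.jz_mem_X (c.σ_mem_X y)⟩, y,
      Or.inr rfl⟩, ?_⟩
    rw [c.al_ρY, zb, ← map_pow, ← map_mul]
    congr 1
    refine Subtype.ext ?_
    push_cast
    rw [pow_fin_neg c.z_cube, ← inv_pow, ← c.jz_z, conj_pow,
      show (a : G) = c.jz * (c.jz⁻¹ * (a : G)) by group, hy]
    group

end Setup

end CfsgLib.McLThreeLocal
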