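import Cfsg.Agent.McLThreeLocal.Jz
import Cfsg.Agent.McLThreeLocal.Quot

/-!
# The second case: an odd element centralising `z` and `w`

If `C(z) ∩ C(t)` induces an odd permutation, there are `q` centralising `z, w` inducing a
transposition, `b` inverting `z` centralising the complement, and an involution `m` inverting `J`.
-/

set_option autoImplicit false
set_option linter.style.haveILetI false
set_option linter.unusedSectionVars false

namespace CfsgLib.McLThreeLocal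

open Equiv
open CfsgLib.Perm.RegularLinear (SLFive)
open CfsgLib.AltEightLocal (cyc tail three_cycle sign_facts mul_facts)

theorem tail_comm : ∀ u : Perm (Fin 5), Perm.sign u = 1 → u * cyc * u⁻¹ = cyc⁻¹ →
    tail * u = u * tail := by decide +kernel

namespace Setup

variable {G : Type*} [Group G] [Finite G] (c : Setup G)
include c

/-- Elements centralising `z` and `w` normalise `J`. -/
theorem norm_J_of_cent {r : G} (hz : r * c.z = c.z * r) (hw : r * c.w = c.w * r) :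
    r ∈ Subgroup.normalizer (c.J : Set G) := by
  have hzz : r * c.z * r⁻¹ ∈ Subgroup.zpowers c.z := by
    rw [conj_of_comm hz]; exact Subgroup.mem_zpowers _
  refine c.norm_J_of_norm_S (mem_norm_of_conj fun s hs => ?_)
  obtain ⟨q, hq, k, rfl⟩ := c.S_decomp hs
  rw [show r * (q * c.w ^ (k : ℕ)) * r⁻¹ = r * q * r⁻¹ * (r * c.w ^ (k : ℕ) * r⁻¹) by group,
    conj_of_comm ((show Commute r c.w from hw).pow_right _).eq]
  exact mul_mem (c.Q_le_S (c.conj_mem_Q hzz hq)) (c.J_le_S (pow_mem c.w_mem_J _))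

/-- An odd element, an element inverting `z` commuting with the complement, and their relations. -/
structure Odd5 where
  q : G
  q_t : q * c.t = c.t * q
  q_z : q * c.z = c.z * q
  q_w : q * c.w = c.w * q
  q_odd : ∀ h, Equiv.Perm.sign (c.ρ ⟨q, h⟩) = -1
  q_sq : q * q = c.t
  q_j : q * c.j = c.t * (c.j * q)
  b_σ : ∀ x, c.jz * q * c.σ x = c.σ x * (c.jz * q)
  b_sq : c.jz * q * (c.jz * q) = c.t

theorem exists_odd5 (hA : ¬ c.CaseA) : Nonempty c.Odd5 := by
  obtain ⟨e, het, hez, he⟩ : ∃ (e : G) (het : e * c.t = c.t * e) (hez : e * c.z = c.z * e),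
      Perm.sign (c.ρ ⟨e, c.mem_N5 het (by rw [conj_of_comm hez]; exact Subgroup.mem_zpowers _)⟩) = -1 := by
    unfold CaseA at hA
    push Not at hA
    obtain ⟨e, het, hez, h⟩ := hA
    exact ⟨e, het, hez, (Int.units_eq_one_or _).resolve_left h⟩
  obtain ⟨E5, hE5⟩ : ∃ E5 : c.N5, E5 = ⟨e, c.mem_N5 het (by rw [conj_of_comm hez]; exact Subgroup.mem_zpowers _)⟩ :=
    ⟨_, rfl⟩
  rw [← hE5] at he
  obtain ⟨W5, hW5⟩ : ∃ W5 : c.N5, W5 = ⟨c.σ x0, c.σ_mem_N5 x0⟩ := ⟨_, rfl⟩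
  have hp3 : c.ρ W5 * c.ρ W5 * c.ρ W5 = 1 := by
    rw [← map_mul, ← map_mul, ← map_one c.ρ]
    congr 1
    refine Subtype.ext ?_
    rw [hW5]
    show c.σ x0 * c.σ x0 * c.σ x0 = 1
    rw [← map_mul, ← map_mul, x0_facts.1, map_one]
  have hp1 : c.ρ W5 ≠ 1 := fun h => by
    have h1 := c.ρ_eq_one h j0
    rw [hW5] at h1
    change c.σ x0 * c.σ j0 = c.σ j0 * c.σ x0 at h1
    rw [← map_mul, ← map_mul] at h1
    exact absurd (c.σ_inj h1) (by decide +kernel)
  obtain ⟨-, r, hr⟩ := three_cycle _ hp3 hp1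
  obtain ⟨π, hπ⟩ : ∃ π, π = r * tail * r⁻¹ := ⟨_, rfl⟩
  have hπs : Perm.sign π = -1 := by
    rw [hπ, CfsgLib.AltEightLocal.conj_mem_alt, sign_facts.2.2.1]
  have hπw : π * c.ρ W5 = c.ρ W5 * π := by
    rw [hπ, ← hr]
    simp only [mul_assoc, inv_mul_cancel_left]
    rw [← mul_assoc tail cyc, show tail * cyc = cyc * tail by decide +kernel, mul_assoc]
  obtain ⟨y, hy⟩ := altFive_surj ⟨(c.ρ E5)⁻¹ * π, Perm.mem_alternatingGroup.2 (by
    rw [map_mul, map_inv, he, hπs]; rfl)⟩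
  obtain ⟨q₀, hq₀⟩ : ∃ q₀ : c.N5, q₀ = E5 * ⟨c.σ y, c.σ_mem_N5 y⟩ := ⟨_, rfl⟩
  have hρq₀ : c.ρ q₀ = π := by rw [hq₀, map_mul, c.ρ_σ, hy, mul_inv_cancel_left]
  have hq₀t : (q₀ : G) * c.t = c.t * q₀ := by
    rw [hq₀, hE5]
    exact ((show Commute e c.t from het).mul_left (c.t_σ y).symm).eq
  have hq₀z : (q₀ : G) * c.z = c.z * q₀ := by
    rw [hq₀, hE5]
    exact ((show Commute e c.z from hez).mul_left (c.z_σ y)).eq
  -- it commutes with `w`
  have hq₀w : (q₀ : G) * c.w = c.w * q₀ := by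
    obtain ⟨y', hy'⟩ := (Subgroup.mem_normalizer_iff.1 q₀.2 (c.σ x0)).1 ⟨x0, rfl⟩
    have h1 : c.ρ ⟨c.σ y', c.σ_mem_N5 y'⟩ = c.ρ W5 := by
      have : (⟨c.σ y', c.σ_mem_N5 y'⟩ : c.N5) = q₀ * W5 * q₀⁻¹ := Subtype.ext (by rw [hW5]; exact hy')
      rw [this, map_mul, map_mul, map_inv, hρq₀, hπw, mul_inv_cancel_right]
    rw [hW5, c.ρ_σ, c.ρ_σ, SetLike.coe_eq_coe] at h1
    have h2 : altFive (x0⁻¹ * y') = 1 := by
      show eFive (QuotientGroup.mk (x0⁻¹ * y')) = 1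
      rw [QuotientGroup.mk_mul, QuotientGroup.mk_inv, map_mul, map_inv, inv_mul_eq_one]
      exact h1.symm
    have h3 : y' = x0 := by
      have hcube : y' * y' * y' = 1 := c.σ_inj (by
        rw [map_mul, map_mul, map_one, hy']
        show (q₀ : G) * c.w * (q₀ : G)⁻¹ * ((q₀ : G) * c.w * (q₀ : G)⁻¹) *
          ((q₀ : G) * c.w * (q₀ : G)⁻¹) = 1
        have h := c.w_cube
        simp only [pow_succ, pow_zero, one_mul] at h
        rw [show (q₀ : G) * c.w * (q₀ : G)⁻¹ * ((q₀ : G) * c.w * (q₀ : G)⁻¹) *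
          ((q₀ : G) * c.w * (q₀ : G)⁻¹) = (q₀ : G) * (c.w * c.w * c.w) * (q₀ : G)⁻¹ by group, h]
        group)
      rcases altFive_eq_one h2 with h | h
      · exact (inv_mul_eq_one.1 h).symm
      · exfalso
        rw [inv_mul_eq_iff_eq_mul] at h
        rw [h] at hcube
        revert hcube
        decide +kernel
    rw [h3] at hy'
    exact comm_of_conj hy'.symm
  -- cube it
  obtain ⟨Q5, hQ5⟩ : ∃ Q5 : c.N5, Q5 = q₀ * q₀ * q₀ := ⟨_, rfl⟩
  obtain ⟨q, hq⟩ : ∃ q : G, q = (Q5 : G) := ⟨_, rfl⟩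
  have hqt : q * c.t = c.t * q := by
    rw [hq, hQ5]
    have h : Commute (q₀ : G) c.t := hq₀t
    exact ((h.mul_left h).mul_left h).eq
  have hqz : q * c.z = c.z * q := by
    rw [hq, hQ5]
    have h : Commute (q₀ : G) c.z := hq₀z
    exact ((h.mul_left h).mul_left h).eq
  have hqw : q * c.w = c.w * q := by
    rw [hq, hQ5]
    have h : Commute (q₀ : G) c.w := hq₀w
    exact ((h.mul_left h).mul_left h).eq
  have hππ : π * π = 1 := by
    rw [hπ, show r * tail * r⁻¹ * (r * tail * r⁻¹) = r * (tail * tail) * r⁻¹ by group,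
      mul_facts.2.2.2.2.1]
    group
  have hρq : c.ρ Q5 = π := by rw [hQ5, map_mul, map_mul, hρq₀, hππ, one_mul]
  have hq2 : q * q = 1 ∨ q * q = c.t := by
    obtain ⟨i, k, hik⟩ := c.cent_σ (r := ((q₀ * q₀ : c.N5) : G))
      (by push_cast; exact ((show Commute (q₀ : G) c.z from hq₀z).mul_left hq₀z).eq)
      (by push_cast; exact ((show Commute (q₀ : G) c.t from hq₀t).mul_left hq₀t).eq)
      (c.ρ_eq_one (by rw [map_mul, hρq₀, hππ]))
    push_cast at hik
    have e : q * q = ((q₀ : G) * q₀) ^ 3 := by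
      rw [hq, hQ5]
      simp only [Subgroup.coe_mul, pow_succ, pow_zero, one_mul, mul_assoc]
    rw [e, hik, ((show Commute c.z c.t from c.t_z.symm).pow_pow _ _).mul_pow, ← pow_mul, ← pow_mul,
      pow_eq_pow_mod ((i : ℕ) * 3) c.z_cube, Nat.mul_mod_left, pow_zero, one_mul]
    fin_cases k
    · left; simp
    · right; simp [pow_succ, c.t_sq]
  -- the action on `j`
  have hqj : ∃ k : Fin 2, q * c.j * q⁻¹ = c.t ^ (k : ℕ) * c.j := by
    obtain ⟨y', hy'⟩ := (Subgroup.mem_normalizer_iff.1 Q5.2 (c.σ j0)).1 ⟨j0, rfl⟩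
    obtain ⟨J5, hJ5⟩ : ∃ J5 : c.N5, J5 = ⟨c.σ j0, c.σ_mem_N5 j0⟩ := ⟨_, rfl⟩
    have hJw : c.ρ J5 * c.ρ W5 * (c.ρ J5)⁻¹ = (c.ρ W5)⁻¹ := by
      rw [← map_inv, ← map_inv, ← map_mul, ← map_mul]
      congr 1
      refine Subtype.ext ?_
      rw [hJ5, hW5]
      exact c.j_w
    have hcomm : π * c.ρ J5 = c.ρ J5 * π := by
      have h := tail_comm (r⁻¹ * c.ρ J5 * r) (by
        have h0 := CfsgLib.AltEightLocal.conj_mem_alt r⁻¹ (c.ρ J5)
        rw [inv_inv] at h0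
        rw [h0, hJ5]; exact c.ρ_σ_sign _) (by
        rw [← hr] at hJw
        calc r⁻¹ * c.ρ J5 * r * cyc * (r⁻¹ * c.ρ J5 * r)⁻¹ =
              r⁻¹ * (c.ρ J5 * (r * cyc * r⁻¹) * (c.ρ J5)⁻¹) * r := by group
          _ = _ := by rw [hJw]; group)
      rw [hπ]
      calc r * tail * r⁻¹ * c.ρ J5 = r * (tail * (r⁻¹ * c.ρ J5 * r)) * r⁻¹ := by group
        _ = _ := by rw [h]; group
    have h1 : c.ρ ⟨c.σ y', c.σ_mem_N5 y'⟩ = c.ρ J5 := by
      have : (⟨c.σ y', c.σ_mem_N5 y'⟩ : c.N5) = Q5 * J5 * Q5⁻¹ := Subtype.ext (by rw [hJ5]; exact hy')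
      rw [this, map_mul, map_mul, map_inv, hρq, hcomm, mul_inv_cancel_right]
    rw [hJ5, c.ρ_σ, c.ρ_σ, SetLike.coe_eq_coe] at h1
    have h2 : altFive (y' * j0⁻¹) = 1 := by
      show eFive (QuotientGroup.mk (y' * j0⁻¹)) = 1
      rw [QuotientGroup.mk_mul, QuotientGroup.mk_inv, map_mul, map_inv, mul_inv_eq_one]
      exact h1
    rcases altFive_eq_one h2 with h | h
    · refine ⟨0, ?_⟩
      rw [mul_inv_eq_one] at h
      rw [hq, show c.j = c.σ j0 from rfl, ← hy', h]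
      simp
    · refine ⟨1, ?_⟩
      rw [mul_inv_eq_iff_eq_mul] at h
      rw [hq, show c.j = c.σ j0 from rfl, ← hy', h, map_mul, c.σ_ee]
      simp
  obtain ⟨k₀, hk₀⟩ := hqj
  -- `b`
  have hjzs := c.sign_jz
  obtain ⟨B5, hB5⟩ : ∃ B5 : c.N5, B5 = ⟨c.jz, c.jz_N5⟩ * Q5 := ⟨_, rfl⟩
  obtain ⟨y₁, hy₁⟩ := c.exists_σ_of_even (n := B5) (by rw [hB5, map_mul, map_mul, hjzs, hρq, hπs]; rfl)
  have hBG : (B5 : G) = c.jz * q := by rw [hB5, hq]; rfl
  rw [hBG] at hy₁
  have hy₁w : y₁ * x0 = x0 * y₁ := by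
    refine c.σ_inj ?_
    rw [map_mul, map_mul]
    show c.σ y₁ * c.w = c.w * c.σ y₁
    have h1 := hy₁ x0
    rw [show c.σ x0 = c.w from rfl] at h1
    have h2 : c.jz * q * c.w = c.w * (c.jz * q) :=
      ((show Commute c.jz c.w from comm_of_conj c.jz_w).mul_left hqw).eq
    have h4 : (c.σ y₁)⁻¹ * c.w = c.w * (c.σ y₁)⁻¹ := mul_right_cancel (b := c.jz * q) (by
      calc (c.σ y₁)⁻¹ * c.w * (c.jz * q) = (c.σ y₁)⁻¹ * (c.jz * q) * c.w := by
            rw [mul_assoc, ← h2]; group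
        _ = _ := by rw [h1, mul_assoc])
    exact (Commute.inv_left_iff.1 (show Commute (c.σ y₁)⁻¹ c.w from h4)).eq
  obtain ⟨l, k₁, rfl⟩ := centralizer_x0 y₁ hy₁w
  have hσ : c.σ (x0 ^ (l : ℕ) * ee ^ (k₁ : ℕ)) = c.w ^ (l : ℕ) * c.t ^ (k₁ : ℕ) := by
    rw [map_mul, map_pow, map_pow, c.σ_ee]; rfl
  rw [hσ] at hy₁
  obtain ⟨hl, hk⟩ : l = 0 ∧ k₀ = 1 := by
    have h := hy₁ j0
    rw [show c.σ j0 = c.j from rfl] at h
    have hqj' : q * c.j = c.t ^ (k₀ : ℕ) * c.j * q := by rw [← hk₀]; group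
    have e1 : c.jz * q * c.j = c.t ^ ((k₀ + 1 : Fin 2) : ℕ) * (c.j * (c.jz * q)) := by
      calc c.jz * q * c.j = c.jz * (q * c.j) := by group
        _ = c.jz * c.t ^ (k₀ : ℕ) * c.j * q := by rw [hqj']; group
        _ = c.t ^ (k₀ : ℕ) * (c.jz * c.j) * q := by
          rw [((show Commute c.jz c.t from c.jz_t).pow_right _).eq]; group
        _ = _ := by
          rw [c.jz_j]
          fin_cases k₀
          · simp [mul_assoc]
          · simp only [mul_assoc]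
            show c.t ^ 1 * (c.t * (c.j * (c.jz * q))) = c.t ^ 0 * _
            rw [pow_one, pow_zero, one_mul, ← mul_assoc c.t c.t, c.t_sq, one_mul]
    obtain ⟨u, hu⟩ : ∃ u, u = c.w ^ (l : ℕ) * c.t ^ (k₁ : ℕ) := ⟨_, rfl⟩
    rw [← hu] at h
    obtain ⟨T, hT⟩ : ∃ T, T = c.t ^ ((k₀ + 1 : Fin 2) : ℕ) := ⟨_, rfl⟩
    rw [← hT] at e1
    have h2 : u⁻¹ * T * c.j = c.j * u⁻¹ := mul_right_cancel (b := c.jz * q) (by
      calc u⁻¹ * T * c.j * (c.jz * q) = u⁻¹ * (c.jz * q * c.j) := by rw [e1]; group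
        _ = _ := by rw [← mul_assoc u⁻¹ (c.jz * q), h, mul_assoc])
    have h3 : T = u * (c.j * u⁻¹ * c.j⁻¹) := by rw [← h2]; group
    have h4 : c.j * u⁻¹ * c.j⁻¹ = c.w ^ (l : ℕ) * c.t ^ (k₁ : ℕ) := by
      have htk : (c.t ^ (k₁ : ℕ))⁻¹ = c.t ^ (k₁ : ℕ) := by rw [← inv_pow, c.t_inv]
      rw [hu, mul_inv_rev, htk, show c.j * (c.t ^ (k₁ : ℕ) * (c.w ^ (l : ℕ))⁻¹) * c.j⁻¹ =
        (c.j * c.t ^ (k₁ : ℕ) * c.j⁻¹) * (c.j * c.w ^ (l : ℕ) * c.j⁻¹)⁻¹ by group,
        conj_of_comm ((show Commute c.j c.t from c.j_t).pow_right _).eq, ← conj_pow, c.j_w, inv_pow,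
        inv_inv, ((show Commute c.t c.w from c.t_w).pow_pow _ _).eq]
    have htk : c.t ^ (k₁ : ℕ) * c.t ^ (k₁ : ℕ) = 1 := by
      rw [← (Commute.refl c.t).mul_pow, c.t_sq, one_pow]
    have h5 : c.w ^ ((l + l : Fin 3) : ℕ) = T := by
      rw [h3, h4, hu, pow_fin_add c.w_cube]
      calc _ = c.w ^ (l : ℕ) * c.w ^ (l : ℕ) * (c.t ^ (k₁ : ℕ) * c.t ^ (k₁ : ℕ)) := by
            rw [htk, mul_one]
        _ = _ := by
          rw [((show Commute c.w c.t from c.t_w.symm).pow_pow (l : ℕ) (k₁ : ℕ)).symm.mul_mul_mul_comm]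
    have hT2 : T * T = 1 := by rw [hT, ← (Commute.refl c.t).mul_pow, c.t_sq, one_pow]
    rw [← h5, ← pow_fin_add c.w_cube] at hT2
    have hl0 : l + l + (l + l) = 0 := (c.grid_inj (i := 0) (k := l + l + (l + l)) (i' := 0) (k' := 0)
      (by simpa using hT2)).2
    have key : ∀ l : Fin 3, l + l + (l + l) = 0 → l = 0 := by decide
    obtain rfl := key l hl0
    refine ⟨rfl, ?_⟩
    have hT1 : T = 1 := by rw [← h5]; simp
    fin_cases k₀
    · exfalso
      rw [hT1] at hT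
      exact c.t_ne (Eq.trans (pow_one c.t).symm hT.symm)
    · rfl
  subst hl hk
  have hbσ : ∀ x, c.jz * q * c.σ x = c.σ x * (c.jz * q) := by
    intro x
    have h := hy₁ x
    have htk : (c.w ^ ((0 : Fin 3) : ℕ) * c.t ^ (k₁ : ℕ))⁻¹ = c.t ^ (k₁ : ℕ) := by
      simp [← inv_pow, c.t_inv]
    rw [htk] at h
    refine mul_left_cancel (a := c.t ^ (k₁ : ℕ)) ?_
    calc _ = c.t ^ (k₁ : ℕ) * (c.jz * q) * c.σ x := by group
      _ = c.σ x * c.t ^ (k₁ : ℕ) * (c.jz * q) := by rw [h]; group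
      _ = _ := by rw [((show Commute c.t (c.σ x) from c.t_σ x).pow_left _).symm.eq]; group
  have hqJ := c.norm_J_of_cent hqz hqw
  have hqE : ∀ e ∈ c.E, q * e * q⁻¹ ∈ c.E := fun e he => c.E_norm_fix hqJ
    (by rw [conj_of_comm hqz]; exact Subgroup.mem_zpowers _)
    (by rw [conj_of_comm hqw]; exact Subgroup.mem_zpowers _) he
  obtain ⟨A, hA'⟩ := c.exists_act hqE
  obtain ⟨s, u, hs, hu, hcol⟩ := c.exists_colour
  have hkeep : ∀ v, qf s u (app A v) = qf s u v := fun v => by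
    have h' := c.isQ_act hqJ hqE (d := 1) ((conj_of_comm hqz).trans (pow_one _).symm)
      (conj_of_comm hqw) (hcol v)
    rw [mul_one, hA'] at h'
    exact c.isQ_unique (hcol _) h'
  have hqj1 : q * c.j = c.t * (c.j * q) := by
    have h : q * c.j * q⁻¹ = c.t * c.j := by rw [hk₀]; simp
    rw [mul_inv_eq_iff_eq_mul] at h
    rw [h, mul_assoc]
  have hAr : ∀ v, app A (rot v) = -rot (app A v) := fun v => by
    have h1 : c.Act (q * c.j) fun v => app A (rot v) := Act.comp c hA' c.act_j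
    have h2 : c.Act (q * c.j) fun v => -rot (app A v) :=
      hqj1 ▸ Act.comp c c.act_t (Act.comp c c.act_j hA')
    exact Act.unique c h1 h2 v
  have hqsq : q * q = c.t := by
    refine hq2.resolve_left fun h => ?_
    have hAA : ∀ v, app A (app A v) = v := fun v => by
      have h1 : c.Act (q * q) fun v => app A (app A v) := Act.comp c hA' hA'
      have h2 : c.Act (q * q) id := by rw [h]; exact c.act_J (one_mem _)
      exact Act.unique c h1 h2 v
    have key : ∀ v : V3, rot v = -rot v → v = 0 := by decide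
    have h0 : ((1, 0) : V3) = 0 := by
      rcases invol_keep s u hs hu A hkeep hAA (Or.inr fun v => by rw [hAr, hAA]) with h' | h'
      · have := hAr (1, 0)
        rw [h', h'] at this
        exact key _ this
      · have := hAr (1, 0)
        rw [h', h'] at this
        exact key _ (by simpa [rot] using this.symm)
    exact absurd h0 (by decide)
  refine ⟨⟨q, hqt, hqz, hqw, fun h => ?_, hqsq, hqj1, hbσ, ?_⟩⟩
  · rw [show (⟨q, h⟩ : c.N5) = Q5 from Subtype.ext hq, hρq, hπs]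
  · -- `b` squares to `t`
    obtain ⟨b, hb⟩ : ∃ b, b = c.jz * q := ⟨_, rfl⟩
    simp only [← hb] at hbσ ⊢
    have hbz : b * c.z * b⁻¹ = c.z⁻¹ := by rw [hb, conj_conj, conj_of_comm hqz, c.jz_z]
    have hbb : b * b * c.z = c.z * (b * b) :=
      comm_of_conj (by rw [conj_conj, hbz, ← conj_inv, hbz, inv_inv])
    have hbt : b * c.t = c.t * b := by
      rw [hb]; exact ((show Commute c.jz c.t from c.jz_t).mul_left hqt).eq
    obtain ⟨i, k, hik⟩ := c.cent_σ (r := b * b) hbb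
      ((show Commute b c.t from hbt).mul_left hbt).eq
      fun x => ((show Commute b (c.σ x) from hbσ x).mul_left (hbσ x)).eq
    have hi : i = 0 := by
      have e1 : b * (b * b) * b⁻¹ = b * b := by group
      rw [hik, show b * (c.z ^ (i : ℕ) * c.t ^ (k : ℕ)) * b⁻¹ =
        b * c.z ^ (i : ℕ) * b⁻¹ * (b * c.t ^ (k : ℕ) * b⁻¹) by group, ← conj_pow, hbz,
        conj_of_comm ((show Commute b c.t from hbt).pow_right _).eq, inv_pow,
        ← pow_fin_neg c.z_cube, mul_left_inj] at e1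
      have key : ∀ p : Fin 3, -p = p → p = 0 := by decide
      exact key i (c.grid_inj (i := -i) (k := 0) (i' := i) (k' := 0) (by simpa using e1)).1
    subst hi
    fin_cases k
    swap
    · rw [hik]; simp
    exfalso
    have hb1 : b * b = 1 := by rw [hik]; simp
    have hbJ : b ∈ Subgroup.normalizer (c.J : Set G) := hb ▸ mul_mem c.jz_norm_J hqJ
    have hbw : b * c.w * b⁻¹ = c.w := conj_of_comm (hbσ x0)
    have hbE : ∀ e ∈ c.E, b * e * b⁻¹ ∈ c.E := fun e he => c.E_norm_fix hbJ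
      (by rw [hbz]; exact inv_mem (Subgroup.mem_zpowers _))
      (by rw [hbw]; exact Subgroup.mem_zpowers _) he
    obtain ⟨B, hB⟩ := c.exists_act hbE
    have hchange : ∀ v, qf s u (app B v) = -qf s u v := fun v => by
      have h' := c.isQ_act hbJ hbE (d := 2) (hbz.trans
        (inv_eq_of_mul_eq_one_right (show c.z * c.z ^ 2 = 1 by rw [← pow_succ', c.z_cube]))) hbw (hcol v)
      rw [hB] at h'
      rw [c.isQ_unique (hcol _) h']
      have key : ∀ p : Fin 3, p * 2 = -p := by decide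
      exact key _
    have hcomm : ∀ v, app B (rot v) = rot (app B v) := fun v => by
      have h1 : c.Act (b * c.j) fun v => app B (rot v) := Act.comp c hB c.act_j
      have h2 : c.Act (b * c.j) fun v => rot (app B v) :=
        (show b * c.j = c.j * b from hbσ j0) ▸ Act.comp c c.act_j hB
      exact Act.unique c h1 h2 v
    have hBB : ∀ v, app B (app B v) = v := fun v => by
      have h1 : c.Act (b * b) fun v => app B (app B v) := Act.comp c hB hB
      have h2 : c.Act (b * b) id := by rw [hb1]; exact c.act_J (one_mem _)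
      exact Act.unique c h1 h2 v
    have key : ¬ rot (rot ((1, 0) : V3)) = (1, 0) := by decide
    have key2 : ¬ -rot (-rot ((1, 0) : V3)) = (1, 0) := by decide
    rcases comm_rot_change s u hs hu B hchange hcomm with h | h
    · have h' := hBB (1, 0); rw [h, h] at h'; exact key h'
    · have h' := hBB (1, 0); rw [h, h] at h'; exact key2 h'

variable {c}

/-- Decomposition of the centraliser of `z, w, t`. -/
theorem Odd5.cent_R (o : c.Odd5) {n : G} (hz : n * c.z = c.z * n) (hw : n * c.w = c.w * n)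
    (ht : n * c.t = c.t * n) :
    ∃ (i m : Fin 3) (k l : Fin 2),
      n = c.z ^ (i : ℕ) * c.w ^ (m : ℕ) * c.t ^ (k : ℕ) * o.q ^ (l : ℕ) := by
  have hN : ∀ r : G, r * c.z = c.z * r → r * c.t = c.t * r → r ∈ c.N5 := fun r hz ht =>
    c.mem_N5 ht (by rw [conj_of_comm hz]; exact Subgroup.mem_zpowers _)
  have main : ∀ r : G, ∀ (hz : r * c.z = c.z * r), r * c.w = c.w * r → ∀ (ht : r * c.t = c.t * r),
      Equiv.Perm.sign (c.ρ ⟨r, hN r hz ht⟩) = 1 →
      ∃ (i m : Fin 3) (k : Fin 2), r = c.z ^ (i : ℕ) * c.w ^ (m : ℕ) * c.t ^ (k : ℕ) := by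
    intro r hz hw ht hs
    obtain ⟨i, x, hrx⟩ := c.inner_decomp (n := ⟨r, hN r hz ht⟩) hz ht hs
    change r = c.z ^ (i : ℕ) * c.σ x at hrx
    subst hrx
    have hx : x * x0 = x0 * x := by
      refine c.σ_inj ?_
      rw [map_mul, map_mul]
      show c.σ x * c.w = c.w * c.σ x
      have h1 : c.z ^ (i : ℕ) * (c.σ x * c.w) = c.z ^ (i : ℕ) * (c.w * c.σ x) := by
        rw [← mul_assoc, ← mul_assoc, hw,
          ((show Commute c.w c.z from c.w_z).pow_right (i : ℕ)).symm.eq, mul_assoc]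
      exact mul_left_cancel h1
    obtain ⟨m, k, rfl⟩ := centralizer_x0 x hx
    refine ⟨i, m, k, ?_⟩
    rw [map_mul, map_pow, map_pow, c.σ_ee, ← mul_assoc]
    rfl
  rcases Int.units_eq_one_or (Equiv.Perm.sign (c.ρ ⟨n, hN n hz ht⟩)) with h | h
  · obtain ⟨i, m, k, e⟩ := main n hz hw ht h
    exact ⟨i, m, k, 0, by rw [e]; simp⟩
  · have hz' : n * o.q⁻¹ * c.z = c.z * (n * o.q⁻¹) :=
      ((show Commute n c.z from hz).mul_left (show Commute o.q c.z from o.q_z).inv_left).eq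
    have hw' : n * o.q⁻¹ * c.w = c.w * (n * o.q⁻¹) :=
      ((show Commute n c.w from hw).mul_left (show Commute o.q c.w from o.q_w).inv_left).eq
    have ht' : n * o.q⁻¹ * c.t = c.t * (n * o.q⁻¹) :=
      ((show Commute n c.t from ht).mul_left (show Commute o.q c.t from o.q_t).inv_left).eq
    obtain ⟨i, m, k, e⟩ := main _ hz' hw' ht' (by
      rw [show (⟨n * o.q⁻¹, hN _ hz' ht'⟩ : c.N5) = ⟨n, hN n hz ht⟩ * ⟨o.q, hN o.q o.q_z o.q_t⟩⁻¹ from
        Subtype.ext rfl, map_mul, map_inv, map_mul, map_inv, h, o.q_odd]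
      rfl)
    exact ⟨i, m, k, 1, by rw [← e]; simp⟩

/-- An involution inverting `J`. -/
theorem Odd5.exists_inverter (o : c.Odd5) : ∃ k : Fin 2,
    c.jz * o.q * c.j * c.t ^ (k : ℕ) * (c.jz * o.q * c.j * c.t ^ (k : ℕ)) = 1 ∧
    ∀ x ∈ c.J, c.jz * o.q * c.j * c.t ^ (k : ℕ) * x *
      (c.jz * o.q * c.j * c.t ^ (k : ℕ))⁻¹ = x⁻¹ := by
  obtain ⟨b, hb⟩ : ∃ b, b = c.jz * o.q := ⟨_, rfl⟩
  have hbσ := o.b_σ
  have hb2 := o.b_sq
  simp only [← hb] at hbσ hb2 ⊢
  have hqJ := c.norm_J_of_cent o.q_z o.q_w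
  have hbJ : b ∈ Subgroup.normalizer (c.J : Set G) := hb ▸ mul_mem c.jz_norm_J hqJ
  have hbz : b * c.z * b⁻¹ = c.z⁻¹ := by rw [hb, conj_conj, conj_of_comm o.q_z, c.jz_z]
  have hbw : b * c.w * b⁻¹ = c.w := conj_of_comm (hbσ x0)
  have hbt : Commute b c.t := by
    rw [hb]; exact (show Commute c.jz c.t from c.jz_t).mul_left o.q_t
  have hbj : Commute b c.j := hbσ j0
  have hsq : ∀ k : ℕ, b * c.j * c.t ^ k * (b * c.j * c.t ^ k) = 1 := by
    intro k
    have h1 : Commute (b * c.j) (c.t ^ k) := (hbt.mul_left c.j_t).pow_right k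
    rw [h1.symm.mul_mul_mul_comm, hbj.symm.mul_mul_mul_comm, hb2, c.j_sq,
      ← (Commute.refl c.t).mul_pow, c.t_sq, one_pow, one_mul]
  have hbE : ∀ e ∈ c.E, b * e * b⁻¹ ∈ c.E := fun e he => c.E_norm_fix hbJ
    (by rw [hbz]; exact inv_mem (Subgroup.mem_zpowers _))
    (by rw [hbw]; exact Subgroup.mem_zpowers _) he
  obtain ⟨B, hB⟩ := c.exists_act hbE
  obtain ⟨s, u, hs, hu, hcol⟩ := c.exists_colour
  have hchange : ∀ v, qf s u (app B v) = -qf s u v := fun v => by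
    have h' := c.isQ_act hbJ hbE (d := 2) (hbz.trans
      (inv_eq_of_mul_eq_one_right (show c.z * c.z ^ 2 = 1 by rw [← pow_succ', c.z_cube]))) hbw (hcol v)
    rw [hB] at h'
    rw [c.isQ_unique (hcol _) h']
    have key : ∀ p : Fin 3, p * 2 = -p := by decide
    exact key _
  have hcomm : ∀ v, app B (rot v) = rot (app B v) := fun v => by
    have h1 : c.Act (b * c.j) fun v => app B (rot v) := Act.comp c hB c.act_j
    have h2 : c.Act (b * c.j) fun v => rot (app B v) :=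
      (show b * c.j = c.j * b from hbj.eq) ▸ Act.comp c c.act_j hB
    exact Act.unique c h1 h2 v
  have hrr : ∀ v : V3, rot (rot v) = -v := by decide
  obtain ⟨k, hk⟩ : ∃ k : Fin 2, c.Act (b * c.j * c.t ^ (k : ℕ)) fun v => -v := by
    rcases comm_rot_change s u hs hu B hchange hcomm with h | h
    · refine ⟨0, fun v => ?_⟩
      have h1 := (Act.comp c hB c.act_j) v
      simp only [Function.comp_apply, h, hrr] at h1
      simpa using h1
    · refine ⟨1, fun v => ?_⟩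
      have h1 := (Act.comp c (Act.comp c hB c.act_j) c.act_t) v
      simp only [Function.comp_apply, h, hrr, neg_neg] at h1
      simpa using h1
  refine ⟨k, hsq k, fun x hx => ?_⟩
  obtain ⟨i, m, e, he, rfl⟩ := c.decomp hx
  obtain ⟨v, rfl⟩ := c.ev_surj he
  obtain ⟨n, hn⟩ : ∃ n, n = b * c.j * c.t ^ (k : ℕ) := ⟨_, rfl⟩
  rw [← hn] at hk ⊢
  have htz : c.t ^ (k : ℕ) * c.z * (c.t ^ (k : ℕ))⁻¹ = c.z :=
    conj_of_comm ((show Commute c.t c.z from c.t_z).pow_left _).eq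
  have htw : c.t ^ (k : ℕ) * c.w * (c.t ^ (k : ℕ))⁻¹ = c.w :=
    conj_of_comm ((show Commute c.t c.w from c.t_w).pow_left _).eq
  have hnz : n * c.z * n⁻¹ = c.z⁻¹ := by
    rw [hn, conj_conj, htz, conj_conj, conj_of_comm c.j_z, hbz]
  have hnw : n * c.w * n⁻¹ = c.w⁻¹ := by
    rw [hn, conj_conj, htw, conj_conj, c.j_w, ← conj_inv, hbw]
  rw [show n * (c.z ^ (i : ℕ) * c.w ^ (m : ℕ) * c.ev v) * n⁻¹ =
    n * c.z ^ (i : ℕ) * n⁻¹ * (n * c.w ^ (m : ℕ) * n⁻¹) * (n * c.ev v * n⁻¹) by group,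
    ← conj_pow, ← conj_pow, hnz, hnw, hk, c.ev_neg, inv_pow, inv_pow,
    mul_inv_rev (c.z ^ (i : ℕ) * c.w ^ (m : ℕ)), mul_inv_rev,
    c.J_comm _ (inv_mem (c.ev_mem v).1) _ (mul_mem (inv_mem (pow_mem c.w_mem_J _)) (inv_mem (pow_mem c.z_mem_J _))),
    c.J_comm _ (inv_mem (pow_mem c.w_mem_J _)) _ (inv_mem (pow_mem c.z_mem_J _))]

end Setup

end CfsgLib.McLThreeLocal
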