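import Mathlib

/-!
# Facts on permutations of eight points
-/

set_option autoImplicit false

namespace CfsgLib.McLThreeLocal

open Equiv

/-- Four disjoint transpositions. -/
def sw (i : Fin 4) : Perm (Fin 8) := swap ⟨2 * (i : ℕ), by omega⟩ ⟨2 * (i : ℕ) + 1, by omega⟩

/-- The products of the first `k + 1` of them. -/
def pr : Fin 4 → Perm (Fin 8) := ![sw 0, sw 0 * sw 1, sw 0 * sw 1 * sw 2, sw 0 * sw 1 * sw 2 * sw 3]

theorem pr_facts : ∀ k : Fin 4, pr k * pr k = 1 ∧ pr k ≠ 1 ∧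
    (pr k).support.card = 2 * ((k : ℕ) + 1) := by decide

theorem invol_support {σ : Perm (Fin 8)} (h2 : σ * σ = 1) (h1 : σ ≠ 1) :
    ∃ n : ℕ, σ.cycleType = Multiset.replicate (n + 1) 2 ∧ σ.support.card = 2 * (n + 1) := by
  have ho : orderOf σ = 2 := orderOf_eq_prime (by rw [sq, h2]) h1
  obtain ⟨n, hn⟩ := Perm.cycleType_prime_order (σ := σ) (ho ▸ Nat.prime_two)
  rw [ho] at hn
  refine ⟨n, hn, ?_⟩
  rw [← Perm.sum_cycleType, hn, Multiset.sum_replicate, smul_eq_mul, mul_comm]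

theorem invol_conj_eight {σ : Perm (Fin 8)} (h2 : σ * σ = 1) (h1 : σ ≠ 1) :
    ∃ (k : Fin 4) (ρ : Perm (Fin 8)), ρ * pr k * ρ⁻¹ = σ := by
  obtain ⟨n, hn, hs⟩ := invol_support h2 h1
  have hle : σ.support.card ≤ 8 := (Finset.card_le_univ _).trans (by simp)
  refine ⟨⟨n, by omega⟩, isConj_iff.1 (Perm.isConj_iff_cycleType_eq.2 ?_)⟩
  obtain ⟨h2', h1', hs'⟩ := pr_facts ⟨n, by omega⟩
  obtain ⟨m, hm, hsm⟩ := invol_support h2' h1'
  rw [hsm] at hs'
  change 2 * (m + 1) = 2 * (n + 1) at hs'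
  rw [hm, hn, show m = n by omega]

theorem three_support {σ : Perm (Fin 8)} (h3 : σ ^ 3 = 1) (h1 : σ ≠ 1) :
    σ.support.card = 3 ∨ σ.support.card = 6 := by
  have ho : orderOf σ = 3 := orderOf_eq_prime h3 h1
  obtain ⟨n, hn⟩ := Perm.cycleType_prime_order (σ := σ) (ho ▸ Nat.prime_three)
  rw [ho] at hn
  have hs : σ.support.card = 3 * (n + 1) := by
    rw [← Perm.sum_cycleType, hn, Multiset.sum_replicate, smul_eq_mul, mul_comm]
  have hle : σ.support.card ≤ 8 := (Finset.card_le_univ _).trans (by simp)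
  omega

theorem swap_conj (f : Perm (Fin 8)) (x y : Fin 8) : f * swap x y * f⁻¹ = swap (f x) (f y) := by
  rw [swap_apply_apply]

/-- Two disjoint transpositions are conjugate to any two of the standard ones. -/
theorem exists_conj_pair {a b u v : Fin 8} (hab : a ≠ b) (huv : u ≠ v) (hau : a ≠ u) (hav : a ≠ v)
    (hbu : b ≠ u) (hbv : b ≠ v) {i l : Fin 4} (hil : i ≠ l) :
    ∃ ρ : Perm (Fin 8), ρ * swap a b * ρ⁻¹ = sw i ∧ ρ * swap u v * ρ⁻¹ = sw l := by
  classical
  have hinj : ∀ {a b u v : Fin 8}, a ≠ b → u ≠ v → a ≠ u → a ≠ v → b ≠ u → b ≠ v →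
      Function.Injective ![a, b, u, v] := by
    intro a b u v h1 h2 h3 h4 h5 h6 x y
    fin_cases x <;> fin_cases y <;>
      simp [h1, h2, h3, h4, h5, h6, h1.symm, h2.symm, h3.symm, h4.symm, h5.symm, h6.symm]
  have hil' : (i : ℕ) ≠ l := fun h => hil (Fin.ext h)
  let a' : Fin 8 := ⟨2 * (i : ℕ), by omega⟩
  let b' : Fin 8 := ⟨2 * (i : ℕ) + 1, by omega⟩
  let u' : Fin 8 := ⟨2 * (l : ℕ), by omega⟩
  let v' : Fin 8 := ⟨2 * (l : ℕ) + 1, by omega⟩
  let f := ![a, b, u, v]
  let f' := ![a', b', u', v']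
  have hf : Function.Injective f := hinj hab huv hau hav hbu hbv
  have hf' : Function.Injective f' := hinj
    (by simp [a', b', Fin.ext_iff]) (by simp [u', v', Fin.ext_iff])
    (by simp [a', u', Fin.ext_iff]; omega) (by simp [a', v', Fin.ext_iff]; omega)
    (by simp [b', u', Fin.ext_iff]; omega) (by simp [b', v', Fin.ext_iff]; omega)
  let E := (Equiv.ofInjective f hf).symm.trans (Equiv.ofInjective f' hf')
  let ρ : Perm (Fin 8) := E.extendSubtype
  have key : ∀ x, ρ (f x) = f' x := fun x => by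
    show E.extendSubtype (f x) = f' x
    rw [Equiv.extendSubtype_apply_of_mem _ (f x) ⟨x, rfl⟩]
    show ((Equiv.ofInjective f' hf') ((Equiv.ofInjective f hf).symm ⟨f x, _⟩) : Fin 8) = f' x
    rw [show (Equiv.ofInjective f hf).symm ⟨f x, ⟨x, rfl⟩⟩ = x from
      (Equiv.ofInjective f hf).symm_apply_apply x]
    rfl
  refine ⟨ρ, ?_, ?_⟩
  · rw [swap_conj, show ρ a = a' from key 0, show ρ b = b' from key 1]; rfl
  · rw [swap_conj, show ρ u = u' from key 2, show ρ v = v' from key 3]; rfl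

/-- An involution centralising an element of order three with three moved points fixes these. -/
theorem invol_fix_three {c x : Perm (Fin 8)} (h3 : c ^ 3 = 1) (hs : c.support.card = 3)
    (h2 : x * x = 1) (hc : x * c = c * x) : ∀ a ∈ c.support, x a = a := by
  intro a ha
  have hxa : x a ∈ c.support := by
    rw [Perm.mem_support] at ha ⊢
    intro h
    refine ha (x.injective ?_)
    rw [← Perm.mul_apply, hc, Perm.mul_apply, h]
  have hca : c a ∈ c.support := Perm.apply_mem_support.2 ha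
  have hcca : c (c a) ∈ c.support := Perm.apply_mem_support.2 hca
  have e3 : c (c (c a)) = a := by
    have := congrArg (fun p : Perm (Fin 8) => p a) h3
    simpa [pow_succ, Perm.mul_apply] using this
  have n1 : c a ≠ a := Perm.mem_support.1 ha
  have n2 : c (c a) ≠ c a := Perm.mem_support.1 hca
  have n3 : c (c a) ≠ a := fun h => n1 (by rw [h] at e3; exact e3)
  have hall : c.support = {a, c a, c (c a)} := by
    refine (Finset.eq_of_subset_of_card_le ?_ ?_).symm
    · simp [Finset.insert_subset_iff, Finset.singleton_subset_iff, ha, hca, hcca]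
    · rw [hs, Finset.card_insert_of_notMem (by simp [n1.symm, n3.symm]),
        Finset.card_pair n2.symm]
  rw [hall] at hxa
  simp only [Finset.mem_insert, Finset.mem_singleton] at hxa
  have hxx : x (x a) = a := by rw [← Perm.mul_apply, h2]; rfl
  have hxc : ∀ b, x (c b) = c (x b) := fun b => by rw [← Perm.mul_apply, hc]; rfl
  rcases hxa with h | h | h
  · exact h
  · exfalso
    rw [h, hxc, h] at hxx
    exact n3 hxx
  · exfalso
    rw [h, hxc, hxc, h, e3] at hxx
    exact n1 hxx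

/-- An involution without fixed points inverts no such element. -/
theorem invert_three {c v : Perm (Fin 8)} (hs : c.support.card = 3) (h2 : v * v = 1)
    (hv : ∀ a, v a ≠ a) (hc : v * c * v⁻¹ = c⁻¹) : False := by
  have hmem : ∀ a ∈ c.support, v a ∈ c.support := fun a ha => by
    rw [← Perm.support_inv, ← hc, Perm.mem_support, Perm.mul_apply, Perm.mul_apply,
      Perm.inv_def, Equiv.symm_apply_apply]
    exact fun h => Perm.mem_support.1 ha (v.injective h)
  have hvv : ∀ a, v (v a) = a := fun a => by rw [← Perm.mul_apply, h2]; rfl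
  obtain ⟨a, b, d, hab, had, hbd, hS⟩ := Finset.card_eq_three.1 hs
  have hm : ∀ x, (x = a ∨ x = b ∨ x = d) → (v x = a ∨ v x = b ∨ v x = d) := fun x hx => by
    have := hmem x (by rw [hS]; simpa using hx)
    rw [hS] at this
    simpa using this
  rcases hm a (Or.inl rfl) with h | h | h
  · exact hv a h
  · rcases hm d (Or.inr (Or.inr rfl)) with h' | h' | h'
    · exact hbd (by rw [← h, ← h', hvv])
    · exact had (v.injective (h.trans h'.symm))
    · exact hv d h'
  · rcases hm b (Or.inr (Or.inl rfl)) with h' | h' | h'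
    · exact hbd (by rw [← h, ← h', hvv])
    · exact hv b h'
    · exact hab (v.injective (h.trans h'.symm))

/-- An involution without fixed points inverts no elementary abelian subgroup of order nine. -/
theorem no_invert_nine {A B v : Perm (Fin 8)} (hA : A ^ 3 = 1) (hB : B ^ 3 = 1) (hAB : A * B = B * A)
    (hind : ∀ i l : Fin 3, A ^ (i : ℕ) * B ^ (l : ℕ) = 1 → i = 0 ∧ l = 0) (h2 : v * v = 1)
    (hv : ∀ a, v a ≠ a) (hvA : v * A * v⁻¹ = A⁻¹) (hvB : v * B * v⁻¹ = B⁻¹) : False := by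
  have six : ∀ X : Perm (Fin 8), X ^ 3 = 1 → X ≠ 1 → v * X * v⁻¹ = X⁻¹ → X.support.card = 6 :=
    fun X h3 h1 hi => (three_support h3 h1).resolve_left fun h => invert_three h h2 hv hi
  have hA1 : A ≠ 1 := fun h => by
    have := (hind 1 0 (by simp [h])).1
    exact absurd this (by decide)
  have hsA := six A hA hA1 hvA
  have hsame : ∀ X : Perm (Fin 8), X ^ 3 = 1 → X ≠ 1 → v * X * v⁻¹ = X⁻¹ → X * A = A * X →
      X.support = A.support := by
    intro X h3 h1 hi hc
    refine Finset.eq_of_subset_of_card_le ?_ (by rw [hsA, six X h3 h1 hi])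
    intro p hp
    by_contra hpA
    rw [Perm.mem_support] at hp
    have hfix : ∀ r, A r = r → A (X r) = X r := fun r hr => by
      rw [← Perm.mul_apply, ← hc, Perm.mul_apply, hr]
    have h0 : A p = p := Perm.notMem_support.1 hpA
    have h1' := hfix p h0
    have h2' := hfix _ h1'
    have e3 : X (X (X p)) = p := by
      have := congrArg (fun q : Perm (Fin 8) => q p) h3
      simpa [pow_succ, Perm.mul_apply] using this
    have n2 : X (X p) ≠ X p := fun h => hp (X.injective h)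
    have n3 : X (X p) ≠ p := fun h => hp (by rw [h] at e3; exact e3)
    have hsub : ({p, X p, X (X p)} : Finset (Fin 8)) ⊆ A.supportᶜ := by
      simp [Finset.insert_subset_iff, Perm.mem_support, h0, h1', h2']
    have hcard := Finset.card_le_card hsub
    rw [Finset.card_compl, hsA, Fintype.card_fin,
      Finset.card_insert_of_notMem (by simp [Ne.symm hp, n3.symm]), Finset.card_pair n2.symm] at hcard
    omega
  obtain ⟨p, hp⟩ : A.support.Nonempty := Finset.card_pos.1 (by rw [hsA]; norm_num)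
  have hAB' : Commute A B := hAB
  have hconj : ∀ i l : ℕ, v * (A ^ i * B ^ l) * v⁻¹ = (A ^ i * B ^ l)⁻¹ := fun i l => by
    rw [show v * (A ^ i * B ^ l) * v⁻¹ = v * A ^ i * v⁻¹ * (v * B ^ l * v⁻¹) by group, ← conj_pow,
      ← conj_pow, hvA, hvB, inv_pow, inv_pow, (hAB'.pow_pow i l).eq, mul_inv_rev]
  have hpow : ∀ i l : ℕ, (A ^ i * B ^ l) ^ 3 = 1 := fun i l => by
    rw [(hAB'.pow_pow i l).mul_pow, ← pow_mul, ← pow_mul, mul_comm i, mul_comm l, pow_mul, pow_mul,
      hA, hB, one_pow, one_pow, one_mul]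
  have hinj : Function.Injective fun x : Fin 3 × Fin 3 =>
      (A ^ (x.1 : ℕ) * B ^ (x.2 : ℕ)) p := by
    rintro ⟨i, l⟩ ⟨i', l'⟩ h
    have key : ∀ i i' : Fin 3, ((i - i' : Fin 3) : ℕ) + (i' : ℕ) = (i : ℕ) ∨
        ((i - i' : Fin 3) : ℕ) + (i' : ℕ) = (i : ℕ) + 3 := by decide
    have hsub : ∀ (C : Perm (Fin 8)), C ^ 3 = 1 → ∀ i i' : Fin 3,
        C ^ ((i - i' : Fin 3) : ℕ) * C ^ (i' : ℕ) = C ^ (i : ℕ) := fun C hC i i' => by
      rcases key i i' with e | e <;> rw [← pow_add, e]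
      rw [pow_add, hC, mul_one]
    have e : A ^ ((i - i' : Fin 3) : ℕ) * B ^ ((l - l' : Fin 3) : ℕ) *
        (A ^ (i' : ℕ) * B ^ (l' : ℕ)) = A ^ (i : ℕ) * B ^ (l : ℕ) := by
      rw [(hAB'.pow_pow _ _).symm.mul_mul_mul_comm, hsub A hA, hsub B hB]
    obtain ⟨X, hX⟩ : ∃ X, X = A ^ ((i - i' : Fin 3) : ℕ) * B ^ ((l - l' : Fin 3) : ℕ) := ⟨_, rfl⟩
    obtain ⟨Y, hY⟩ : ∃ Y, Y = A ^ (i' : ℕ) * B ^ (l' : ℕ) := ⟨_, rfl⟩
    rw [← hX, ← hY] at e
    change (A ^ (i : ℕ) * B ^ (l : ℕ)) p = (A ^ (i' : ℕ) * B ^ (l' : ℕ)) p at h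
    rw [← e, ← hY, Perm.mul_apply] at h
    by_contra hne
    have hX1 : X ≠ 1 := fun hX1 => hne (by
      obtain ⟨h1, h2⟩ := hind (i - i') (l - l') (hX ▸ hX1)
      rw [sub_eq_zero.1 h1, sub_eq_zero.1 h2])
    have hs := hsame X (hX ▸ hpow _ _) hX1 (hX ▸ hconj _ _) (hX ▸
      ((hAB'.pow_pow _ _).symm.eq ▸ ((hAB'.symm.pow_left _).mul_left ((Commute.refl A).pow_left _))).eq)
    have hfixY : A (Y p) ≠ Y p := by
      intro hh
      refine Perm.mem_support.1 hp (Y.injective ?_)
      rw [← Perm.mul_apply, ← (show Commute A Y from hY ▸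
        ((Commute.refl A).pow_right _).mul_right (hAB'.pow_right _)).eq, Perm.mul_apply, hh]
    rw [← Perm.mem_support, ← hs, Perm.mem_support] at hfixY
    exact hfixY h
  have := Fintype.card_le_of_injective _ hinj
  simp at this

end CfsgLib.McLThreeLocal
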