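import Cfsg.Agent.McLThreeLocal.Points
import Cfsg.Agent.McLThreeLocal.AltSixTwo

/-!
# The decomposition `J = ⟨z, w⟩ × E` and the involution interchanging the two lines

`E` is the part of `J` inverted by `t`; there is an involution of `M` commuting with `t` and
interchanging `⟨z⟩` and `⟨w⟩`.
-/

set_option autoImplicit false
set_option linter.style.haveILetI false
set_option linter.unusedSectionVars false

namespace CfsgLib.McLThreeLocal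

theorem pow_fin_add {G : Type*} [Group G] {x : G} (hx : x ^ 3 = 1) (a b : Fin 3) :
    x ^ ((a + b : Fin 3) : ℕ) = x ^ (a : ℕ) * x ^ (b : ℕ) := by
  rw [← pow_add, Fin.val_add]
  exact (pow_eq_pow_mod _ hx).symm

theorem pow_fin_neg {G : Type*} [Group G] {x : G} (hx : x ^ 3 = 1) (a : Fin 3) :
    x ^ ((-a : Fin 3) : ℕ) = (x ^ (a : ℕ))⁻¹ := by
  refine eq_inv_of_mul_eq_one_left ?_
  rw [← pow_fin_add hx, neg_add_cancel]
  exact pow_zero x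

theorem pow_fin_mul {G : Type*} [Group G] {x : G} (hx : x ^ 3 = 1) (a b : Fin 3) :
    x ^ ((a * b : Fin 3) : ℕ) = (x ^ (a : ℕ)) ^ (b : ℕ) := by
  rw [← pow_mul, Fin.val_mul]
  exact (pow_eq_pow_mod _ hx).symm

theorem fin_sq : ∀ a : Fin 3, a ≠ 0 → a * a = 1 := by decide

namespace Setup

variable {G : Type*} [Group G] [Finite G] (c : Setup G)
include c

/-- The part of `J` inverted by `t`. -/
def E : Subgroup G where
  carrier := {x | x ∈ c.J ∧ c.t * x * c.t = x⁻¹}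
  one_mem' := ⟨one_mem _, by rw [mul_one, c.t_sq, inv_one]⟩
  mul_mem' := fun {x y} hx hy => ⟨mul_mem hx.1 hy.1, by
    rw [c.t_conj_mul, hx.2, hy.2, ← mul_inv_rev, c.J_comm x hx.1 y hy.1]⟩
  inv_mem' := fun {x} hx => ⟨inv_mem hx.1, by
    calc c.t * x⁻¹ * c.t = (c.t * x * c.t)⁻¹ := by simp [mul_assoc, c.t_inv]
      _ = _ := by rw [hx.2]⟩

theorem E_le_J : c.E ≤ c.J := fun _ h => h.1

theorem E_inv_t {e : G} (he : e ∈ c.E) : c.t * e * c.t = e⁻¹ := he.2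

theorem E_le_Q : c.E ≤ c.Q := by
  intro e he
  obtain ⟨q, hq, k, hk⟩ := c.S_decomp (c.J_le_S he.1)
  have hqJ : q ∈ c.J := (Subgroup.mul_mem_cancel_right _ (pow_mem c.w_mem_J _)).1 (hk ▸ he.1)
  have hw : c.t * c.w ^ (k : ℕ) * c.t = c.w ^ (k : ℕ) := by
    rw [((show Commute c.t c.w from c.t_w).pow_right _).eq, mul_assoc, c.t_sq, mul_one]
  have h := he.2
  rw [hk, c.t_conj_mul, hw] at h
  have hw2 : c.w ^ (k : ℕ) * c.w ^ (k : ℕ) = (c.t * q * c.t)⁻¹ * q⁻¹ := by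
    calc c.w ^ (k : ℕ) * c.w ^ (k : ℕ) = c.w ^ (k : ℕ) * (c.t * q * c.t)⁻¹ *
          (c.t * q * c.t * c.w ^ (k : ℕ)) := by group
      _ = (c.w ^ (k : ℕ) * (c.t * q * c.t)⁻¹ * (c.w ^ (k : ℕ))⁻¹) * q⁻¹ := by rw [h]; group
      _ = _ := by
        rw [conj_of_comm (c.J_comm _ (pow_mem c.w_mem_J _) _ (inv_mem (c.t_conj_J hqJ)))]
  have hwQ : c.w ^ ((k + k : Fin 3) : ℕ) ∈ c.Q := by
    rw [pow_fin_add c.w_cube, hw2]
    refine mul_mem (inv_mem ?_) (inv_mem hq)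
    have h' := conj_mem_of_norm c.t_norm_Q hq
    rwa [c.t_inv] at h'
  have h0 := c.w_pow_Q hwQ
  have key : ∀ a : Fin 3, a + a = 0 → a = 0 := by decide
  rw [hk, key k h0]
  simpa using hq

theorem grid_fix (i k : Fin 3) :
    c.t * (c.z ^ (i : ℕ) * c.w ^ (k : ℕ)) * c.t = c.z ^ (i : ℕ) * c.w ^ (k : ℕ) := by
  rw [(((show Commute c.t c.z from c.t_z).pow_right _).mul_right
    ((show Commute c.t c.w from c.t_w).pow_right _)).eq, mul_assoc, c.t_sq, mul_one]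

/-- The elements of `J` commuting with `t`. -/
theorem grid_of_fix {x : G} (hx : x ∈ c.J) (h : c.t * x = x * c.t) :
    ∃ i k : Fin 3, x = c.z ^ (i : ℕ) * c.w ^ (k : ℕ) :=
  c.mem_L_cent_S (c.J_le_S hx) h

theorem decomp {x : G} (hx : x ∈ c.J) :
    ∃ i k : Fin 3, ∃ e ∈ c.E, x = c.z ^ (i : ℕ) * c.w ^ (k : ℕ) * e := by
  obtain ⟨y, hy, hyx⟩ : ∃ y ∈ c.J, c.t * x * c.t = y := ⟨_, c.t_conj_J hx, rfl⟩
  have hyt : c.t * y * c.t = x := by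
    rw [← hyx, show c.t * (c.t * x * c.t) * c.t = c.t * c.t * x * (c.t * c.t) by group, c.t_sq,
      one_mul, mul_one]
  have hxy : Commute x y := c.J_comm x hx y hy
  have hr : c.t * (x * y * (x * y)) * c.t = x * y * (x * y) := by
    rw [c.t_conj_mul, c.t_conj_mul, hyx, hyt, hxy.eq]
  have he : x * y⁻¹ * (x * y⁻¹) ∈ c.E := by
    refine ⟨mul_mem (mul_mem hx (inv_mem hy)) (mul_mem hx (inv_mem hy)), ?_⟩
    have hy' : c.t * y⁻¹ * c.t = x⁻¹ := by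
      rw [← hyt]; simp [mul_assoc, c.t_inv]
    rw [c.t_conj_mul, c.t_conj_mul, hyx, hy']
    simp [mul_assoc]
  obtain ⟨i, k, hik⟩ := c.grid_of_fix (mul_mem (mul_mem hx hy) (mul_mem hx hy))
    (by
      calc c.t * (x * y * (x * y)) = c.t * (x * y * (x * y)) * (c.t * c.t) := by rw [c.t_sq, mul_one]
        _ = c.t * (x * y * (x * y)) * c.t * c.t := by group
        _ = _ := by rw [hr])
  refine ⟨i, k, _, he, ?_⟩
  rw [← hik]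
  have hc1 : Commute (x * y) (x * y⁻¹) := c.J_comm _ (mul_mem hx hy) _ (mul_mem hx (inv_mem hy))
  have h2 : x * y * (x * y⁻¹) = x * x := by
    rw [show x * y * (x * y⁻¹) = x * (y * x) * y⁻¹ by group, ← hxy.eq]
    group
  have h3 : x * y * (x * y) * (x * y⁻¹ * (x * y⁻¹)) = x * x * (x * x) := by
    rw [← h2, hc1.mul_mul_mul_comm]
  rw [h3]
  have := c.J_exp x hx
  simp only [pow_succ, pow_zero, one_mul] at this
  rw [show x * x * (x * x) = x * x * x * x by group, this, one_mul]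

theorem decomp_inj {i k i' k' : Fin 3} {e e' : G} (he : e ∈ c.E) (he' : e' ∈ c.E)
    (h : c.z ^ (i : ℕ) * c.w ^ (k : ℕ) * e = c.z ^ (i' : ℕ) * c.w ^ (k' : ℕ) * e') :
    i = i' ∧ k = k' ∧ e = e' := by
  obtain ⟨a, haJ, ha⟩ : ∃ a ∈ c.J, c.z ^ (i : ℕ) * c.w ^ (k : ℕ) = a :=
    ⟨_, c.grid_mem_J _ _, rfl⟩
  obtain ⟨b, hbJ, hb⟩ : ∃ b ∈ c.J, c.z ^ (i' : ℕ) * c.w ^ (k' : ℕ) = b :=
    ⟨_, c.grid_mem_J _ _, rfl⟩
  have ht : a * e⁻¹ = b * e'⁻¹ := by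
    have h' := congrArg (fun x => c.t * x * c.t) h
    rw [c.t_conj_mul, c.t_conj_mul (c.z ^ (i' : ℕ) * c.w ^ (k' : ℕ)), c.grid_fix, c.grid_fix,
      c.E_inv_t he, c.E_inv_t he'] at h'
    rwa [ha, hb] at h'
  rw [ha, hb] at h
  have key : ∀ a e : G, a ∈ c.J → e ∈ c.J → a * e * (a * e⁻¹) = a * a := fun a e ha he => by
    rw [show a * e * (a * e⁻¹) = a * (e * a) * e⁻¹ by group, c.J_comm e he a ha]
    group
  have h2 : a * a = b * b := by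
    rw [← key a e haJ he.1, ← key b e' hbJ he'.1, h, ht]
  have h4 : ∀ a : G, a ∈ c.J → a * a * (a * a) = a := fun a ha => by
    have h3 := c.J_exp a ha
    simp only [pow_succ, pow_zero, one_mul] at h3
    rw [show a * a * (a * a) = a * a * a * a by group, h3, one_mul]
  have hab : a = b := by rw [← h4 a haJ, h2, h4 b hbJ]
  have hg := c.grid_inj (ha.trans (hab.trans hb.symm))
  exact ⟨hg.1, hg.2, by rw [hab] at h; exact mul_left_cancel h⟩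

theorem dec_Q {i k : Fin 3} {e : G} (he : e ∈ c.E)
    (h : c.z ^ (i : ℕ) * c.w ^ (k : ℕ) * e ∈ c.Q) : k = 0 :=
  c.w_pow_Q ((Subgroup.mul_mem_cancel_left _ (pow_mem c.z_mem_Q _)).1
    ((Subgroup.mul_mem_cancel_right _ (c.E_le_Q he)).1 h))

theorem card_E : Nat.card c.E = 9 := by
  have hb : Function.Bijective (fun p : (Fin 3 × Fin 3) × c.E =>
      (⟨c.z ^ (p.1.1 : ℕ) * c.w ^ (p.1.2 : ℕ) * p.2.1,
        mul_mem (c.grid_mem_J _ _) (c.E_le_J p.2.2)⟩ : c.J)) := by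
    constructor
    · rintro ⟨⟨i, k⟩, e⟩ ⟨⟨i', k'⟩, e'⟩ h
      obtain ⟨rfl, rfl, he⟩ := c.decomp_inj e.2 e'.2 (congrArg Subtype.val h)
      rw [Subtype.ext he]
    · rintro ⟨x, hx⟩
      obtain ⟨i, k, e, he, rfl⟩ := c.decomp hx
      exact ⟨⟨(i, k), ⟨e, he⟩⟩, rfl⟩
  have h := Nat.card_congr (Equiv.ofBijective _ hb)
  rw [Nat.card_prod, Nat.card_prod, Nat.card_fin, c.card_J] at h
  omega

theorem z_line {i : Fin 3} (h : i ≠ 0) : c.z = (c.z ^ (i : ℕ)) ^ (i : ℕ) := by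
  rw [← pow_fin_mul c.z_cube, fin_sq i h]
  exact (pow_one _).symm

theorem w_line {i : Fin 3} (h : i ≠ 0) : c.w = (c.w ^ (i : ℕ)) ^ (i : ℕ) := by
  rw [← pow_fin_mul c.w_cube, fin_sq i h]
  exact (pow_one _).symm

theorem exists_swap₀ : ∃ g ∈ c.M, ∃ a b : Fin 3, a ≠ 0 ∧ b ≠ 0 ∧
    g * c.z * g⁻¹ = c.w ^ (a : ℕ) ∧ g * c.w * g⁻¹ = c.z ^ (b : ℕ) := by
  obtain ⟨m, hm, hwm⟩ := c.isPt_w
  have hw2 : c.w⁻¹ = c.w ^ 2 := inv_eq_of_mul_eq_one_right (by rw [← pow_succ', c.w_cube])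
  obtain ⟨a, ha0, ha⟩ : ∃ a : Fin 3, a ≠ 0 ∧ m * c.z * m⁻¹ = c.w ^ (a : ℕ) := by
    rcases hwm with h | h
    · exact ⟨1, by decide, by rw [← h]; simp⟩
    · refine ⟨2, by decide, ?_⟩
      show _ = c.w ^ 2
      rw [← hw2, h]
      group
  obtain ⟨x, hx⟩ : ∃ x, x = m⁻¹ * c.z * m := ⟨_, rfl⟩
  have hxpt : c.IsPt x := hx ▸ ⟨m⁻¹, inv_mem hm, Or.inl (by group)⟩
  have hxz : x ∉ Subgroup.zpowers c.z := fun h => by
    obtain ⟨i, hi⟩ := c.fin_cases_zpow c.z_cube h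
    have h1 : c.z = c.z ^ ((0 : Fin 3) : ℕ) * c.w ^ ((a * i : Fin 3) : ℕ) := by
      rw [pow_fin_mul c.w_cube, ← ha, conj_pow, ← hi, hx]
      simp [mul_assoc]
    have h2 : c.z ^ ((1 : Fin 3) : ℕ) * c.w ^ ((0 : Fin 3) : ℕ) =
        c.z ^ ((0 : Fin 3) : ℕ) * c.w ^ ((a * i : Fin 3) : ℕ) := by
      rw [← h1]; simp
    exact absurd (c.grid_inj h2).1 (by decide)
  have hwz : c.w ∉ Subgroup.zpowers c.z := fun h =>
    c.w_not_Q (Subgroup.zpowers_le.2 c.z_mem_Q h)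
  obtain ⟨s, hs, hsx⟩ := c.orbit hxpt hxz c.isPt_w hwz
  obtain ⟨d, hd0, hd⟩ : ∃ d : Fin 3, d ≠ 0 ∧ s⁻¹ * c.w * s = x ^ (d : ℕ) := by
    rcases hsx with h | h
    · exact ⟨1, by decide, by rw [h]; simp [mul_assoc]⟩
    · refine ⟨2, by decide, ?_⟩
      show _ = x ^ 2
      rw [h, show x ^ 2 = x⁻¹ from (inv_eq_of_mul_eq_one_right (by
        rw [← pow_succ', c.J_exp x (hxpt.mem_J c)])).symm]
      group
  refine ⟨m * s⁻¹, mul_mem hm (inv_mem (c.S_le_M hs)), a, d, ha0, hd0, ?_, ?_⟩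
  · rw [← ha, show m * s⁻¹ * c.z * (m * s⁻¹)⁻¹ = m * (s⁻¹ * c.z * s) * m⁻¹ by group,
      show s⁻¹ * c.z * s = c.z by rw [mul_assoc, ← c.S_comm s hs, inv_mul_cancel_left]]
  · rw [show m * s⁻¹ * c.w * (m * s⁻¹)⁻¹ = m * (s⁻¹ * c.w * s) * m⁻¹ by group, hd, ← conj_pow, hx]
    congr 1
    group

/-- An element of `M` exchanging the two lines. -/
noncomputable def g₀ : G := c.exists_swap₀.choose

theorem g₀_mem : c.g₀ ∈ c.M := c.exists_swap₀.choose_spec.1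

theorem g₀_spec : ∃ a b : Fin 3, a ≠ 0 ∧ b ≠ 0 ∧
    c.g₀ * c.z * c.g₀⁻¹ = c.w ^ (a : ℕ) ∧ c.g₀ * c.w * c.g₀⁻¹ = c.z ^ (b : ℕ) :=
  c.exists_swap₀.choose_spec.2

/-- An element of the normaliser of `J` fixing `⟨z⟩` normalises `Q`. -/
theorem conj_mem_Q {n q : G} (hz : n * c.z * n⁻¹ ∈ Subgroup.zpowers c.z) (hq : q ∈ c.Q) :
    n * q * n⁻¹ ∈ c.Q := conj_mem_of_norm (c.Q_norm n hz) hq

theorem g₀_sq_z : c.g₀ * c.g₀ * c.z * (c.g₀ * c.g₀)⁻¹ ∈ Subgroup.zpowers c.z := by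
  obtain ⟨a, b, -, -, ha, hb⟩ := c.g₀_spec
  rw [conj_conj, ha, ← conj_pow, hb]
  exact pow_mem (pow_mem (Subgroup.mem_zpowers _) _) _

/-- `E` is contained in the image of `Q` under the exchange. -/
theorem E_swap {e : G} (he : e ∈ c.E) : c.g₀⁻¹ * e * c.g₀ ∈ c.Q := by
  obtain ⟨a, b, ha0, hb0, ha, hb⟩ := c.g₀_spec
  have hgN := c.M_le c.g₀_mem
  let V : Subgroup G := c.Q.map (MulAut.conj c.g₀).toMonoidHom
  have hV : ∀ x, x ∈ V ↔ c.g₀⁻¹ * x * c.g₀ ∈ c.Q := by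
    intro x
    constructor
    · rintro ⟨q, hq, rfl⟩
      show c.g₀⁻¹ * (c.g₀ * q * c.g₀⁻¹) * c.g₀ ∈ c.Q
      rwa [show c.g₀⁻¹ * (c.g₀ * q * c.g₀⁻¹) * c.g₀ = q by group]
    · intro h
      exact ⟨_, h, by show c.g₀ * (c.g₀⁻¹ * x * c.g₀) * c.g₀⁻¹ = x; group⟩
  have hwV : c.w ∈ V := by
    rw [c.w_line ha0]
    refine pow_mem ((hV _).2 ?_) _
    rw [← ha]
    simpa [mul_assoc] using c.z_mem_Q
  have hzV : ∀ i : Fin 3, c.z ^ (i : ℕ) ∈ V → i = 0 := by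
    intro i h
    have h' := (hV _).1 h
    have e1 : c.g₀⁻¹ * c.z * c.g₀ = c.w ^ (b : ℕ) := by
      have h3 := congrArg (fun x => x ^ (b : ℕ)) hb
      simp only [← c.z_line hb0, conj_pow] at h3
      rw [← h3]
      group
    rw [show c.g₀⁻¹ * c.z ^ (i : ℕ) * c.g₀ = (c.g₀⁻¹ * c.z * c.g₀) ^ (i : ℕ) by
      rw [show c.g₀⁻¹ * c.z * c.g₀ = c.g₀⁻¹ * c.z * c.g₀⁻¹⁻¹ by group, conj_pow, inv_inv],
      e1, ← pow_fin_mul c.w_cube] at h'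
    have h0 := c.w_pow_Q h'
    have key : ∀ p q : Fin 3, p ≠ 0 → p * q = 0 → q = 0 := by decide
    exact key b i hb0 h0
  -- `t` normalises `V`
  obtain ⟨u, hu⟩ : ∃ u, u = c.g₀⁻¹ * c.t * c.g₀ := ⟨_, rfl⟩
  have huz : u * c.z * u⁻¹ ∈ Subgroup.zpowers c.z := by
    rw [hu, show c.g₀⁻¹ * c.t * c.g₀ * c.z * (c.g₀⁻¹ * c.t * c.g₀)⁻¹ =
      c.g₀⁻¹ * (c.t * (c.g₀ * c.z * c.g₀⁻¹) * c.t⁻¹) * c.g₀ by group, ha,
      conj_of_comm ((show Commute c.t c.w from c.t_w).pow_right _).eq, ← ha,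
      show c.g₀⁻¹ * (c.g₀ * c.z * c.g₀⁻¹) * c.g₀ = c.z by group]
    exact Subgroup.mem_zpowers _
  have htV : ∀ x ∈ V, c.t * x * c.t ∈ V := by
    intro x hx
    refine (hV _).2 ?_
    have h := c.conj_mem_Q huz ((hV x).1 hx)
    rw [hu, show c.g₀⁻¹ * c.t * c.g₀ * (c.g₀⁻¹ * x * c.g₀) * (c.g₀⁻¹ * c.t * c.g₀)⁻¹ =
      c.g₀⁻¹ * (c.t * x * c.t⁻¹) * c.g₀ by group, c.t_inv] at h
    exact h
  have key : ∀ h : (c.J ⊓ c.Q : Subgroup G), ∃ k : Fin 3, ∃ e : (c.E ⊓ V : Subgroup G),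
      c.g₀ * h.1 * c.g₀⁻¹ = c.w ^ (k : ℕ) * e.1 := by
    intro h
    obtain ⟨y, hy⟩ : ∃ y, y = c.g₀ * h.1 * c.g₀⁻¹ := ⟨_, rfl⟩
    have hyV : y ∈ V := hy ▸ ⟨h.1, h.2.2, rfl⟩
    obtain ⟨i, k, e, he', hyd⟩ := c.decomp (x := y) (hy ▸ conj_mem_of_norm hgN h.2.1)
    have h2 : y * (c.t * y * c.t)⁻¹ = e * e := by
      rw [hyd, c.t_conj_mul (c.z ^ (i : ℕ) * c.w ^ (k : ℕ)), c.grid_fix, c.E_inv_t he']
      have hc := c.J_comm _ (c.grid_mem_J (i : ℕ) (k : ℕ)) _ (mul_mem he'.1 he'.1)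
      rw [show c.z ^ (i : ℕ) * c.w ^ (k : ℕ) * e * (c.z ^ (i : ℕ) * c.w ^ (k : ℕ) * e⁻¹)⁻¹ =
        c.z ^ (i : ℕ) * c.w ^ (k : ℕ) * (e * e) * (c.z ^ (i : ℕ) * c.w ^ (k : ℕ))⁻¹ by group]
      exact conj_of_comm hc
    have heV : e ∈ V := by
      have h3 := c.J_exp e (c.E_le_J he')
      simp only [pow_succ, pow_zero, one_mul] at h3
      rw [show e = e * e * (e * e) by rw [show e * e * (e * e) = e * e * e * e by group, h3, one_mul]]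
      exact mul_mem (h2 ▸ mul_mem hyV (inv_mem (htV y hyV))) (h2 ▸ mul_mem hyV (inv_mem (htV y hyV)))
    have hi : i = 0 := hzV i ((Subgroup.mul_mem_cancel_right _ (pow_mem hwV (k : ℕ))).1
      ((Subgroup.mul_mem_cancel_right _ heV).1 (hyd ▸ hyV)))
    refine ⟨k, ⟨e, he', heV⟩, ?_⟩
    rw [← hy, hyd, hi]
    simp
  choose f1 f2 hf using key
  have hinj : Function.Injective fun h => (f1 h, f2 h) := by
    intro h h' hh
    simp only [Prod.mk.injEq] at hh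
    refine Subtype.ext ((MulAut.conj c.g₀).injective ?_)
    show c.g₀ * h.1 * c.g₀⁻¹ = c.g₀ * h'.1 * c.g₀⁻¹
    rw [hf, hf, hh.1, hh.2]
  have hcard := Nat.card_le_card_of_injective _ hinj
  rw [c.card_H, Nat.card_prod, Nat.card_fin] at hcard
  have hEV := Subgroup.eq_of_le_of_card_ge (inf_le_left : c.E ⊓ V ≤ c.E) (by rw [c.card_E]; omega)
  exact (hV e).1 (hEV.symm ▸ he : e ∈ c.E ⊓ V).2

theorem mem_E_of {x : G} (hxJ : x ∈ c.J) (hxQ : x ∈ c.Q) (hxV : c.g₀⁻¹ * x * c.g₀ ∈ c.Q) :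
    x ∈ c.E := by
  obtain ⟨a, b, ha0, hb0, ha, hb⟩ := c.g₀_spec
  obtain ⟨i, k, e, he, rfl⟩ := c.decomp hxJ
  obtain rfl := c.dec_Q he hxQ
  have hk0 : c.w ^ ((0 : Fin 3) : ℕ) = 1 := pow_zero _
  rw [hk0, mul_one] at hxV ⊢
  rw [show c.g₀⁻¹ * (c.z ^ (i : ℕ) * e) * c.g₀ =
    c.g₀⁻¹ * c.z ^ (i : ℕ) * c.g₀ * (c.g₀⁻¹ * e * c.g₀) by group,
    Subgroup.mul_mem_cancel_right _ (c.E_swap he)] at hxV
  have e1 : c.g₀⁻¹ * c.z * c.g₀ = c.w ^ (b : ℕ) := by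
    have h3 := congrArg (fun x => x ^ (b : ℕ)) hb
    simp only [← c.z_line hb0, conj_pow] at h3
    rw [← h3]
    group
  rw [show c.g₀⁻¹ * c.z ^ (i : ℕ) * c.g₀ = (c.g₀⁻¹ * c.z * c.g₀) ^ (i : ℕ) by
    rw [show c.g₀⁻¹ * c.z * c.g₀ = c.g₀⁻¹ * c.z * c.g₀⁻¹⁻¹ by group, conj_pow, inv_inv],
    e1, ← pow_fin_mul c.w_cube] at hxV
  have key : ∀ p q : Fin 3, p ≠ 0 → p * q = 0 → q = 0 := by decide
  rw [key b i hb0 (c.w_pow_Q hxV)]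
  simpa using he

/-- Elements fixing both lines normalise `E`. -/
theorem E_norm_fix {n e : G} (hn : n ∈ Subgroup.normalizer (c.J : Set G))
    (hz : n * c.z * n⁻¹ ∈ Subgroup.zpowers c.z) (hw : n * c.w * n⁻¹ ∈ Subgroup.zpowers c.w)
    (he : e ∈ c.E) : n * e * n⁻¹ ∈ c.E := by
  refine c.mem_E_of (conj_mem_of_norm hn he.1) (c.conj_mem_Q hz (c.E_le_Q he)) ?_
  obtain ⟨a, b, ha0, hb0, ha, hb⟩ := c.g₀_spec
  have hz' : c.g₀⁻¹ * n * c.g₀ * c.z * (c.g₀⁻¹ * n * c.g₀)⁻¹ ∈ Subgroup.zpowers c.z := by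
    obtain ⟨i, hi⟩ := c.fin_cases_zpow c.w_cube hw
    rw [show c.g₀⁻¹ * n * c.g₀ * c.z * (c.g₀⁻¹ * n * c.g₀)⁻¹ =
      c.g₀⁻¹ * (n * (c.g₀ * c.z * c.g₀⁻¹) * n⁻¹) * c.g₀ by group, ha, ← conj_pow, hi, ← pow_mul,
      Nat.mul_comm, pow_mul, ← ha, conj_pow,
      show c.g₀⁻¹ * (c.g₀ * c.z ^ (i : ℕ) * c.g₀⁻¹) * c.g₀ = c.z ^ (i : ℕ) by group]
    exact pow_mem (Subgroup.mem_zpowers _) _
  have h := c.conj_mem_Q hz' (c.E_swap he)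
  rwa [show c.g₀⁻¹ * n * c.g₀ * (c.g₀⁻¹ * e * c.g₀) * (c.g₀⁻¹ * n * c.g₀)⁻¹ =
    c.g₀⁻¹ * (n * e * n⁻¹) * c.g₀ by group] at h

theorem E_norm_g₀ {e : G} (he : e ∈ c.E) : c.g₀ * e * c.g₀⁻¹ ∈ c.E := by
  refine c.mem_E_of (conj_mem_of_norm (c.M_le c.g₀_mem) he.1) ?_ ?_
  · have h := c.conj_mem_Q c.g₀_sq_z (c.E_swap he)
    rwa [show c.g₀ * c.g₀ * (c.g₀⁻¹ * e * c.g₀) * (c.g₀ * c.g₀)⁻¹ = c.g₀ * e * c.g₀⁻¹ by group] at h
  · rw [show c.g₀⁻¹ * (c.g₀ * e * c.g₀⁻¹) * c.g₀ = e by group]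
    exact c.E_le_Q he

end Setup

end CfsgLib.McLThreeLocal
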