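import Cfsg.Agent.McLThreeLocal.Basic

/-!
# The ten conjugates of `⟨z⟩` in `J`

The conjugates of the centre of a Sylow subgroup lying in `J` are `⟨z⟩` and the nine `S`-conjugates
of `⟨w⟩`; the Sylow subgroup permutes these nine regularly modulo `J`.
-/

set_option autoImplicit false
set_option linter.style.haveILetI false
set_option linter.unusedSectionVars false

namespace CfsgLib.McLThreeLocal

namespace Setup

variable {G : Type*} [Group G] [Finite G] (c : Setup G)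
include c

/-- Conjugates of `z` or its inverse by elements of `M`. -/
def IsPt (x : G) : Prop := ∃ m ∈ c.M, x = m * c.z * m⁻¹ ∨ x = m * c.z⁻¹ * m⁻¹

theorem isPt_z : c.IsPt c.z := ⟨1, one_mem _, Or.inl (by simp)⟩

theorem IsPt.inv {x : G} (h : c.IsPt x) : c.IsPt x⁻¹ := by
  obtain ⟨m, hm, rfl | rfl⟩ := h
  · exact ⟨m, hm, Or.inr (by group)⟩
  · exact ⟨m, hm, Or.inl (by group)⟩

theorem IsPt.mem_J {x : G} (h : c.IsPt x) : x ∈ c.J := by
  obtain ⟨m, hm, rfl | rfl⟩ := h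
  · exact conj_mem_of_norm (c.M_le hm) c.z_mem_J
  · exact conj_mem_of_norm (c.M_le hm) (inv_mem c.z_mem_J)

theorem IsPt.conj_M {x m : G} (hm : m ∈ c.M) (h : c.IsPt x) : c.IsPt (m * x * m⁻¹) := by
  obtain ⟨n, hn, rfl | rfl⟩ := h
  · exact ⟨m * n, mul_mem hm hn, Or.inl (by group)⟩
  · exact ⟨m * n, mul_mem hm hn, Or.inr (by group)⟩

theorem IsPt.ne_one {x : G} (h : c.IsPt x) : x ≠ 1 := by
  obtain ⟨m, hm, rfl | rfl⟩ := h <;> intro e
  · exact c.z_ne (by simpa using e)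
  · exact c.z_ne (by simpa using e)

/-- An element normalising `S` preserves its centre. -/
theorem conj_z_of_norm_S {g : G} (hg : g ∈ Subgroup.normalizer (c.S : Set G)) :
    g * c.z * g⁻¹ ∈ Subgroup.zpowers c.z := by
  refine c.S_center _ (conj_mem_of_norm hg (c.Q_le_S c.z_mem_Q)) fun s hs => ?_
  have hs' : g⁻¹ * s * g ∈ c.S := by
    have h := conj_mem_of_norm (inv_mem hg) hs
    rwa [inv_inv] at h
  calc g * c.z * g⁻¹ * s = g * (c.z * (g⁻¹ * s * g)) * g⁻¹ := by group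
    _ = g * (g⁻¹ * s * g * c.z) * g⁻¹ := by rw [c.S_comm _ hs']
    _ = _ := by group

/-- An element of the normaliser of `J` preserving `⟨z⟩` normalises `S`. -/
theorem norm_S_of_conj_z {g : G} (hg : g ∈ Subgroup.normalizer (c.J : Set G))
    (hz : g * c.z * g⁻¹ ∈ Subgroup.zpowers c.z) : g ∈ Subgroup.normalizer (c.S : Set G) := by
  refine mem_norm_of_conj fun s hs => ?_
  obtain ⟨q, hq, k, rfl⟩ := c.S_decomp hs
  rw [show g * (q * c.w ^ (k : ℕ)) * g⁻¹ = g * q * g⁻¹ * (g * c.w ^ (k : ℕ) * g⁻¹) by group]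
  exact mul_mem (c.Q_le_S (conj_mem_of_norm (c.Q_norm g hz) hq))
    (c.J_le_S (conj_mem_of_norm hg (pow_mem c.w_mem_J _)))

/-- A conjugate of `z` lying in `J` is conjugate to it in the normaliser of `J`. -/
theorem isPt_of_conj {g : G} (hg : g * c.z * g⁻¹ ∈ c.J) : c.IsPt (g * c.z * g⁻¹) := by
  haveI : Fact (Nat.Prime 3) := ⟨Nat.prime_three⟩
  obtain ⟨x, hx⟩ : ∃ x, x = g * c.z * g⁻¹ := ⟨_, rfl⟩
  rw [← hx] at hg ⊢
  let C := Subgroup.centralizer ({x} : Set G)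
  have hJC : c.J ≤ C := fun y hy => Subgroup.mem_centralizer_singleton_iff.2 (c.J_comm y hy x hg)
  have hSC : c.S.map (MulAut.conj g).toMonoidHom ≤ C := by
    rintro _ ⟨s, hs, rfl⟩
    refine Subgroup.mem_centralizer_singleton_iff.2 ?_
    show g * s * g⁻¹ * x = x * (g * s * g⁻¹)
    rw [hx]
    calc g * s * g⁻¹ * (g * c.z * g⁻¹) = g * (s * c.z) * g⁻¹ := by group
      _ = g * (c.z * s) * g⁻¹ := by rw [c.S_comm s hs]
      _ = _ := by group
  obtain ⟨T, hT⟩ := (IsPGroup.of_card (p := 3) (G := c.J.subgroupOf C) (n := 4) (by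
    rw [Nat.card_congr (Subgroup.subgroupOfEquivOfLe hJC).toEquiv, c.card_J]; norm_num)).exists_le_sylow
  let Sg : Subgroup C := (c.S.map (MulAut.conj g).toMonoidHom).subgroupOf C
  have hSgc : Nat.card Sg = 729 := by
    rw [Nat.card_congr (Subgroup.subgroupOfEquivOfLe hSC).toEquiv,
      Subgroup.card_map_of_injective (MulAut.conj g).injective, c.card_S]
  obtain ⟨P, hP⟩ := (IsPGroup.of_card (p := 3) (G := Sg) (n := 6) (by rw [hSgc]; norm_num)).exists_le_sylow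
  obtain ⟨k, hk⟩ := MulAction.exists_smul_eq C P T
  obtain ⟨n, hn⟩ : ∃ n : G, n = (k : G) * g := ⟨_, rfl⟩
  have hTc : Nat.card T = 729 := by
    have h1 : 729 ≤ Nat.card P := hSgc ▸ Subgroup.card_le_of_le hP
    obtain ⟨e, he⟩ := IsPGroup.iff_card.1 T.isPGroup'
    have hd : Nat.card T ∣ Nat.card G :=
      (Subgroup.card_subgroup_dvd_card _).trans (Subgroup.card_subgroup_dvd_card _)
    have he6 : e ≤ 6 := by
      by_contra h7
      exact c.not_dvd ((pow_dvd_pow 3 (show 7 ≤ e by omega)).trans (he ▸ hd))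
    have h2 : Nat.card P = Nat.card T := by rw [← hk]; exact (Nat.card_congr (Sylow.equivSMul P k).toEquiv)
    have := Nat.pow_le_pow_right (show 1 ≤ 3 by norm_num) he6
    omega
  have hnS : ∀ s ∈ c.S, n * s * n⁻¹ ∈ (T : Subgroup C).map C.subtype := by
    intro s hs
    have hsC : g * s * g⁻¹ ∈ C := hSC ⟨s, hs, rfl⟩
    have h1 : (⟨g * s * g⁻¹, hsC⟩ : C) ∈ (P : Subgroup C) :=
      hP (show (⟨g * s * g⁻¹, hsC⟩ : C) ∈ Sg from ⟨s, hs, rfl⟩)
    refine ⟨k * ⟨g * s * g⁻¹, hsC⟩ * k⁻¹, ?_, ?_⟩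
    · rw [← hk, Sylow.coe_subgroup_smul]
      exact ⟨_, h1, rfl⟩
    · rw [hn]
      show (k : G) * (g * s * g⁻¹) * (k : G)⁻¹ = _
      group
  have hTJ : c.J ≤ (T : Subgroup C).map C.subtype := fun y hy =>
    ⟨⟨y, hJC hy⟩, hT (show (⟨y, hJC hy⟩ : C) ∈ c.J.subgroupOf C from hy), rfl⟩
  have h729 : Nat.card ((T : Subgroup C).map C.subtype : Subgroup G) = 729 := by
    rw [Subgroup.card_map_of_injective C.subtype_injective]; exact hTc
  have hnJ : n ∈ Subgroup.normalizer (c.J : Set G) := by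
    refine mem_norm_of_conj fun y hy => ?_
    have h := c.eq_J h729 hTJ (A := c.J.map (MulAut.conj n).toMonoidHom)
      (by rintro _ ⟨b, hb, rfl⟩; exact hnS b (c.J_le_S hb))
      (by rw [Subgroup.card_map_of_injective (MulAut.conj n).injective, c.card_J])
      (by rintro _ ⟨b, hb, rfl⟩ _ ⟨b', hb', rfl⟩; rw [← map_mul, ← map_mul, c.J_comm b hb b' hb'])
      (by rintro _ ⟨b, hb, rfl⟩; rw [← map_pow, c.J_exp b hb, map_one])
    rw [← h]
    exact ⟨y, hy, rfl⟩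
  have hxn : x = n * c.z * n⁻¹ := by
    have hkx := Subgroup.mem_centralizer_singleton_iff.1 k.2
    rw [hn, conj_conj, ← hx, conj_of_comm hkx]
  -- Frattini in `M`
  have hMn : ∀ y ∈ c.M, n * y * n⁻¹ ∈ c.M := fun y hy => conj_mem_of_norm (c.M_norm hnJ) hy
  let SM : Subgroup c.M := c.S.subgroupOf c.M
  let SN : Subgroup c.M := (c.S.map (MulAut.conj n).toMonoidHom).subgroupOf c.M
  have hle : c.S.map (MulAut.conj n).toMonoidHom ≤ c.M := by
    rintro _ ⟨s, hs, rfl⟩; exact hMn s (c.S_le_M hs)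
  have hsyl : ∀ U : Subgroup c.M, Nat.card U = 729 → ∃ U' : Sylow 3 c.M, (U' : Subgroup c.M) = U := by
    intro U hU
    refine ⟨(IsPGroup.of_card (n := 6) (by rw [hU]; norm_num)).toSylow ?_, rfl⟩
    have h := U.card_mul_index
    rw [hU, c.card_M] at h
    omega
  obtain ⟨U, hU⟩ := hsyl SM (by rw [Nat.card_congr (Subgroup.subgroupOfEquivOfLe c.S_le_M).toEquiv, c.card_S])
  obtain ⟨V, hV⟩ := hsyl SN (by
    rw [Nat.card_congr (Subgroup.subgroupOfEquivOfLe hle).toEquiv,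
      Subgroup.card_map_of_injective (MulAut.conj n).injective, c.card_S])
  obtain ⟨m, hm⟩ := MulAction.exists_smul_eq c.M U V
  have hmn : (m : G)⁻¹ * n ∈ Subgroup.normalizer (c.S : Set G) := by
    refine mem_norm_of_conj fun s hs => ?_
    have h1 : (⟨n * s * n⁻¹, hMn s (c.S_le_M hs)⟩ : c.M) ∈ (V : Subgroup c.M) :=
      hV.symm ▸ (show (⟨n * s * n⁻¹, hMn s (c.S_le_M hs)⟩ : c.M) ∈ SN from ⟨s, hs, rfl⟩)
    rw [← hm, Sylow.coe_subgroup_smul, hU] at h1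
    obtain ⟨y, hy, he⟩ := h1
    have he' : (m : G) * y * (m : G)⁻¹ = n * s * n⁻¹ := congrArg Subtype.val he
    rw [show (m : G)⁻¹ * n * s * ((m : G)⁻¹ * n)⁻¹ = (m : G)⁻¹ * (n * s * n⁻¹) * m by group, ← he',
      show (m : G)⁻¹ * ((m : G) * y * (m : G)⁻¹) * m = y by group]
    exact hy
  have hz := c.conj_z_of_norm_S hmn
  obtain ⟨i, hi⟩ := c.fin_cases_zpow c.z_cube hz
  have hxm : x = (m : G) * c.z ^ (i : ℕ) * (m : G)⁻¹ := by rw [hxn, ← hi]; group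
  fin_cases i
  · exfalso
    have h1 : x = 1 := by rw [hxm]; simp
    rw [hx] at h1
    exact c.z_ne (by simpa using h1)
  · exact ⟨m, m.2, Or.inl (by simpa using hxm)⟩
  · refine ⟨m, m.2, Or.inr ?_⟩
    rw [hxm, show c.z⁻¹ = c.z ^ 2 by
      exact inv_eq_of_mul_eq_one_right (by rw [← pow_succ', c.z_cube])]

/-- Elements of the normaliser of `J` permute the points. -/
theorem IsPt.conj_N {x n : G} (hn : n ∈ Subgroup.normalizer (c.J : Set G)) (h : c.IsPt x) :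
    c.IsPt (n * x * n⁻¹) := by
  obtain ⟨m, hm, hx⟩ := h
  have hz : c.IsPt ((n * m) * c.z * (n * m)⁻¹) :=
    c.isPt_of_conj (conj_mem_of_norm (mul_mem hn (c.M_le hm)) c.z_mem_J)
  rcases hx with rfl | rfl
  · rwa [conj_conj] at hz
  · have := hz.inv c
    rwa [show ((n * m) * c.z * (n * m)⁻¹)⁻¹ = n * (m * c.z⁻¹ * m⁻¹) * n⁻¹ by group] at this

/-- The image of `S` in `A₆`. -/
noncomputable def P : Subgroup (alternatingGroup (Fin 6)) := (c.S.subgroupOf c.M).map c.ψ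

theorem mem_P_iff {m : c.M} : c.ψ m ∈ c.P ↔ (m : G) ∈ c.S := by
  refine ⟨fun ⟨s, hs, he⟩ => ?_, fun h => ⟨m, h, rfl⟩⟩
  have h1 : ((s⁻¹ * m : c.M) : G) ∈ c.J := (c.ψ_ker _).1 (by rw [map_mul, map_inv, he, inv_mul_cancel])
  have := mul_mem (show (s : G) ∈ c.S from hs) (c.J_le_S h1)
  rwa [show (s : G) * ((s⁻¹ * m : c.M) : G) = m by push_cast; group] at this

theorem card_P : Nat.card c.P = 9 := by
  let f : c.S.subgroupOf c.M →* c.P := (c.ψ.comp (c.S.subgroupOf c.M).subtype).codRestrict _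
    fun s => ⟨s, s.2, rfl⟩
  have h := Subgroup.card_eq_card_quotient_mul_card_subgroup f.ker
  have hsurj : Function.Surjective f := fun ⟨y, s, hs, he⟩ => ⟨⟨s, hs⟩, Subtype.ext he⟩
  have hk : Nat.card f.ker = 81 := by
    rw [← c.card_J]
    refine Nat.card_congr
      { toFun := fun x => ⟨((x : c.S.subgroupOf c.M) : c.M).1,
          (c.ψ_ker _).1 (congrArg Subtype.val x.2)⟩
        invFun := fun y => ⟨⟨⟨y.1, c.J_le_M y.2⟩, c.J_le_S y.2⟩, Subtype.ext ((c.ψ_ker _).2 y.2)⟩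
        left_inv := fun _ => rfl
        right_inv := fun _ => rfl }
  rw [Nat.card_congr (QuotientGroup.quotientKerEquivOfSurjective f hsurj).toEquiv, hk,
    Nat.card_congr (Subgroup.subgroupOfEquivOfLe c.S_le_M).toEquiv, c.card_S] at h
  omega

theorem norm_P_iff {m : c.M} :
    c.ψ m ∈ Subgroup.normalizer (c.P : Set (alternatingGroup (Fin 6))) ↔
      (m : G) ∈ Subgroup.normalizer (c.S : Set G) := by
  constructor
  · intro h
    refine mem_norm_of_conj fun s hs => ?_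
    have h1 := conj_mem_of_norm h ((c.mem_P_iff (m := ⟨s, c.S_le_M hs⟩)).2 hs)
    rw [← map_inv, ← map_mul, ← map_mul, c.mem_P_iff] at h1
    exact h1
  · intro h
    refine mem_norm_of_conj fun y hy => ?_
    obtain ⟨s, hs, rfl⟩ := hy
    rw [← map_inv, ← map_mul, ← map_mul, c.mem_P_iff]
    exact conj_mem_of_norm h hs

theorem fix_iff {m : c.M} :
    (m : G) * c.z * (m : G)⁻¹ ∈ Subgroup.zpowers c.z ↔
      c.ψ m ∈ Subgroup.normalizer (c.P : Set (alternatingGroup (Fin 6))) :=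
  ⟨fun h => c.norm_P_iff.2 (c.norm_S_of_conj_z (c.M_le m.2) h),
    fun h => c.conj_z_of_norm_S (c.norm_P_iff.1 h)⟩

/-- The Sylow subgroup acts regularly modulo `J` on the other points. -/
theorem free {s x : G} (hs : s ∈ c.S) (hx : c.IsPt x) (hxz : x ∉ Subgroup.zpowers c.z)
    (hfix : s * x * s⁻¹ ∈ Subgroup.zpowers x) : s ∈ c.J := by
  obtain ⟨m, hm, hx⟩ := hx
  have hzz : Subgroup.zpowers x = Subgroup.zpowers (m * c.z * m⁻¹) := by
    rcases hx with rfl | rfl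
    · rfl
    · rw [show m * c.z⁻¹ * m⁻¹ = (m * c.z * m⁻¹)⁻¹ by group, Subgroup.zpowers_inv]
  have hxm : m * c.z * m⁻¹ ∈ Subgroup.zpowers x := hzz ▸ Subgroup.mem_zpowers _
  have hout : c.ψ ⟨m, hm⟩ ∉ Subgroup.normalizer (c.P : Set (alternatingGroup (Fin 6))) := fun h =>
    hxz ((Subgroup.zpowers_le.2 (c.fix_iff.2 h)) (hzz ▸ Subgroup.mem_zpowers x))
  have hsm : s * (m * c.z * m⁻¹) * s⁻¹ ∈ Subgroup.zpowers (m * c.z * m⁻¹) := by
    obtain ⟨k, hk⟩ := hxm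
    rw [← hzz]
    show s * (m * c.z * m⁻¹) * s⁻¹ ∈ _
    rw [← hk, ← conj_zpow]
    exact zpow_mem hfix k
  obtain ⟨k, hk⟩ := hsm
  have hfix' : (m⁻¹ * s * m) * c.z * (m⁻¹ * s * m)⁻¹ ∈ Subgroup.zpowers c.z := by
    refine ⟨k, ?_⟩
    show c.z ^ k = _
    have hk' : m * c.z ^ k * m⁻¹ = s * (m * c.z * m⁻¹) * s⁻¹ := by rw [← conj_zpow]; exact hk
    calc c.z ^ k = m⁻¹ * (m * c.z ^ k * m⁻¹) * m := by group
      _ = m⁻¹ * (s * (m * c.z * m⁻¹) * s⁻¹) * m := by rw [hk']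
      _ = _ := by group
  obtain ⟨a, ha⟩ : ∃ a, a = c.ψ ⟨m, hm⟩ := ⟨_, rfl⟩
  obtain ⟨b, hb⟩ : ∃ b, b = c.ψ ⟨s, c.S_le_M hs⟩ := ⟨_, rfl⟩
  rw [← ha] at hout
  have hbP : b ∈ c.P := hb ▸ c.mem_P_iff.2 hs
  have hconjP : a⁻¹ * b * a ∈ Subgroup.normalizer (c.P : Set (alternatingGroup (Fin 6))) := by
    have := (c.fix_iff (m := ⟨m, hm⟩⁻¹ * ⟨s, c.S_le_M hs⟩ * ⟨m, hm⟩)).1 (by push_cast; exact hfix')
    rwa [map_mul, map_mul, map_inv, ← ha, ← hb] at this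
  have hb3 : b ^ 3 = 1 := by
    rw [hb, ← map_pow]
    exact (c.ψ_ker _).2 (by rw [SubgroupClass.coe_pow]; exact c.S_cube hs)
  have hyP : a⁻¹ * b * a ∈ c.P := by
    have h4 := six_four c.card_P hconjP
    rwa [show a⁻¹ * b * a * (a⁻¹ * b * a) * (a⁻¹ * b * a * (a⁻¹ * b * a)) = a⁻¹ * b * a by
      calc _ = a⁻¹ * (b ^ 3 * b) * a := by simp only [pow_succ, pow_zero, one_mul]; group
        _ = _ := by rw [hb3, one_mul]] at h4
  by_contra hsJ
  have hb1 : b ≠ 1 := fun h => hsJ ((c.ψ_ker _).1 (hb ▸ h))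
  let C := Subgroup.centralizer ({b} : Set (alternatingGroup (Fin 6)))
  have hCp : IsPGroup 3 C := fun y => ⟨1, Subtype.ext (by
    rw [pow_one, SubgroupClass.coe_pow, OneMemClass.coe_one]
    exact six_comm hb3 hb1 (Subgroup.mem_centralizer_singleton_iff.1 y.2))⟩
  have hC9 : Nat.card C ≤ 9 := by
    haveI : Fact (Nat.Prime 3) := ⟨Nat.prime_three⟩
    obtain ⟨Q, hQ⟩ := hCp.exists_le_sylow
    exact (Subgroup.card_le_of_le hQ).trans (card_sylow Q).le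
  have hab : ∀ A : Subgroup (alternatingGroup (Fin 6)), Nat.card A = 9 → b ∈ A → A = C := by
    intro A hA hbA
    haveI : Fact (Nat.Prime 3) := ⟨Nat.prime_three⟩
    have hcomm : IsMulCommutative A := IsPGroup.isMulCommutative_of_card_eq_prime_sq (p := 3) (by rw [hA]; norm_num)
    refine Subgroup.eq_of_le_of_card_ge (fun y hy => Subgroup.mem_centralizer_singleton_iff.2
      (congrArg Subtype.val (hcomm.is_comm.comm ⟨y, hy⟩ ⟨b, hbA⟩))) ?_
    rw [hA]; exact hC9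
  have h1 := hab c.P c.card_P hbP
  have h2 := hab (c.P.map (MulAut.conj a).toMonoidHom)
    (by rw [Subgroup.card_map_of_injective (MulAut.conj a).injective, c.card_P])
    ⟨_, hyP, by simp [mul_assoc]⟩
  refine hout (mem_norm_of_conj fun y hy => ?_)
  rw [h1, ← h2]
  exact ⟨y, hy, rfl⟩

/-- The other points form one orbit of the Sylow subgroup. -/
theorem orbit {x y : G} (hx : c.IsPt x) (hxz : x ∉ Subgroup.zpowers c.z) (hy : c.IsPt y)
    (hyz : y ∉ Subgroup.zpowers c.z) :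
    ∃ s ∈ c.S, y = s * x * s⁻¹ ∨ y = s * x⁻¹ * s⁻¹ := by
  obtain ⟨a, ha, hx⟩ := hx
  obtain ⟨b, hb, hy⟩ := hy
  have hout : ∀ (m : G) (hm : m ∈ c.M) (u : G), u ∉ Subgroup.zpowers c.z →
      (u = m * c.z * m⁻¹ ∨ u = m * c.z⁻¹ * m⁻¹) →
      c.ψ ⟨m, hm⟩ ∉ Subgroup.normalizer (c.P : Set (alternatingGroup (Fin 6))) := by
    intro m hm u hu hum h
    have h' : m * c.z * m⁻¹ ∈ Subgroup.zpowers c.z := c.fix_iff.2 h
    rcases hum with rfl | rfl
    · exact hu h'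
    · exact hu (by rw [show m * c.z⁻¹ * m⁻¹ = (m * c.z * m⁻¹)⁻¹ by group]; exact inv_mem h')
  obtain ⟨v, hv, hvn⟩ := (six_double c.card_P).2 _ _ (hout a ha x hxz hx) (hout b hb y hyz hy)
  obtain ⟨s, hs, rfl⟩ := hv
  rw [← map_inv, ← map_mul, ← map_mul] at hvn
  have hfix := c.fix_iff.2 hvn
  obtain ⟨i, hi⟩ := c.fin_cases_zpow c.z_cube hfix
  push_cast at hi
  refine ⟨(s : G)⁻¹, inv_mem hs, ?_⟩
  have hz2 : c.z ^ 2 = c.z⁻¹ := (inv_eq_of_mul_eq_one_right (by rw [← pow_succ', c.z_cube])).symm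
  have hb' : b * c.z * b⁻¹ = (s : G)⁻¹ * (a * c.z ^ (i : ℕ) * a⁻¹) * (s : G)⁻¹⁻¹ := by
    rw [← hi]; group
  have key : b * c.z * b⁻¹ = (s : G)⁻¹ * x * (s : G)⁻¹⁻¹ ∨ b * c.z * b⁻¹ = (s : G)⁻¹ * x⁻¹ * (s : G)⁻¹⁻¹ := by
    fin_cases i
    · exfalso
      exact c.z_ne (by simpa using hb')
    · rcases hx with rfl | rfl
      · exact Or.inl (by simpa using hb')
      · exact Or.inr (by rw [show (a * c.z⁻¹ * a⁻¹)⁻¹ = a * c.z * a⁻¹ by group]; simpa using hb')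
    · have hb2 : b * c.z * b⁻¹ = (s : G)⁻¹ * (a * c.z⁻¹ * a⁻¹) * (s : G)⁻¹⁻¹ := by
        rw [hb', ← hz2]
      rcases hx with rfl | rfl
      · exact Or.inr (by rw [show (a * c.z * a⁻¹)⁻¹ = a * c.z⁻¹ * a⁻¹ by group]; exact hb2)
      · exact Or.inl hb2
  rcases hy with rfl | rfl
  · exact key
  · rw [show b * c.z⁻¹ * b⁻¹ = (b * c.z * b⁻¹)⁻¹ by group]
    rcases key with h | h <;> rw [h]
    · exact Or.inr (by group)
    · exact Or.inl (by group)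

theorem exists_other : ∃ x, c.IsPt x ∧ x ∉ Subgroup.zpowers c.z := by
  obtain ⟨a, ha⟩ := (six_double c.card_P).1
  obtain ⟨m, rfl⟩ := c.ψ_surj a
  exact ⟨_, ⟨m, m.2, Or.inl rfl⟩, fun h => ha (c.fix_iff.1 h)⟩

/-- The other points lie outside `Q`. -/
theorem other_not_Q {x : G} (hx : c.IsPt x) (hxz : x ∉ Subgroup.zpowers c.z) : x ∉ c.Q := by
  intro hxQ
  let U : Subgroup G := Subgroup.closure {y | c.IsPt y}
  have hUH : U ≤ c.J ⊓ c.Q := by
    refine (Subgroup.closure_le _).2 fun y hy => ⟨IsPt.mem_J c hy, ?_⟩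
    show y ∈ c.Q
    by_cases hyz : y ∈ Subgroup.zpowers c.z
    · exact Subgroup.zpowers_le.2 c.z_mem_Q hyz
    · obtain ⟨s, hs, rfl | rfl⟩ := c.orbit hx hxz hy hyz
      · exact conj_mem_of_norm (c.L_norm_Q (c.S_le_L hs)) hxQ
      · exact conj_mem_of_norm (c.L_norm_Q (c.S_le_L hs)) (inv_mem hxQ)
  have hzU : c.z ∈ U := Subgroup.subset_closure c.isPt_z
  obtain ⟨k, hk, hUk⟩ := card_dvd_three hUH (k := 3) (by rw [c.card_H]; norm_num)
  have hUn : ∀ m ∈ c.M, ∀ y ∈ U, m * y * m⁻¹ ∈ U := by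
    intro m hm y hy
    have hle : U ≤ U.comap (MulAut.conj m).toMonoidHom :=
      (Subgroup.closure_le _).2 fun v hv => Subgroup.subset_closure (IsPt.conj_M c hm hv)
    exact hle hy
  obtain ⟨e, he5, he1⟩ : ∃ e : alternatingGroup (Fin 6), e ^ 5 = 1 ∧ e ≠ 1 := by
    obtain ⟨g, h5, hne⟩ := six_five (x := ea) (Subtype.ext (by decide +kernel))
      (fun h => absurd (congrArg Subtype.val h) (by decide +kernel))
    exact ⟨_, h5, hne⟩
  obtain ⟨n, rfl⟩ := c.ψ_surj e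
  obtain ⟨d, hd⟩ : ∃ d : G, d = (n : G) ^ 81 := ⟨_, rfl⟩
  have hn5 : (n : G) ^ 5 ∈ c.J := (c.ψ_ker (n ^ 5)).1 (by rw [map_pow]; exact he5)
  have hd5 : d ^ 5 = 1 := by
    rw [hd, ← pow_mul, mul_comm, pow_mul, ← orderOf_dvd_iff_pow_eq_one, ← c.card_J]
    exact c.J.orderOf_dvd_natCard hn5
  have hdM : d ∈ c.M := hd ▸ pow_mem n.2 _
  -- `d` centralises `U`
  have hm := five_fix hd5 (hUn d hdM)
  obtain ⟨i, hi, hic⟩ := card_dvd_three (inf_le_left : U ⊓ Subgroup.centralizer {d} ≤ U) hUk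
  rw [hic, hUk] at hm
  have hik : i = k := by interval_cases k <;> interval_cases i <;> first | rfl | (simp_all [Nat.ModEq])
  have hdz : d * c.z = c.z * d := by
    have he := Subgroup.eq_of_le_of_card_ge (inf_le_left : U ⊓ Subgroup.centralizer {d} ≤ U)
      (by rw [hic, hUk, hik])
    exact (Subgroup.mem_centralizer_singleton_iff.1 (he.symm ▸ hzU : c.z ∈ U ⊓ _).2).symm
  -- so it centralises `J`
  have hm' := five_fix hd5 (fun x hx => conj_mem_of_norm (c.M_le hdM) hx)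
  obtain ⟨l, hl, hlc⟩ := card_dvd_three (inf_le_left : c.J ⊓ Subgroup.centralizer {d} ≤ c.J) (k := 4)
    (by rw [c.card_J]; norm_num)
  rw [hlc, c.card_J] at hm'
  have hl1 : l ≠ 0 := by
    rintro rfl
    have := Subgroup.card_le_of_le (K := c.J ⊓ Subgroup.centralizer {d})
      (show Subgroup.zpowers c.z ≤ _ from Subgroup.zpowers_le.2
        ⟨c.z_mem_J, Subgroup.mem_centralizer_singleton_iff.2 hdz.symm⟩)
    rw [hlc, c.card_Z] at this
    norm_num at this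
  have hl4 : l = 4 := by interval_cases l <;> first | rfl | (simp_all [Nat.ModEq])
  have he := Subgroup.eq_of_le_of_card_ge (inf_le_left : c.J ⊓ Subgroup.centralizer {d} ≤ c.J)
    (by rw [hlc, c.card_J, hl4]; norm_num)
  have hdJ : d ∈ c.J := c.M_faithful hdM fun y hy =>
    (Subgroup.mem_centralizer_singleton_iff.1 (he.symm ▸ hy : y ∈ c.J ⊓ _).2).symm
  have h81 : c.ψ (n ^ 81) = 1 := (c.ψ_ker _).2 (by rw [SubgroupClass.coe_pow, ← hd]; exact hdJ)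
  rw [map_pow, show 81 = 5 * 16 + 1 by norm_num, pow_add, pow_mul, he5, one_pow, one_mul,
    pow_one] at h81
  exact he1 h81

/-- A point fixed by `t` other than `z` exists; it lies in `⟨z, w⟩`. -/
theorem exists_fixed : ∃ i k : Fin 3, k ≠ 0 ∧ c.IsPt (c.z ^ (i : ℕ) * c.w ^ (k : ℕ)) := by
  obtain ⟨x0, hx0, hx0z⟩ := c.exists_other
  have htz : ∀ u ∈ Subgroup.zpowers c.z, c.t * u * c.t = u := fun u hu => by
    rw [c.z_pow_comm c.t_mem hu, mul_assoc, c.t_sq, mul_one]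
  have ht1 : c.IsPt (c.t * x0 * c.t) := by
    have h := IsPt.conj_N c c.t_norm_J hx0
    rwa [c.t_inv] at h
  have ht1z : c.t * x0 * c.t ∉ Subgroup.zpowers c.z := fun h => hx0z (by
    have e : x0 = c.t * (c.t * x0 * c.t) * c.t := by
      rw [show c.t * (c.t * x0 * c.t) * c.t = c.t * c.t * x0 * (c.t * c.t) by group, c.t_sq, one_mul,
        mul_one]
    rw [e, htz _ h]
    exact h)
  obtain ⟨s, hs, hsx⟩ := c.orbit hx0 hx0z ht1 ht1z
  obtain ⟨r, hr, hrr⟩ : ∃ r ∈ c.S, r = s * s := ⟨_, mul_mem hs hs, rfl⟩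
  obtain ⟨e, he, hex⟩ : ∃ e, (e = x0 ∨ e = x0⁻¹) ∧ c.t * x0 * c.t = s * e * s⁻¹ := by
    rcases hsx with h | h
    · exact ⟨_, Or.inl rfl, h⟩
    · exact ⟨_, Or.inr rfl, h⟩
  obtain ⟨h, hh, hhe⟩ : ∃ h ∈ c.J, c.t * r * c.t = r⁻¹ * h :=
    ⟨r * (c.t * r * c.t), c.t_invert_S hr, by group⟩
  have hs4 : r⁻¹ * s = r * (s ^ 3)⁻¹ := by rw [hrr]; group
  have htx : c.t * (r * x0 * r⁻¹) * c.t = r * e * r⁻¹ := by
    have heJ : e ∈ c.J := by
      rcases he with rfl | rfl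
      · exact hx0.mem_J c
      · exact inv_mem (hx0.mem_J c)
    have hs' : s * e * s⁻¹ ∈ c.J := conj_mem_of_norm (c.S_norm_J hs) heJ
    have hti : c.t * r⁻¹ * c.t = (c.t * r * c.t)⁻¹ := by
      rw [mul_inv_rev, mul_inv_rev, c.t_inv]; group
    rw [c.t_conj_mul, c.t_conj_mul, hti, hex, hhe,
      show r⁻¹ * h * (s * e * s⁻¹) * (r⁻¹ * h)⁻¹ = r⁻¹ * (h * (s * e * s⁻¹) * h⁻¹) * r by group,
      conj_of_comm (c.J_comm h hh _ hs'), show r⁻¹ * (s * e * s⁻¹) * r = r⁻¹ * s * e * (r⁻¹ * s)⁻¹ by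
        group, hs4,
      show r * (s ^ 3)⁻¹ * e * (r * (s ^ 3)⁻¹)⁻¹ = r * ((s ^ 3)⁻¹ * e * (s ^ 3)⁻¹⁻¹) * r⁻¹ by group,
      conj_of_comm (c.J_comm _ (inv_mem (c.S_cube hs)) e heJ)]
  obtain ⟨x, hx⟩ : ∃ x, x = r * x0 * r⁻¹ := ⟨_, rfl⟩
  have hxpt : c.IsPt x := hx ▸ IsPt.conj_M c (c.S_le_M hr) hx0
  have hrz : ∀ u ∈ Subgroup.zpowers c.z, r⁻¹ * u * r = u := fun u hu => by
    rw [c.z_pow_comm (inv_mem (c.S_le_L hr)) hu]; group
  have hxz : x ∉ Subgroup.zpowers c.z := fun h => hx0z (by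
    rw [show x0 = r⁻¹ * x * r by rw [hx]; group, hrz _ h]; exact h)
  have hxJ := hxpt.mem_J c
  have hxQ := c.other_not_Q hxpt hxz
  obtain ⟨q, hq, k, hk⟩ := c.S_decomp (c.J_le_S hxJ)
  have hk0 : k ≠ 0 := fun h => hxQ (by rw [hk, h]; simpa using hq)
  rcases he with rfl | rfl
  · rw [← hx] at htx
    have hcom : c.t * x = x * c.t := by
      calc c.t * x = c.t * x * (c.t * c.t) := by rw [c.t_sq, mul_one]
        _ = c.t * x * c.t * c.t := by group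
        _ = _ := by rw [htx]
    obtain ⟨i, l, hil⟩ := c.mem_L_cent_S (c.J_le_S hxJ) hcom
    refine ⟨i, l, fun h => hxz ?_, hil ▸ hxpt⟩
    rw [hil, h]
    simpa using pow_mem (Subgroup.mem_zpowers c.z) _
  · exfalso
    rw [← hx, show r * x0⁻¹ * r⁻¹ = x⁻¹ by rw [hx]; group, hk, c.t_conj_mul,
      show c.t * c.w ^ (k : ℕ) * c.t = c.w ^ (k : ℕ) by
        rw [((show Commute c.t c.w from c.t_w).pow_right _).eq, mul_assoc, c.t_sq, mul_one]] at htx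
    have hqJ : q ∈ c.J := (Subgroup.mul_mem_cancel_right _ (pow_mem c.w_mem_J _)).1 (hk ▸ hxJ)
    have hw2 : c.w ^ (k : ℕ) * c.w ^ (k : ℕ) = (c.t * q * c.t)⁻¹ * q⁻¹ := by
      calc c.w ^ (k : ℕ) * c.w ^ (k : ℕ) = c.w ^ (k : ℕ) * (c.t * q * c.t)⁻¹ *
            (c.t * q * c.t * c.w ^ (k : ℕ)) := by group
        _ = (c.w ^ (k : ℕ) * (c.t * q * c.t)⁻¹ * (c.w ^ (k : ℕ))⁻¹) * q⁻¹ := by rw [htx]; group
        _ = _ := by
          rw [conj_of_comm (c.J_comm _ (pow_mem c.w_mem_J _) _ (inv_mem (c.t_conj_J hqJ)))]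
    have hwQ : c.w ^ (k : ℕ) * c.w ^ (k : ℕ) ∈ c.Q := hw2 ▸ mul_mem (inv_mem (by
      have h := conj_mem_of_norm c.t_norm_Q hq
      rwa [c.t_inv] at h)) (inv_mem hq)
    have key : ∀ k : Fin 3, c.w ^ (k : ℕ) * c.w ^ (k : ℕ) = c.w ^ ((k + k : Fin 3) : ℕ) := fun k => by
      rw [← pow_add, Fin.val_add]
      exact pow_eq_pow_mod _ c.w_cube
    rw [key] at hwQ
    have h0 := c.w_pow_Q hwQ
    have key' : ∀ a : Fin 3, a ≠ 0 → a + a ≠ 0 := by decide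
    exact key' k hk0 h0

/-- A point in `⟨z, w⟩` outside `⟨z⟩` lies in `⟨w⟩`. -/
theorem grid_pt {i k : Fin 3} (hk : k ≠ 0) (hpt : c.IsPt (c.z ^ (i : ℕ) * c.w ^ (k : ℕ))) :
    i = 0 := by
  have hw2 : c.w⁻¹ = c.w ^ 2 := inv_eq_of_mul_eq_one_right (by rw [← pow_succ', c.w_cube])
  obtain ⟨x, hx⟩ : ∃ x, x = c.z ^ (i : ℕ) * c.w ^ (k : ℕ) := ⟨_, rfl⟩
  rw [← hx] at hpt
  by_contra hi
  have hy := IsPt.conj_N c c.j_norm_J hpt
  have hye : c.j * x * c.j⁻¹ = c.z ^ (i : ℕ) * c.w ^ ((-k : Fin 3) : ℕ) := by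
    have hwk : c.j * c.w ^ (k : ℕ) * c.j⁻¹ = c.w ^ ((-k : Fin 3) : ℕ) := by
      rw [← conj_pow, c.j_w, hw2, ← pow_mul]
      fin_cases k
      · rfl
      · rfl
      · show c.w ^ 4 = c.w ^ 1
        rw [pow_succ, c.w_cube, one_mul, pow_one]
    rw [hx, show c.j * (c.z ^ (i : ℕ) * c.w ^ (k : ℕ)) * c.j⁻¹ = c.j * c.z ^ (i : ℕ) * c.j⁻¹ *
      (c.j * c.w ^ (k : ℕ) * c.j⁻¹) by group,
      conj_of_comm ((show Commute c.j c.z from c.j_z).pow_right _).eq, hwk]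
  rw [hye] at hy
  have hxz : ∀ l : Fin 3, l ≠ 0 → c.z ^ (i : ℕ) * c.w ^ (l : ℕ) ∉ Subgroup.zpowers c.z := by
    intro l hl h
    obtain ⟨a, ha⟩ := c.fin_cases_zpow c.z_cube h
    have ha' : c.z ^ (i : ℕ) * c.w ^ (l : ℕ) = c.z ^ (a : ℕ) * c.w ^ ((0 : Fin 3) : ℕ) := by
      rw [ha]; simp
    exact hl (c.grid_inj ha').2
  have hnk : -k ≠ 0 := by simpa using hk
  obtain ⟨s, hs, hsy⟩ := c.orbit hpt (hx ▸ hxz k hk) hy (hxz _ hnk)
  obtain ⟨e, he, hse⟩ : ∃ e, (e = x ∨ e = x⁻¹) ∧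
      c.z ^ (i : ℕ) * c.w ^ ((-k : Fin 3) : ℕ) = s * e * s⁻¹ := by
    rcases hsy with h | h
    · exact ⟨_, Or.inl rfl, h⟩
    · exact ⟨_, Or.inr rfl, h⟩
  have htfix : ∀ a b : ℕ, c.t * (c.z ^ a * c.w ^ b) = c.z ^ a * c.w ^ b * c.t := fun a b =>
    (((show Commute c.t c.z from c.t_z).pow_right a).mul_right
      ((show Commute c.t c.w from c.t_w).pow_right b)).eq
  have heJ : e ∈ c.J := by
    rcases he with rfl | rfl
    · exact hpt.mem_J c
    · exact inv_mem (hpt.mem_J c)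
  have het : c.t * e * c.t⁻¹ = e := by
    rcases he with rfl | rfl
    · rw [hx]; exact conj_of_comm (htfix _ _)
    · rw [hx]
      exact conj_of_comm (Commute.inv_right (show Commute c.t _ from htfix _ _)).eq
  have hts : c.t * s * c.t⁻¹ * e * (c.t * s * c.t⁻¹)⁻¹ = s * e * s⁻¹ := by
    calc _ = c.t * (s * (c.t⁻¹ * e * c.t⁻¹⁻¹) * s⁻¹) * c.t⁻¹ := by group
      _ = c.t * (s * e * s⁻¹) * c.t⁻¹ := by
        rw [show c.t⁻¹ * e * c.t⁻¹⁻¹ = e by
          calc c.t⁻¹ * e * c.t⁻¹⁻¹ = c.t⁻¹ * (c.t * e * c.t⁻¹) * c.t := by rw [het]; group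
            _ = e := by group]
      _ = _ := by rw [← hse]; exact conj_of_comm (htfix _ _)
  obtain ⟨h, hh, hhe⟩ : ∃ h ∈ c.J, c.t * s * c.t⁻¹ = s⁻¹ * h :=
    ⟨s * (c.t * s * c.t), c.t_invert_S hs, by rw [c.t_inv]; group⟩
  rw [hhe, show s⁻¹ * h * e * (s⁻¹ * h)⁻¹ = s⁻¹ * (h * e * h⁻¹) * s by group,
    conj_of_comm (c.J_comm h hh e heJ)] at hts
  have hss : (s * s) * e * (s * s)⁻¹ = e := by
    calc _ = s * (s * e * s⁻¹) * s⁻¹ := by group
      _ = s * (s⁻¹ * e * s) * s⁻¹ := by rw [hts]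
      _ = e := by group
  have hxnz : x ∉ Subgroup.zpowers c.z := hx ▸ hxz k hk
  have hsJ : s * s ∈ c.J := c.free (mul_mem hs hs) hpt hxnz (by
    rcases he with rfl | rfl
    · rw [hss]; exact Subgroup.mem_zpowers _
    · have h4 : (s * s * x * (s * s)⁻¹)⁻¹ = x⁻¹ := by
        simp only [mul_inv_rev, inv_inv] at hss ⊢
        simpa only [mul_assoc] using hss
      rw [inv_injective h4]
      exact Subgroup.mem_zpowers _)
  have hsJ' : s ∈ c.J := by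
    have h3 := c.S_cube hs
    rw [show s = (s * s)⁻¹ * s ^ 3 by group]
    exact mul_mem (inv_mem hsJ) h3
  rw [conj_of_comm (c.J_comm s hsJ' e heJ)] at hse
  rcases he with rfl | rfl
  · rw [hx] at hse
    have key : ∀ a : Fin 3, a ≠ 0 → -a ≠ a := by decide
    exact key k hk (c.grid_inj hse).2
  · rw [hx] at hse
    have hinv : (c.z ^ (i : ℕ) * c.w ^ (k : ℕ))⁻¹ = c.z ^ ((-i : Fin 3) : ℕ) * c.w ^ ((-k : Fin 3) : ℕ) := by
      refine inv_eq_of_mul_eq_one_right ?_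
      have hc : Commute (c.w ^ (k : ℕ)) (c.z ^ ((-i : Fin 3) : ℕ)) :=
        (show Commute c.w c.z from c.w_z).pow_pow _ _
      rw [mul_assoc, ← mul_assoc (c.w ^ (k : ℕ)), hc.eq, ← mul_assoc, ← mul_assoc, ← pow_add,
        mul_assoc, ← pow_add]
      have e1 : ∀ a : Fin 3, ((a : ℕ) + ((-a : Fin 3) : ℕ)) % 3 = 0 := by decide
      rw [pow_eq_pow_mod _ c.z_cube, e1, pow_eq_pow_mod _ c.w_cube, e1]
      simp
    rw [hinv] at hse
    have key : ∀ a : Fin 3, a = -a → a = 0 := by decide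
    exact hi (key i (c.grid_inj hse).1)

/-- `⟨w⟩` is a point. -/
theorem isPt_w : c.IsPt c.w := by
  obtain ⟨i, k, hk, hpt⟩ := c.exists_fixed
  rw [c.grid_pt hk hpt] at hpt
  fin_cases k
  · exact absurd rfl hk
  · simpa using hpt
  · have h := hpt.inv c
    rwa [show (c.z ^ ((0 : Fin 3) : ℕ) * c.w ^ ((⟨2, by omega⟩ : Fin 3) : ℕ))⁻¹ = c.w by
      show (c.z ^ 0 * c.w ^ 2)⁻¹ = c.w
      rw [pow_zero, one_mul]
      exact inv_eq_of_mul_eq_one_right (by rw [← pow_succ, c.w_cube])] at h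

/-- The points in `⟨z, w⟩` lie in `⟨z⟩` or in `⟨w⟩`. -/
theorem grid_pt' {i k : Fin 3} (hpt : c.IsPt (c.z ^ (i : ℕ) * c.w ^ (k : ℕ))) : i = 0 ∨ k = 0 :=
  (em (k = 0)).elim Or.inr fun hk => Or.inl (c.grid_pt hk hpt)

end Setup

end CfsgLib.McLThreeLocal
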