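import Cfsg.Agent.Perm.RegularLinearIndexTwo

/-!
# Concrete facts on `SL(2,5)`

A fixed element of order three, a fixed element of order four inverting it, and the elements
commuting with it, as used in the `3`-local recognition of the McLaughlin group.
-/

set_option autoImplicit false
set_option maxRecDepth 100000

namespace CfsgLib.McLThreeLocal

open CfsgLib.Perm.RegularLinear (SLFive)

/-- The element of order three. -/
def x0 : SLFive := ⟨!![0, 4; 1, 4], by decide +kernel⟩

/-- The element of order four inverting it. -/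
def j0 : SLFive := ⟨!![0, 2; 2, 0], by decide +kernel⟩

/-- The central involution. -/
def ee : SLFive := -1

theorem x0_facts : x0 * x0 * x0 = 1 ∧ x0 ≠ 1 := by decide +kernel

theorem j0_facts : j0 * j0 = ee ∧ j0 * x0 * j0⁻¹ = x0⁻¹ ∧ ee ≠ 1 ∧ ee * ee = 1 := by
  decide +kernel

theorem ee_central : ∀ x : SLFive, ee * x = x * ee := by decide +kernel

theorem invol_eq : ∀ x : SLFive, x * x = 1 → x ≠ 1 → x = ee := by decide +kernel

theorem centralizer_x0 : ∀ x : SLFive, x * x0 = x0 * x →
    ∃ (i : Fin 3) (k : Fin 2), x = x0 ^ (i : ℕ) * ee ^ (k : ℕ) := by decide +kernel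

theorem conj_x0 : ∀ x : SLFive, x ^ 3 = 1 → x ≠ 1 →
    ∃ g : SLFive, g * x0 * g⁻¹ = x := by decide +kernel

theorem center_le : ∀ x : SLFive, x * x0 = x0 * x → x * j0 = j0 * x → x = 1 ∨ x = ee := by
  decide +kernel

theorem exists_five : ∃ c : SLFive, c * c * c * c * c = 1 ∧ c ≠ 1 :=
  ⟨(⟨!![1, 1; 0, 1], by decide +kernel⟩ : SLFive), by decide +kernel,
    fun h => absurd (congrArg (fun t : SLFive => t.1 0 1) h) (by decide +kernel)⟩

theorem perfect : commutator SLFive = ⊤ := CfsgLib.Perm.RegularLinear.commutator_slFive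

end CfsgLib.McLThreeLocal
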