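import Cfsg.Agent.McLThreeLocal.Tools
import Cfsg.Agent.McLThreeLocal.AltSix
import Cfsg.Agent.McLThreeLocal.SlFive

/-!
# The `3`-local data of McLaughlin type, and the subgroup `J`

The working form of the hypotheses of the `3`-local characterisations of the McLaughlin group, and
the first consequences: `J` is the only elementary abelian subgroup of order 81 in a Sylow
`3`-subgroup and is self-centralising.
-/

set_option autoImplicit false
set_option linter.style.haveILetI false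
set_option linter.unusedSectionVars false

namespace CfsgLib.McLThreeLocal

open CfsgLib.Perm.RegularLinear (SLFive)

/-- The hypotheses. -/
structure Setup (G : Type*) [Group G] where
  z : G
  S : Subgroup G
  Q : Subgroup G
  J : Subgroup G
  L : Subgroup G
  M : Subgroup G
  z_cube : z ^ 3 = 1
  z_ne : z ≠ 1
  card_S : Nat.card S = 729
  not_dvd : ¬ 3 ^ 7 ∣ Nat.card G
  S_comm : ∀ s ∈ S, s * z = z * s
  S_center : ∀ a ∈ S, (∀ s ∈ S, a * s = s * a) → a ∈ Subgroup.zpowers z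
  Q_le : Q ≤ L
  card_Q : Nat.card Q = 243
  Q_exp : ∀ x ∈ Q, x ^ 3 = 1
  z_mem_Q : z ∈ Q
  Q_comm : ∀ x ∈ Q, ∀ y ∈ Q, x * y * x⁻¹ * y⁻¹ ∈ Subgroup.zpowers z
  Q_center : ∀ x ∈ Q, (∀ y ∈ Q, x * y = y * x) → x ∈ Subgroup.zpowers z
  Q_norm : ∀ g : G, g * z * g⁻¹ ∈ Subgroup.zpowers z → g ∈ Subgroup.normalizer (Q : Set G)
  Q_cent : ∀ g : G, (∀ x ∈ Q, g * x = x * g) → g ∈ Subgroup.zpowers z
  L_comm : ∀ l ∈ L, l * z = z * l
  L_norm : ∀ g : G, g * z * g⁻¹ ∈ Subgroup.zpowers z → g ∈ Subgroup.normalizer (L : Set G)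
  L_three : ∀ g : G, g * z = z * g → g ^ 729 = 1 → g ∈ L
  p : L →* SLFive
  p_surj : Function.Surjective p
  p_ker : ∀ l : L, p l = 1 ↔ (l : G) ∈ Q
  p_S : ∀ l : L, (l : G) ∈ S → ∃ i : Fin 3, p l = x0 ^ (i : ℕ)
  J_comm : ∀ a ∈ J, ∀ b ∈ J, a * b = b * a
  J_exp : ∀ a ∈ J, a ^ 3 = 1
  card_J : Nat.card J = 81
  J_le_S : J ≤ S
  J_le_M : J ≤ M
  ψ : M →* alternatingGroup (Fin 6)
  ψ_surj : Function.Surjective ψ
  ψ_ker : ∀ m : M, ψ m = 1 ↔ (m : G) ∈ J
  M_le : M ≤ Subgroup.normalizer (J : Set G)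
  M_norm : Subgroup.normalizer (J : Set G) ≤ Subgroup.normalizer (M : Set G)
  M_three : ∀ g ∈ Subgroup.normalizer (J : Set G), g ^ 729 = 1 → g ∈ M

variable {G : Type*} [Group G]

theorem card_relIndex' {H K : Subgroup G} (h : H ≤ K) :
    Nat.card H * H.relIndex K = Nat.card K := by
  rw [← Subgroup.relIndex_bot_left H, Subgroup.relIndex_mul_relIndex _ _ _ bot_le h,
    Subgroup.relIndex_bot_left]

theorem card_inf_mul_le [Finite G] {A B T : Subgroup G} (hA : A ≤ T) (hB : B ≤ T) :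
    Nat.card A * Nat.card B ≤ Nat.card (A ⊓ B : Subgroup G) * Nat.card T := by
  have h1 := card_relIndex' hA
  have h2 := card_relIndex' hB
  have h3 := card_relIndex' (inf_le_left.trans hA : A ⊓ B ≤ T)
  have h4 := Subgroup.relIndex_inf_le (H := A) (K := B) (L := T)
  refine Nat.le_of_mul_le_mul_left (?_ : Nat.card T * (Nat.card A * Nat.card B) ≤
    Nat.card T * (Nat.card (A ⊓ B : Subgroup G) * Nat.card T)) (Nat.card_pos (α := T))
  calc Nat.card T * (Nat.card A * Nat.card B)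
      = Nat.card (A ⊓ B : Subgroup G) * (A ⊓ B).relIndex T * (Nat.card A * Nat.card B) := by rw [h3]
    _ ≤ Nat.card (A ⊓ B : Subgroup G) * (A.relIndex T * B.relIndex T) *
        (Nat.card A * Nat.card B) := Nat.mul_le_mul_right _ (Nat.mul_le_mul_left _ h4)
    _ = Nat.card (A ⊓ B : Subgroup G) * ((Nat.card A * A.relIndex T) *
        (Nat.card B * B.relIndex T)) := by ring
    _ = _ := by rw [h1, h2]; ring

namespace Setup

variable [Finite G] (c : Setup G)
include c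

theorem z_order : orderOf c.z = 3 := orderOf_eq_prime c.z_cube c.z_ne

theorem card_Z : Nat.card (Subgroup.zpowers c.z) = 3 := by rw [Nat.card_zpowers, c.z_order]

theorem S_pow {g : G} {T : Subgroup G} (hT : Nat.card T ∣ 729) (hg : g ∈ T) : g ^ 729 = 1 := by
  rw [← orderOf_dvd_iff_pow_eq_one]
  exact (T.orderOf_dvd_natCard hg).trans hT

/-- Every `3`-subgroup normalising `J` lies in `M`. -/
theorem le_M {T : Subgroup G} (hT : Nat.card T ∣ 729)
    (hn : T ≤ Subgroup.normalizer (c.J : Set G)) : T ≤ c.M :=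
  fun g hg => c.M_three g (hn hg) (c.S_pow hT hg)

theorem card_M : Nat.card c.M = 29160 := by
  have h := Subgroup.card_eq_card_quotient_mul_card_subgroup c.ψ.ker
  rw [Nat.card_congr (QuotientGroup.quotientKerEquivOfSurjective c.ψ c.ψ_surj).toEquiv,
    card_alt_six, show c.ψ.ker = c.J.subgroupOf c.M from Subgroup.ext fun m => by
      rw [MonoidHom.mem_ker, c.ψ_ker, Subgroup.mem_subgroupOf],
    Nat.card_congr (Subgroup.subgroupOfEquivOfLe c.J_le_M).toEquiv, c.card_J] at h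
  omega

/-- A Sylow subgroup inside `M`. -/
theorem exists_sylow_M : ∃ T : Subgroup G, T ≤ c.M ∧ c.J ≤ T ∧ Nat.card T = 729 := by
  haveI : Fact (Nat.Prime 3) := ⟨Nat.prime_three⟩
  have hd : 3 ^ 6 ∣ Nat.card c.M := by rw [c.card_M]; norm_num
  have hJ : Nat.card (c.J.subgroupOf c.M) = 3 ^ 4 := by
    rw [Nat.card_congr (Subgroup.subgroupOfEquivOfLe c.J_le_M).toEquiv, c.card_J]; norm_num
  obtain ⟨T, hT, hJT⟩ := Sylow.exists_subgroup_card_pow_prime_le 3 hd _ hJ (by norm_num)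
  refine ⟨T.map c.M.subtype, Subgroup.map_subtype_le _, fun x hx => ?_, ?_⟩
  · exact ⟨⟨x, c.J_le_M hx⟩, hJT hx, rfl⟩
  · rw [Subgroup.card_map_of_injective c.M.subtype_injective, hT]; norm_num

/-- Conjugate of a subgroup of order 729. -/
theorem exists_conj_729 {T T' : Subgroup G} (hT : Nat.card T = 729) (hT' : Nat.card T' = 729) :
    ∃ g : G, ∀ x, x ∈ T ↔ g * x * g⁻¹ ∈ T' := by
  haveI : Fact (Nat.Prime 3) := ⟨Nat.prime_three⟩
  have h : ∀ U : Subgroup G, Nat.card U = 729 → ∃ P : Sylow 3 G, (P : Subgroup G) = U := by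
    intro U hU
    refine ⟨(IsPGroup.of_card (n := 6) (by rw [hU]; norm_num)).toSylow ?_, rfl⟩
    intro hd
    refine c.not_dvd ?_
    rw [← U.card_mul_index, hU, show (3 : ℕ) ^ 7 = 729 * 3 by norm_num]
    exact Nat.mul_dvd_mul_left _ hd
  obtain ⟨P, rfl⟩ := h T hT
  obtain ⟨P', rfl⟩ := h T' hT'
  obtain ⟨g, hg⟩ := MulAction.exists_smul_eq G P P'
  refine ⟨g, fun x => ?_⟩
  rw [← hg, Sylow.coe_subgroup_smul, Subgroup.mem_pointwise_smul_iff_inv_smul_mem]
  simp [MulAut.smul_def, mul_assoc]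

/-- `M` fixes no nontrivial element of `J`. -/
theorem not_fixed {x : G} (hx : x ∈ c.J) (h : ∀ m ∈ c.M, m * x = x * m) : x = 1 := by
  obtain ⟨T, hTM, hJT, hT⟩ := c.exists_sylow_M
  obtain ⟨g, hg⟩ := c.exists_conj_729 hT c.card_S
  have hzc : ∀ s ∈ c.S, g * x * g⁻¹ * s = s * (g * x * g⁻¹) := fun s hs => by
    have h' := h (g⁻¹ * s * g) (hTM ((hg _).2 (by simpa [mul_assoc] using hs)))
    calc g * x * g⁻¹ * s = g * (x * (g⁻¹ * s * g)) * g⁻¹ := by group
      _ = g * (g⁻¹ * s * g * x) * g⁻¹ := by rw [h']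
      _ = _ := by group
  have hmem := c.S_center _ ((hg x).1 (hJT hx)) hzc
  by_contra hx1
  -- then `M` centralises the centre of a Sylow subgroup, so lies in a conjugate of `L`
  have hgen : Subgroup.zpowers (g * x * g⁻¹) = Subgroup.zpowers c.z := by
    refine Subgroup.eq_of_le_of_card_ge (Subgroup.zpowers_le.2 hmem) ?_
    rw [c.card_Z, Nat.card_zpowers, orderOf_eq_prime (p := 3) (by rw [conj_pow, c.J_exp x hx]; group)
      (fun e => hx1 (by simpa using e))]
  obtain ⟨k, hk⟩ : c.z ∈ Subgroup.zpowers (g * x * g⁻¹) := hgen ▸ Subgroup.mem_zpowers _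
  have hMz : ∀ m ∈ c.M, g * m * g⁻¹ * c.z = c.z * (g * m * g⁻¹) := fun m hm => by
    rw [← hk]
    refine (Commute.zpow_right ?_ k).eq
    show g * m * g⁻¹ * (g * x * g⁻¹) = g * x * g⁻¹ * (g * m * g⁻¹)
    calc g * m * g⁻¹ * (g * x * g⁻¹) = g * (m * x) * g⁻¹ := by group
      _ = g * (x * m) * g⁻¹ := by rw [h m hm]
      _ = _ := by group
  -- every element of `g M g⁻¹` normalises both `Q` and `g J g⁻¹`; hence `Q ∩ J^g` is normal
  let Mg : Subgroup G := c.M.map (MulAut.conj g).toMonoidHom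
  let Jg : Subgroup G := c.J.map (MulAut.conj g).toMonoidHom
  have hJgS : Jg ≤ c.S := by rintro _ ⟨a, ha, rfl⟩; exact (hg a).1 (hJT ha)
  have hMgQ : ∀ m ∈ Mg, m ∈ Subgroup.normalizer (c.Q : Set G) := by
    rintro _ ⟨m, hm, rfl⟩
    refine c.Q_norm _ ?_
    show g * m * g⁻¹ * c.z * (g * m * g⁻¹)⁻¹ ∈ _
    rw [hMz m hm, mul_inv_cancel_right]
    exact Subgroup.mem_zpowers _
  have hQS : ∀ q ∈ c.Q, q ∈ c.S := fun q hq => by
    haveI : Fact (Nat.Prime 3) := ⟨Nat.prime_three⟩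
    have hp : IsPGroup 3 (c.S ⊔ c.Q : Subgroup G) :=
      IsPGroup.to_sup_of_normal_right' (IsPGroup.of_card (n := 6) (by rw [c.card_S]; norm_num))
        (IsPGroup.of_card (n := 5) (by rw [c.card_Q]; norm_num)) fun s hs =>
          c.Q_norm s (by rw [c.S_comm s hs, mul_inv_cancel_right]; exact Subgroup.mem_zpowers _)
    obtain ⟨n, hn⟩ := IsPGroup.iff_card.1 hp
    have hle : n ≤ 6 := by
      by_contra h7
      exact c.not_dvd (((pow_dvd_pow 3 (show 7 ≤ n by omega)).trans hn.symm.dvd).trans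
        (Subgroup.card_subgroup_dvd_card _))
    have he : c.S = c.S ⊔ c.Q := Subgroup.eq_of_le_of_card_ge le_sup_left (by
      rw [hn, c.card_S]; exact (Nat.pow_le_pow_right (by norm_num) hle).trans (by norm_num))
    rw [he]
    exact Subgroup.mem_sup_right hq
  -- the preimage in `M` of `Q ∩ gMg⁻¹` is a normal `3`-subgroup, so lies in `J`
  let N : Subgroup c.M := (c.Q.comap ((MulAut.conj g).toMonoidHom.comp c.M.subtype))
  haveI hN : N.Normal := ⟨fun n hn m => by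
    show g * (m.1 * n.1 * m.1⁻¹) * g⁻¹ ∈ c.Q
    have := conj_mem_of_norm (hMgQ (g * m.1 * g⁻¹) ⟨m.1, m.2, rfl⟩) (show g * n.1 * g⁻¹ ∈ c.Q from hn)
    rwa [show g * m.1 * g⁻¹ * (g * n.1 * g⁻¹) * (g * m.1 * g⁻¹)⁻¹ =
      g * (m.1 * n.1 * m.1⁻¹) * g⁻¹ by group] at this⟩
  have hNJ : N.map c.ψ = ⊥ := by
    have hmapN := Subgroup.Normal.map hN c.ψ c.ψ_surj
    haveI : IsSimpleGroup (alternatingGroup (Fin 6)) :=
      alternatingGroup.isSimpleGroup (by simp)
    rcases IsSimpleGroup.eq_bot_or_eq_top_of_normal (N.map c.ψ) hmapN with h' | h'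
    · exact h'
    · exfalso
      have hd := (Subgroup.card_map_dvd (H := N) c.ψ).trans (Subgroup.card_comap_dvd_of_injective
        (f := (MulAut.conj g).toMonoidHom.comp c.M.subtype) c.Q
        ((MulAut.conj g).injective.comp c.M.subtype_injective))
      rw [h', Subgroup.card_top, card_alt_six, c.card_Q] at hd
      norm_num at hd
  have hNle : ∀ m : G, m ∈ c.M → g * m * g⁻¹ ∈ c.Q → m ∈ c.J := fun m hm hq =>
    (c.ψ_ker ⟨m, hm⟩).1 (by
      have : c.ψ ⟨m, hm⟩ ∈ N.map c.ψ := ⟨⟨m, hm⟩, hq, rfl⟩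
      rwa [hNJ, Subgroup.mem_bot] at this)
  have hSM : ∀ q ∈ c.Q, g⁻¹ * q * g ∈ c.M := fun q hq => hTM ((hg _).2 (by
    simpa [mul_assoc] using hQS q hq))
  have hQJ : c.Q ≤ Jg := fun q hq =>
    ⟨g⁻¹ * q * g, hNle _ (hSM q hq) (by simpa [mul_assoc] using hq), by simp [mul_assoc]⟩
  have h81 := Subgroup.card_le_of_le hQJ
  rw [c.card_Q, show Nat.card Jg = 81 by
    rw [Subgroup.card_map_of_injective (MulAut.conj g).injective, c.card_J]] at h81
  omega

/-- Elements of `M` centralising `J` lie in `J`. -/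
theorem M_faithful {m : G} (hm : m ∈ c.M) (h : ∀ x ∈ c.J, m * x = x * m) : m ∈ c.J := by
  let K : Subgroup c.M := (Subgroup.centralizer (c.J : Set G)).subgroupOf c.M
  have hmem : ∀ k : c.M, k ∈ K ↔ ∀ x ∈ c.J, (k : G) * x = x * k := fun k => by
    rw [Subgroup.mem_subgroupOf, Subgroup.mem_centralizer_iff]
    exact ⟨fun h x hx => (h x hx).symm, fun h x hx => (h x hx).symm⟩
  haveI hK : K.Normal := ⟨fun k hk n => (hmem _).2 fun x hx => by
    have hx' : (n : G)⁻¹ * x * n ∈ c.J := by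
      simpa using conj_mem_of_norm (inv_mem (c.M_le n.2)) hx
    have := (hmem k).1 hk _ hx'
    calc ((n * k * n⁻¹ : c.M) : G) * x = (n : G) * ((k : G) * ((n : G)⁻¹ * x * n)) * (n : G)⁻¹ := by
          push_cast; group
      _ = (n : G) * (((n : G)⁻¹ * x * n) * k) * (n : G)⁻¹ := by rw [this]
      _ = _ := by push_cast; group⟩
  have hmapN := Subgroup.Normal.map hK c.ψ c.ψ_surj
  haveI : IsSimpleGroup (alternatingGroup (Fin 6)) := alternatingGroup.isSimpleGroup (by simp)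
  rcases IsSimpleGroup.eq_bot_or_eq_top_of_normal (K.map c.ψ) hmapN with h' | h'
  · refine (c.ψ_ker ⟨m, hm⟩).1 ?_
    have : c.ψ ⟨m, hm⟩ ∈ K.map c.ψ := ⟨⟨m, hm⟩, (hmem _).2 h, rfl⟩
    rwa [h', Subgroup.mem_bot] at this
  · exfalso
    have hall : ∀ n : c.M, n ∈ K := fun n => by
      obtain ⟨k, hk, he⟩ : c.ψ n ∈ K.map c.ψ := h' ▸ Subgroup.mem_top _
      have hJ : ((k⁻¹ * n : c.M) : G) ∈ c.J := (c.ψ_ker _).1 (by rw [map_mul, map_inv, he, inv_mul_cancel])
      have := mul_mem hk ((hmem (k⁻¹ * n)).2 fun x hx => c.J_comm _ hJ x hx)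
      rwa [mul_inv_cancel_left] at this
    obtain ⟨⟨y, hy⟩, hy1⟩ := @exists_ne c.J
      (Finite.one_lt_card_iff_nontrivial.1 (by rw [c.card_J]; norm_num)) 1
    exact hy1 (Subtype.ext (c.not_fixed hy fun n hn => (hmem ⟨n, hn⟩).1 (hall _) y hy))

/-- An element of order five of `M` fixes no subgroup of order nine of `J`. -/
theorem five_free {m : c.M} (h5 : c.ψ m ^ 5 = 1) (h1 : c.ψ m ≠ 1) {W : Subgroup G} (hW : W ≤ c.J)
    (h9 : 9 ∣ Nat.card W) : ¬ ∀ x ∈ W, (m : G) * x = x * m := by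
  intro hfix
  have hm5 : ((m : G) ^ 5) ∈ c.J := (c.ψ_ker (m ^ 5)).1 (by rw [map_pow, h5])
  obtain ⟨d, hd⟩ : ∃ d : G, d = (m : G) ^ 81 := ⟨_, rfl⟩
  have hd5 : d ^ 5 = 1 := by
    rw [hd, ← pow_mul, mul_comm, pow_mul, ← orderOf_dvd_iff_pow_eq_one, ← c.card_J]
    exact c.J.orderOf_dvd_natCard hm5
  have hdM : d ∈ c.M := hd ▸ pow_mem m.2 _
  have hall := five_fix_all (k := 4) (by norm_num) c.card_J hd5
    (fun x hx => conj_mem_of_norm (c.M_le hdM) hx) hW
    (fun x hx => hd ▸ ((show Commute (m : G) x from hfix x hx).pow_left 81).eq) (Or.inr h9)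
  have hdJ : d ∈ c.J := c.M_faithful hdM hall
  have : c.ψ (m ^ 81) = 1 := (c.ψ_ker _).2 (by rw [SubgroupClass.coe_pow, ← hd]; exact hdJ)
  rw [map_pow, show 81 = 5 * 16 + 1 by norm_num, pow_add, pow_mul, h5, one_pow, one_mul,
    pow_one] at this
  exact h1 this

/-- `J` is the only elementary abelian subgroup of order 81 of a `3`-subgroup of `M`. -/
theorem eq_J_of_le_M {A T : Subgroup G} (hTc : Nat.card T = 729) (hTM : T ≤ c.M) (hJT : c.J ≤ T)
    (hAT : A ≤ T) (hA : Nat.card A = 81) (hAc : ∀ a ∈ A, ∀ b ∈ A, a * b = b * a)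
    (hAe : ∀ a ∈ A, a ^ 3 = 1) : A = c.J := by
  by_contra hne
  obtain ⟨a, haA, haJ⟩ : ∃ a ∈ A, a ∉ c.J := by
    by_contra h
    push Not at h
    exact hne (Subgroup.eq_of_le_of_card_ge h (by rw [hA, c.card_J]))
  have hψ3 : c.ψ ⟨a, hTM (hAT haA)⟩ ^ 3 = 1 := by
    rw [← map_pow]
    exact (c.ψ_ker _).2 (by rw [SubgroupClass.coe_pow, hAe a haA]; exact one_mem _)
  have hψ1 : c.ψ ⟨a, hTM (hAT haA)⟩ ≠ 1 := fun h => haJ ((c.ψ_ker _).1 h)
  have hle := card_inf_mul_le hAT hJT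
  rw [hA, c.card_J, hTc] at hle
  obtain ⟨i, hi, hic⟩ := card_dvd_three (inf_le_right : A ⊓ c.J ≤ c.J) (k := 4) (by rw [c.card_J]; norm_num)
  rw [hic] at hle
  have hi2 : 2 ≤ i := by
    by_contra h
    have := Nat.pow_le_pow_right (show 1 ≤ 3 by norm_num) (show i ≤ 1 by omega)
    omega
  rcases Nat.lt_or_ge i 3 with h3 | h3
  · -- then `A J = T`, so the intersection is central in `T`
    obtain rfl : i = 2 := by omega
    have hsup : A ⊔ c.J = T := by
      refine Subgroup.eq_of_le_of_card_ge (sup_le hAT hJT) ?_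
      obtain ⟨j, hj, hjc⟩ := card_dvd_three (sup_le hAT hJT) (k := 6) (by rw [hTc]; norm_num)
      have h2 := card_inf_mul_le (le_sup_left : A ≤ A ⊔ c.J) le_sup_right
      rw [hA, c.card_J, hic, hjc] at h2
      rw [hjc, hTc]
      by_contra h6
      have := Nat.pow_le_pow_right (show 1 ≤ 3 by norm_num)
        (show j ≤ 5 by
          by_contra h5
          exact h6 (le_trans (by norm_num) (Nat.pow_le_pow_right (by norm_num) (show 6 ≤ j by omega))))
      omega
    obtain ⟨g, hg⟩ := c.exists_conj_729 hTc c.card_S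
    have hle' : (A ⊓ c.J).map (MulAut.conj g).toMonoidHom ≤ Subgroup.zpowers c.z := by
      rintro _ ⟨x, hx, rfl⟩
      refine c.S_center _ ((hg x).1 (hJT hx.2)) fun s hs => ?_
      have hs' : g⁻¹ * s * g ∈ T := (hg _).2 (by simpa [mul_assoc] using hs)
      have hc : T ≤ Subgroup.centralizer {x} := by
        rw [← hsup]
        exact sup_le (fun y hy => Subgroup.mem_centralizer_singleton_iff.2 (hAc y hy x hx.1))
          (fun y hy => Subgroup.mem_centralizer_singleton_iff.2 (c.J_comm y hy x hx.2))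
      have h' := Subgroup.mem_centralizer_singleton_iff.1 (hc hs')
      show g * x * g⁻¹ * s = s * (g * x * g⁻¹)
      calc g * x * g⁻¹ * s = g * (x * (g⁻¹ * s * g)) * g⁻¹ := by group
        _ = g * (g⁻¹ * s * g * x) * g⁻¹ := by rw [h']
        _ = _ := by group
    have := Subgroup.card_le_of_le hle'
    rw [Subgroup.card_map_of_injective (MulAut.conj g).injective, hic, c.card_Z] at this
    omega
  · obtain ⟨u, h5, hu1⟩ := six_five hψ3 hψ1
    obtain ⟨k, rfl⟩ := c.ψ_surj u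
    rw [← map_inv, ← map_mul, ← map_mul, ← map_mul] at h5 hu1
    have hk : k.1 ∈ Subgroup.normalizer (c.J : Set G) := c.M_le k.2
    set W := (A ⊓ c.J) ⊓ (A ⊓ c.J).map (MulAut.conj k.1).toMonoidHom with hW
    have hWle : (A ⊓ c.J).map (MulAut.conj k.1).toMonoidHom ≤ c.J := by
      rintro _ ⟨x, hx, rfl⟩; exact conj_mem_of_norm hk hx.2
    have hW9 : 9 ∣ Nat.card W := by
      have h2 := card_inf_mul_le (inf_le_right : A ⊓ c.J ≤ c.J) hWle
      rw [← hW, Subgroup.card_map_of_injective (MulAut.conj k.1).injective, hic, c.card_J] at h2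
      obtain ⟨j, hj, hjc⟩ := card_dvd_three (inf_le_left.trans inf_le_right : W ≤ c.J) (k := 4)
        (by rw [c.card_J]; norm_num)
      rw [hjc] at h2 ⊢
      have h27 : 27 ≤ 3 ^ i := le_trans (by norm_num) (Nat.pow_le_pow_right (by norm_num) h3)
      have hj2 : 2 ≤ j := by
        by_contra h
        have := Nat.pow_le_pow_right (show 1 ≤ 3 by norm_num) (show j ≤ 1 by omega)
        nlinarith
      exact (pow_dvd_pow 3 hj2)
    refine c.five_free h5 hu1 (inf_le_left.trans inf_le_right) hW9 fun x hx => ?_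
    obtain ⟨y, hy, he⟩ := hx.2
    have ha : a * x = x * a := hAc a haA x hx.1.1
    have hy' : a * y = y * a := hAc a haA y hy.1
    change k.1 * y * k.1⁻¹ = x at he
    have hb : k.1 * a * k.1⁻¹ * x = x * (k.1 * a * k.1⁻¹) := by
      rw [← he, show k.1 * a * k.1⁻¹ * (k.1 * y * k.1⁻¹) = k.1 * (a * y) * k.1⁻¹ by group, hy']
      group
    show a * (k.1 * a * k.1⁻¹) * x = x * (a * (k.1 * a * k.1⁻¹))
    rw [mul_assoc, hb, ← mul_assoc, ha, mul_assoc]

/-- A Sylow subgroup containing `J` has no other elementary abelian subgroup of order 81. -/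
theorem eq_J {A T : Subgroup G} (hTc : Nat.card T = 729) (hJT : c.J ≤ T) (hAT : A ≤ T)
    (hA : Nat.card A = 81) (hAc : ∀ a ∈ A, ∀ b ∈ A, a * b = b * a) (hAe : ∀ a ∈ A, a ^ 3 = 1) :
    A = c.J := by
  obtain ⟨T₀, hT₀M, hJT₀, hT₀⟩ := c.exists_sylow_M
  obtain ⟨g, hg⟩ := c.exists_conj_729 hTc hT₀
  have key : ∀ B : Subgroup G, B ≤ T → Nat.card B = 81 → (∀ a ∈ B, ∀ b ∈ B, a * b = b * a) →
      (∀ a ∈ B, a ^ 3 = 1) → B.map (MulAut.conj g).toMonoidHom = c.J := by
    intro B hBT hB hBc hBe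
    refine c.eq_J_of_le_M hT₀ hT₀M hJT₀ ?_
      (by rw [Subgroup.card_map_of_injective (MulAut.conj g).injective, hB]) ?_ ?_
    · rintro _ ⟨b, hb, rfl⟩; exact (hg b).1 (hBT hb)
    · rintro _ ⟨a, ha, rfl⟩ _ ⟨b, hb, rfl⟩
      rw [← map_mul, ← map_mul, hBc a ha b hb]
    · rintro _ ⟨a, ha, rfl⟩
      rw [← map_pow, hBe a ha, map_one]
  exact Subgroup.map_injective (MulAut.conj g).injective
    ((key A hAT hA hAc hAe).trans (key c.J hJT c.card_J c.J_comm c.J_exp).symm)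

/-- A Sylow subgroup containing `J` normalises it, so lies in `M`. -/
theorem le_M_of_J_le {T : Subgroup G} (hTc : Nat.card T = 729) (hJT : c.J ≤ T) : T ≤ c.M := by
  refine c.le_M (dvd_of_eq hTc) fun g hg => mem_norm_of_conj fun x hx => ?_
  have h := c.eq_J hTc hJT (A := c.J.map (MulAut.conj g).toMonoidHom)
    (by rintro _ ⟨a, ha, rfl⟩; exact mul_mem (mul_mem hg (hJT ha)) (inv_mem hg))
    (by rw [Subgroup.card_map_of_injective (MulAut.conj g).injective, c.card_J])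
    (by rintro _ ⟨a, ha, rfl⟩ _ ⟨b, hb, rfl⟩; rw [← map_mul, ← map_mul, c.J_comm a ha b hb])
    (by rintro _ ⟨a, ha, rfl⟩; rw [← map_pow, c.J_exp a ha, map_one])
  rw [← h]
  exact ⟨x, hx, rfl⟩

end Setup

end CfsgLib.McLThreeLocal
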