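import Cfsg.Agent.McLThreeLocal.Setup
import Mathlib.GroupTheory.Transfer

/-!
# The involution `t` and the complement `SL(2,5)` inside its centraliser in `L`
-/

set_option autoImplicit false
set_option linter.style.haveILetI false
set_option linter.unusedSectionVars false

namespace CfsgLib.McLThreeLocal

open CfsgLib.Perm.RegularLinear (SLFive)

variable {G : Type*} [Group G]

/-- A central extension by a group of order three with elementary abelian Sylow subgroup splits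
over a perfect quotient. -/
theorem exists_section_of_central [Finite G] (H : Subgroup G) (f : H →* SLFive)
    (hf : Function.Surjective f) (z : H) (hz3 : z ^ 3 = 1) (hzc : ∀ h : H, z * h = h * z)
    (hker : ∀ h : H, f h = 1 ↔ h ∈ Subgroup.zpowers z) (R : Subgroup H)
    (hR : ∀ a ∈ R, ∀ b ∈ R, a * b = b * a) (_hzR : z ∈ R) (hidx : ¬ 3 ∣ R.index) :
    ∃ σ : SLFive →* G, Function.Injective σ ∧ ∀ x, ∃ h : H, (h : G) = σ x ∧ f h = x := by
  classical
  letI : CommGroup R := { (inferInstance : Group R) with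
    mul_comm := fun a b => Subtype.ext (hR a a.2 b b.2) }
  have hz : z ∈ Subgroup.center H := Subgroup.mem_center_iff.2 fun h => (hzc h).symm
  let τ : H →* R := MonoidHom.transfer (MonoidHom.id R)
  have hτ : ((τ z : R) : H) = z ^ R.index := by
    have h := MonoidHom.transfer_eq_pow (MonoidHom.id R) z fun k g _ => by
      have hk : z ^ k ∈ Subgroup.center H := pow_mem hz k
      rw [mul_assoc, ← Subgroup.mem_center_iff.1 hk g, inv_mul_cancel_left]
    exact congrArg Subtype.val h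
  have hC : ∀ h ∈ commutator H, h ∈ Subgroup.zpowers z → h = 1 := by
    intro h hh hhz
    obtain ⟨k, rfl⟩ := hhz
    have h1 : τ (z ^ k) = 1 := MonoidHom.mem_ker.1 (Abelianization.commutator_subset_ker τ hh)
    have h2 : (z ^ R.index) ^ k = 1 := by
      rw [← hτ, ← SubgroupClass.coe_zpow, ← map_zpow, h1]
      rfl
    have hco : (R.index).Coprime 3 :=
      ((Nat.Prime.coprime_iff_not_dvd Nat.prime_three).2 hidx).symm
    have h3 : (z ^ k) ^ 3 = 1 := by
      rw [← zpow_natCast, ← zpow_mul, mul_comm, zpow_mul, zpow_natCast, hz3, one_zpow]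
    have h4 : (z ^ k) ^ R.index = 1 := by
      rw [← zpow_natCast, ← zpow_mul, mul_comm, zpow_mul, zpow_natCast]
      exact h2
    have h5 := pow_gcd_eq_one.2 ⟨h4, h3⟩
    rwa [hco.gcd_eq_one, pow_one] at h5
  have hbij : Function.Bijective (f.comp (commutator H).subtype) := by
    constructor
    · rw [injective_iff_map_eq_one]
      exact fun h hh => Subtype.ext (hC h h.2 ((hker h).1 hh))
    · intro x
      have hx : x ∈ (commutator H).map f := by
        rw [commutator_def, Subgroup.map_commutator, Subgroup.map_top_of_surjective f hf,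
          ← commutator_def, perfect]
        exact Subgroup.mem_top x
      obtain ⟨h, hh, e⟩ := hx
      exact ⟨⟨h, hh⟩, e⟩
  let e := MulEquiv.ofBijective _ hbij
  refine ⟨(H.subtype.comp (commutator H).subtype).comp e.symm.toMonoidHom,
    (H.subtype_injective.comp (commutator H).subtype_injective).comp e.symm.injective,
    fun x => ⟨(e.symm x).1, rfl, ?_⟩⟩
  exact e.apply_symm_apply x

namespace Setup

variable [Finite G] (c : Setup G)
include c

theorem S_conj_z {s : G} (hs : s ∈ c.S) : s * c.z * s⁻¹ ∈ Subgroup.zpowers c.z := by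
  rw [c.S_comm s hs, mul_inv_cancel_right]
  exact Subgroup.mem_zpowers _

theorem z_comm_Q {x : G} (hx : x ∈ c.Q) : x * c.z = c.z * x := c.L_comm x (c.Q_le hx)

theorem Q_le_S : c.Q ≤ c.S := by
  haveI : Fact (Nat.Prime 3) := ⟨Nat.prime_three⟩
  have hp : IsPGroup 3 (c.S ⊔ c.Q : Subgroup G) :=
    IsPGroup.to_sup_of_normal_right' (IsPGroup.of_card (n := 6) (by rw [c.card_S]; norm_num))
      (IsPGroup.of_card (n := 5) (by rw [c.card_Q]; norm_num)) fun s hs => c.Q_norm s (c.S_conj_z hs)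
  obtain ⟨n, hn⟩ := IsPGroup.iff_card.1 hp
  have hle : n ≤ 6 := by
    by_contra h7
    exact c.not_dvd (((pow_dvd_pow 3 (show 7 ≤ n by omega)).trans hn.symm.dvd).trans
      (Subgroup.card_subgroup_dvd_card _))
  have he : c.S = c.S ⊔ c.Q := Subgroup.eq_of_le_of_card_ge le_sup_left (by
    rw [hn, c.card_S]; exact (Nat.pow_le_pow_right (by norm_num) hle).trans (by norm_num))
  rw [he]
  exact le_sup_right

theorem S_le_L : c.S ≤ c.L := fun s hs =>
  c.L_three s (c.S_comm s hs) (c.S_pow (dvd_of_eq c.card_S) hs)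

theorem S_le_M : c.S ≤ c.M := c.le_M_of_J_le c.card_S c.J_le_S

theorem S_norm_J {s : G} (hs : s ∈ c.S) : s ∈ Subgroup.normalizer (c.J : Set G) :=
  c.M_le (c.S_le_M hs)

theorem z_mem_J : c.z ∈ c.J :=
  c.M_faithful (c.S_le_M (c.Q_le_S c.z_mem_Q)) fun x hx => (c.S_comm x (c.J_le_S hx)).symm

theorem Z_le_J : Subgroup.zpowers c.z ≤ c.J := Subgroup.zpowers_le.2 c.z_mem_J

/-- No element of `M` outside `J` of order three modulo `J` fixes a hyperplane of `J`. -/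
theorem no_transvection {a : G} (haM : a ∈ c.M) (ha3 : a ^ 3 ∈ c.J) {W : Subgroup G} (hW : W ≤ c.J)
    (h27 : 27 ≤ Nat.card W) (hfix : ∀ x ∈ W, a * x = x * a) : a ∈ c.J := by
  by_contra haJ
  have hψ3 : c.ψ ⟨a, haM⟩ ^ 3 = 1 := by rw [← map_pow]; exact (c.ψ_ker _).2 ha3
  have hψ1 : c.ψ ⟨a, haM⟩ ≠ 1 := fun h => haJ ((c.ψ_ker _).1 h)
  obtain ⟨u, h5, hu1⟩ := six_five hψ3 hψ1
  obtain ⟨k, rfl⟩ := c.ψ_surj u
  rw [← map_inv, ← map_mul, ← map_mul, ← map_mul] at h5 hu1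
  have hWle : W.map (MulAut.conj k.1).toMonoidHom ≤ c.J := by
    rintro _ ⟨x, hx, rfl⟩; exact conj_mem_of_norm (c.M_le k.2) (hW hx)
  have h2 := card_inf_mul_le hW hWle
  rw [Subgroup.card_map_of_injective (MulAut.conj k.1).injective, c.card_J] at h2
  obtain ⟨j, hj, hjc⟩ := card_dvd_three (inf_le_left.trans hW :
    W ⊓ W.map (MulAut.conj k.1).toMonoidHom ≤ c.J) (k := 4) (by rw [c.card_J]; norm_num)
  rw [hjc] at h2
  have hj2 : 2 ≤ j := by
    by_contra h
    have := Nat.pow_le_pow_right (show 1 ≤ 3 by norm_num) (show j ≤ 1 by omega)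
    nlinarith
  refine c.five_free h5 hu1 (inf_le_left.trans hW) (hjc ▸ pow_dvd_pow 3 hj2) fun x hx => ?_
  obtain ⟨y, hy, he⟩ := hx.2
  change k.1 * y * k.1⁻¹ = x at he
  have hb : k.1 * a * k.1⁻¹ * x = x * (k.1 * a * k.1⁻¹) := by
    rw [← he, show k.1 * a * k.1⁻¹ * (k.1 * y * k.1⁻¹) = k.1 * (a * y) * k.1⁻¹ by group, hfix y hy]
    group
  show a * (k.1 * a * k.1⁻¹) * x = x * (a * (k.1 * a * k.1⁻¹))
  rw [mul_assoc, hb, ← mul_assoc, hfix x hx.1, mul_assoc]

theorem J_not_le_Q : ¬ c.J ≤ c.Q := by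
  intro h
  obtain ⟨a, ha, haJ⟩ : ∃ a ∈ c.Q, a ∉ c.J := by
    by_contra hh
    push Not at hh
    have := Subgroup.card_le_of_le (fun x hx => hh x hx : c.Q ≤ c.J)
    rw [c.card_Q, c.card_J] at this
    omega
  let W : Subgroup G := c.J ⊓ Subgroup.centralizer {a}
  have h27 : 27 ≤ Nat.card W := by
    let f : c.J → Subgroup.zpowers c.z := fun x => ⟨a * x * a⁻¹ * (x : G)⁻¹, c.Q_comm a ha x (h x.2)⟩
    by_contra hlt
    have hcard : Nat.card c.J ≤ Nat.card W * Nat.card (Subgroup.zpowers c.z) := by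
      rw [← Nat.card_prod]
      choose r hr using fun v : Set.range f => v.2
      refine Nat.card_le_card_of_injective (fun x => (⟨(x : G) * (r ⟨f x, x, rfl⟩ : G)⁻¹, ?_⟩, f x)) ?_
      · refine Subgroup.mem_inf.2 ⟨c.J.mul_mem x.2 (c.J.inv_mem (r ⟨f x, x, rfl⟩).2), Subgroup.mem_centralizer_singleton_iff.2 ?_⟩
        have he : a * (r ⟨f x, x, rfl⟩ : G) * a⁻¹ * (r ⟨f x, x, rfl⟩ : G)⁻¹ =
            a * (x : G) * a⁻¹ * (x : G)⁻¹ := congrArg Subtype.val (hr ⟨f x, x, rfl⟩)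
        set y : G := (r ⟨f x, x, rfl⟩ : G)
        obtain ⟨u, hu⟩ : ∃ u, a * y * a⁻¹ = u * y := ⟨a * y * a⁻¹ * y⁻¹, by group⟩
        have hu' : a * (x : G) * a⁻¹ = u * x := by
          rw [show a * y * a⁻¹ * y⁻¹ = u by rw [hu]; group] at he
          rw [he]; group
        have key : a * ((x : G) * y⁻¹) * a⁻¹ = x * y⁻¹ := by
          rw [show a * ((x : G) * y⁻¹) * a⁻¹ = a * (x : G) * a⁻¹ * (a * y * a⁻¹)⁻¹ by group, hu, hu']
          have huJ : u ∈ c.J := by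
            rw [show u = a * y * a⁻¹ * y⁻¹ by rw [hu]; group]
            exact c.J.mul_mem (conj_mem_of_norm (c.S_norm_J (c.Q_le_S ha)) (r _).2)
              (c.J.inv_mem (r _).2)
          rw [show u * (x : G) * (u * y)⁻¹ = u * ((x : G) * y⁻¹) * u⁻¹ by group]
          exact conj_of_comm (c.J_comm u huJ _ (c.J.mul_mem x.2 (c.J.inv_mem (r _).2)))
        exact (comm_of_conj key).symm
      · intro x x' hxx
        simp only [Prod.mk.injEq] at hxx
        obtain ⟨h1, h2⟩ := hxx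
        have e : (⟨f x, x, rfl⟩ : Set.range f) = ⟨f x', x', rfl⟩ := Subtype.ext h2
        have h1' := congrArg Subtype.val h1
        have hr' : ((r ⟨f x, x, rfl⟩ : c.J) : G) = r ⟨f x', x', rfl⟩ :=
          congrArg (fun v => ((r v : c.J) : G)) e
        simp only [hr'] at h1'
        exact Subtype.ext (mul_right_cancel h1')
    rw [c.card_J, c.card_Z] at hcard
    omega
  exact haJ (c.no_transvection (c.S_le_M (c.Q_le_S ha)) (by rw [c.Q_exp a ha]; exact one_mem _)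
    inf_le_left h27 fun x hx => (Subgroup.mem_centralizer_singleton_iff.1 hx.2).symm)

theorem card_H : Nat.card (c.J ⊓ c.Q : Subgroup G) = 27 := by
  obtain ⟨i, hi, hic⟩ := card_dvd_three (inf_le_left : c.J ⊓ c.Q ≤ c.J) (k := 4) (by rw [c.card_J]; norm_num)
  have h := card_inf_mul_le c.J_le_S c.Q_le_S
  rw [hic, c.card_J, c.card_Q, c.card_S] at h
  have h4 : i ≠ 4 := fun h4 => c.J_not_le_Q (by
    have he := Subgroup.eq_of_le_of_card_ge (inf_le_left : c.J ⊓ c.Q ≤ c.J) (by rw [hic, c.card_J, h4]; norm_num)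
    exact he ▸ inf_le_right)
  rw [hic]
  interval_cases i <;> omega

theorem cent_H {q : G} (hq : q ∈ c.Q) (h : ∀ x ∈ c.J, x ∈ c.Q → q * x = x * q) : q ∈ c.J := by
  refine c.no_transvection (c.S_le_M (c.Q_le_S hq)) (by rw [c.Q_exp q hq]; exact one_mem _)
    (inf_le_left : c.J ⊓ c.Q ≤ c.J) c.card_H.ge fun x hx => h x hx.1 hx.2

/-- `J` is self-centralising. -/
theorem cent_J {g : G} (hg : ∀ x ∈ c.J, g * x = x * g) : g ∈ c.J := by
  have hgz : g * c.z = c.z * g := hg _ c.z_mem_J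
  have hgN : g ∈ Subgroup.normalizer (c.J : Set G) :=
    mem_norm_of_conj fun x hx => by rwa [conj_of_comm (hg x hx)]
  obtain ⟨a, m, hm, ha⟩ := Nat.exists_eq_pow_mul_and_not_dvd (Nat.pos_iff_ne_zero.1 (orderOf_pos g)) 3 (by norm_num)
  have hrm : (g ^ 3 ^ a) ^ m = 1 := by rw [← pow_mul, ← ha, pow_orderOf_eq_one]
  have hco : m.Coprime 3 := ((Nat.Prime.coprime_iff_not_dvd Nat.prime_three).2 hm).symm
  obtain ⟨r, hr⟩ : ∃ r, r = g ^ 3 ^ a := ⟨_, rfl⟩
  rw [← hr] at hrm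
  have hrc : ∀ x ∈ c.J, r * x = x * r := fun x hx => by
    rw [hr]; exact ((show Commute g x from hg x hx).pow_left _).eq
  have hrQ : r ∈ Subgroup.normalizer (c.Q : Set G) := c.Q_norm r (by
    rw [conj_of_comm (hrc _ c.z_mem_J)]
    exact Subgroup.mem_zpowers _)
  have hrfix : ∀ q ∈ c.Q, r * q = q * r := by
    intro q hq
    obtain ⟨d, hd⟩ : ∃ d, d = q⁻¹ * (r * q * r⁻¹) := ⟨_, rfl⟩
    have hdQ : d ∈ c.Q := hd ▸ mul_mem (inv_mem hq) (conj_mem_of_norm hrQ hq)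
    have hdJ : d ∈ c.J := by
      refine c.cent_H hdQ fun x hx hxQ => ?_
      obtain ⟨u, hu, hqx⟩ : ∃ u ∈ Subgroup.zpowers c.z, q * x * q⁻¹ = u * x :=
        ⟨_, c.Q_comm q hq x hxQ, by group⟩
      have huc : r * u = u * r := hrc u (c.Z_le_J hu)
      have h1 : r * q * r⁻¹ * x * (r * q * r⁻¹)⁻¹ = u * x := by
        calc r * q * r⁻¹ * x * (r * q * r⁻¹)⁻¹ = r * q * (r⁻¹ * (x * r)) * q⁻¹ * r⁻¹ := by group
          _ = r * (q * x * q⁻¹) * r⁻¹ := by rw [← hrc x hx]; group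
          _ = r * u * x * r⁻¹ := by rw [hqx]; group
          _ = u * (r * x) * r⁻¹ := by rw [huc]; group
          _ = _ := by rw [hrc x hx]; group
      have h2 : d * x * d⁻¹ = x := by
        rw [hd, show q⁻¹ * (r * q * r⁻¹) * x * (q⁻¹ * (r * q * r⁻¹))⁻¹ =
          q⁻¹ * (r * q * r⁻¹ * x * (r * q * r⁻¹)⁻¹) * q by group, h1, ← hqx]
        group
      exact comm_of_conj h2
    exact comm_of_conj (fix_of_shift (by rw [hd]; group) (conj_of_comm (hrc d hdJ)) hrm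
      (c.J_exp d hdJ) hco)
  have hr1 : r = 1 := by
    have h3 : r ^ 3 = 1 := c.J_exp r (c.Z_le_J (c.Q_cent r hrfix))
    have := pow_gcd_eq_one.2 ⟨hrm, h3⟩
    rwa [hco.gcd_eq_one, pow_one] at this
  have hg729 : g ^ 729 = 1 := by
    have hd : orderOf g ∣ 3 ^ a := orderOf_dvd_of_pow_eq_one (hr ▸ hr1)
    obtain ⟨b, hb, hbe⟩ := (Nat.dvd_prime_pow Nat.prime_three).1 hd
    have hb6 : b ≤ 6 := by
      by_contra h7
      refine c.not_dvd ((pow_dvd_pow 3 (show 7 ≤ b by omega)).trans ?_)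
      rw [← hbe]
      exact orderOf_dvd_natCard g
    rw [← orderOf_dvd_iff_pow_eq_one, hbe, show (729 : ℕ) = 3 ^ 6 by norm_num]
    exact pow_dvd_pow 3 hb6
  exact c.M_faithful (c.M_three g hgN hg729) hg

/-- An element of `L` of order four inverting `x0` modulo `Q`, and its square. -/
theorem exists_t : ∃ t : c.L, (t : G) * t = 1 ∧ c.p t = ee := by
  obtain ⟨a, ha⟩ := c.p_surj ee
  have h2 : ((a * a : c.L) : G) ∈ c.Q := by
    rw [← c.p_ker, map_mul, ha, j0_facts.2.2.2]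
  refine ⟨a ^ 3, ?_, by rw [map_pow, ha, pow_succ, sq, j0_facts.2.2.2, one_mul]⟩
  have h := c.Q_exp _ h2
  rw [SubgroupClass.coe_pow, ← pow_add]
  rwa [Subgroup.coe_mul, ← sq, ← pow_mul] at h

/-- The involution. -/
noncomputable def t : G := c.exists_t.choose

theorem t_mem : c.t ∈ c.L := c.exists_t.choose.2

theorem t_sq : c.t * c.t = 1 := c.exists_t.choose_spec.1

theorem p_t : c.p ⟨c.t, c.t_mem⟩ = ee := c.exists_t.choose_spec.2

theorem t_inv : c.t⁻¹ = c.t := inv_eq_of_mul_eq_one_right c.t_sq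

theorem t_ne : c.t ≠ 1 := fun h => j0_facts.2.2.1 (by
  rw [← c.p_t]
  exact (c.p_ker _).2 (by show c.t ∈ c.Q; rw [h]; exact one_mem _))

theorem t_z : c.t * c.z = c.z * c.t := c.L_comm _ c.t_mem

theorem t_norm_Q : c.t ∈ Subgroup.normalizer (c.Q : Set G) :=
  c.Q_norm _ (by rw [c.t_z, mul_inv_cancel_right]; exact Subgroup.mem_zpowers _)

theorem L_norm_Q {l : G} (hl : l ∈ c.L) : l ∈ Subgroup.normalizer (c.Q : Set G) :=
  c.Q_norm _ (by rw [c.L_comm l hl, mul_inv_cancel_right]; exact Subgroup.mem_zpowers _)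

/-- `t` commutes with `L` modulo `Q`. -/
theorem t_comm_mod {l : G} (hl : l ∈ c.L) : l⁻¹ * (c.t * l * c.t) ∈ c.Q := by
  have h : c.p (⟨l, hl⟩⁻¹ * (⟨c.t, c.t_mem⟩ * ⟨l, hl⟩ * ⟨c.t, c.t_mem⟩)) = 1 := by
    rw [map_mul, map_mul, map_mul, map_inv, c.p_t, ee_central, mul_assoc, j0_facts.2.2.2, mul_one,
      inv_mul_cancel]
  exact (c.p_ker _).1 h

/-- `t` centralises only `z` in `Q`. -/
theorem fix_Q {q : G} (hq : q ∈ c.Q) (h : c.t * q = q * c.t) : q ∈ Subgroup.zpowers c.z := by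
  have hZn : ∀ g ∈ c.L, ∀ u ∈ Subgroup.zpowers c.z, g * u * g⁻¹ = u := fun g hg u hu => by
    obtain ⟨k, rfl⟩ := hu
    exact conj_of_comm ((show Commute g c.z from c.L_comm g hg).zpow_right k).eq
  have hZc : ∀ g ∈ c.L, ∀ u ∈ Subgroup.zpowers c.z, g * u = u * g := fun g hg u hu =>
    comm_of_conj (hZn g hg u hu)
  let W : Subgroup G :=
    { carrier := {x | x ∈ c.Q ∧ c.t * x * c.t⁻¹ * x⁻¹ ∈ Subgroup.zpowers c.z}
      one_mem' := ⟨one_mem _, by simp⟩
      mul_mem' := fun {x y} hx hy => ⟨mul_mem hx.1 hy.1, by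
        have := mul_mem hx.2 hy.2
        have e := hZn x (c.Q_le hx.1) _ hy.2
        rwa [show c.t * (x * y) * c.t⁻¹ * (x * y)⁻¹ = c.t * x * c.t⁻¹ * x⁻¹ *
          (x * (c.t * y * c.t⁻¹ * y⁻¹) * x⁻¹) by group, e]⟩
      inv_mem' := fun {x} hx => ⟨inv_mem hx.1, by
        have := inv_mem hx.2
        rwa [← hZn x⁻¹ (inv_mem (c.Q_le hx.1)) _ this,
          show x⁻¹ * (c.t * x * c.t⁻¹ * x⁻¹)⁻¹ * x⁻¹⁻¹ = c.t * x⁻¹ * c.t⁻¹ * x⁻¹⁻¹ by group] at this⟩ }
  have hWQ : W ≤ c.Q := fun x hx => hx.1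
  have hqW : q ∈ W := ⟨hq, by rw [h]; simp⟩
  -- an element of order five
  obtain ⟨v, hv5, hv1⟩ := exists_five
  obtain ⟨a, ha⟩ := c.p_surj v
  have h5 : ((a : G) ^ 5) ∈ c.Q := (c.p_ker (a ^ 5)).1 (by
    rw [map_pow, ha, pow_succ, pow_succ, pow_succ, sq, hv5])
  obtain ⟨d, hd⟩ : ∃ d : G, d = (a : G) ^ 3 := ⟨_, rfl⟩
  have hd5 : d ^ 5 = 1 := by rw [hd, ← pow_mul, mul_comm, pow_mul, c.Q_exp _ h5]
  have hdL : d ∈ c.L := hd ▸ pow_mem a.2 _
  have hdW : ∀ x ∈ W, d * x * d⁻¹ ∈ W := by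
    intro x hx
    obtain ⟨u, huQ, hu⟩ : ∃ u ∈ c.Q, c.t * d * c.t⁻¹ = d * u :=
      ⟨_, c.t_comm_mod hdL, by rw [c.t_inv]; group⟩
    obtain ⟨y, hy, hxy⟩ : ∃ y ∈ Subgroup.zpowers c.z, c.t * x * c.t⁻¹ = y * x := ⟨_, hx.2, by group⟩
    obtain ⟨k, hk, hux⟩ : ∃ k ∈ Subgroup.zpowers c.z, u * x * u⁻¹ = k * x :=
      ⟨_, c.Q_comm u huQ x hx.1, by group⟩
    refine ⟨conj_mem_of_norm (c.L_norm_Q hdL) hx.1, ?_⟩
    have e1 : c.t * (d * x * d⁻¹) * c.t⁻¹ = d * (y * k * x) * d⁻¹ := by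
      calc c.t * (d * x * d⁻¹) * c.t⁻¹ =
            c.t * d * c.t⁻¹ * (c.t * x * c.t⁻¹) * (c.t * d * c.t⁻¹)⁻¹ := by group
        _ = d * (u * y * u⁻¹ * (u * x * u⁻¹)) * d⁻¹ := by rw [hu, hxy]; group
        _ = _ := by rw [hZn u (c.Q_le huQ) y hy, hux]; group
    have e2 : c.t * (d * x * d⁻¹) * c.t⁻¹ * (d * x * d⁻¹)⁻¹ = d * (y * k) * d⁻¹ := by rw [e1]; group
    rw [e2, hZn d hdL _ (mul_mem hy hk)]
    exact mul_mem hy hk
  obtain ⟨k, hk, hWk⟩ := card_dvd_three hWQ (k := 5) (by rw [c.card_Q]; norm_num)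
  have hdz : ∀ x ∈ Subgroup.zpowers c.z, d * x = x * d := fun x hx => hZc d hdL x hx
  have hZW : Subgroup.zpowers c.z ≤ W := fun u hu =>
    ⟨Subgroup.zpowers_le.2 c.z_mem_Q hu, by rw [hZn _ c.t_mem u hu]; simp⟩
  by_contra hqz
  have hk2 : 2 ≤ k := by
    by_contra h1
    refine hqz ?_
    rw [Subgroup.eq_of_le_of_card_ge hZW (by
      rw [hWk, c.card_Z]
      exact (Nat.pow_le_pow_right (by norm_num) (show k ≤ 1 by omega)).trans (by norm_num))]
    exact hqW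
  rcases Nat.lt_or_ge k 5 with hk5 | hk5
  · -- `d` centralises `W`, hence all of `Q`
    have h9 : 9 ∣ Nat.card W := hWk ▸ pow_dvd_pow 3 hk2
    have hall : ∀ x ∈ W, d * x = x * d := by
      rcases Nat.lt_or_ge k 4 with hk4 | hk4
      · exact five_fix_all hk hWk hd5 hdW hZW hdz (Or.inl ⟨by omega, c.card_Z.symm.dvd⟩)
      · obtain rfl : k = 4 := by omega
        have hm := five_fix hd5 hdW
        obtain ⟨i, hi, hiW⟩ := card_dvd_three
          (inf_le_left : W ⊓ Subgroup.centralizer {d} ≤ W) hWk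
        rw [hiW, hWk] at hm
        have hi1 : 1 ≤ i := by
          by_contra h0
          obtain rfl : i = 0 := by omega
          have := Subgroup.card_le_of_le (le_inf hZW fun x hx =>
            Subgroup.mem_centralizer_singleton_iff.2 (hdz x hx).symm :
            Subgroup.zpowers c.z ≤ W ⊓ Subgroup.centralizer {d})
          rw [hiW, c.card_Z] at this
          norm_num at this
        have hi4 : i = 4 := by interval_cases i <;> first | rfl | (simp_all [Nat.ModEq])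
        intro x hx
        have he := Subgroup.eq_of_le_of_card_ge (inf_le_left : W ⊓ Subgroup.centralizer {d} ≤ W)
          (by rw [hiW, hWk, hi4])
        exact (Subgroup.mem_centralizer_singleton_iff.1 (he.symm ▸ hx : x ∈ W ⊓ _).2).symm
    have hQall := five_fix_all le_rfl (by rw [c.card_Q]; norm_num) hd5
      (fun x hx => conj_mem_of_norm (c.L_norm_Q hdL) hx) hWQ hall (Or.inr h9)
    have hdQ : d ∈ c.Q := Subgroup.zpowers_le.2 c.z_mem_Q (c.Q_cent d hQall)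
    have : c.p (a ^ 3) = 1 := (c.p_ker _).2 (by rw [SubgroupClass.coe_pow, ← hd]; exact hdQ)
    rw [map_pow, ha] at this
    have h1 : v ^ 5 = 1 := by rw [pow_succ, pow_succ, pow_succ, sq, hv5]
    have := pow_gcd_eq_one.2 ⟨h1, this⟩
    rw [show Nat.gcd 5 3 = 1 by norm_num, pow_one] at this
    exact hv1 this
  · -- `t` centralises `Q` modulo the centre, hence `Q`
    have hWe : W = c.Q := Subgroup.eq_of_le_of_card_ge hWQ (by
      rw [hWk, c.card_Q]; exact le_trans (by norm_num) (Nat.pow_le_pow_right (by norm_num) hk5))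
    have htQ : ∀ x ∈ c.Q, c.t * x = x * c.t := by
      intro x hx
      have hxW : x ∈ W := hWe ▸ hx
      obtain ⟨y, hy, hxy⟩ : ∃ y ∈ Subgroup.zpowers c.z, c.t * x * c.t⁻¹ = x * y :=
        ⟨_, hxW.2, by rw [hZc x (c.Q_le hx) _ hxW.2]; group⟩
      exact comm_of_conj (fix_of_shift hxy (hZn _ c.t_mem y hy) (n := 2) (by rw [sq, c.t_sq])
        (c.J_exp y (c.Z_le_J hy)) (by norm_num))
    have h3 : c.t ^ 3 = 1 := c.J_exp _ (c.Z_le_J (c.Q_cent _ htQ))
    rw [pow_succ, sq, c.t_sq, one_mul] at h3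
    exact c.t_ne h3

theorem exists_lift {l : G} (hl : l ∈ c.L) :
    ∃ a : c.L, c.p a = c.p ⟨l, hl⟩ ∧ c.t * (a : G) = (a : G) * c.t := by
  have hd := c.t_comm_mod hl
  refine ⟨⟨l * (l⁻¹ * (c.t * l * c.t)) ^ 2, mul_mem hl (c.Q_le (pow_mem hd _))⟩, ?_,
    exists_comm_invol c.t_sq (c.Q_exp _ hd)⟩
  rw [show (⟨l * (l⁻¹ * (c.t * l * c.t)) ^ 2, mul_mem hl (c.Q_le (pow_mem hd _))⟩ : c.L) =
    ⟨l, hl⟩ * ⟨(l⁻¹ * (c.t * l * c.t)) ^ 2, c.Q_le (pow_mem hd _)⟩ from rfl, map_mul,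
    (c.p_ker ⟨(l⁻¹ * (c.t * l * c.t)) ^ 2, c.Q_le (pow_mem hd _)⟩).2 (pow_mem hd _), mul_one]

theorem exists_sigma : ∃ σ : SLFive →* G, Function.Injective σ ∧
    ∀ x, ∃ h : c.L, (h : G) = σ x ∧ c.p h = x ∧ c.t * (h : G) = (h : G) * c.t := by
  classical
  let H : Subgroup G := c.L ⊓ Subgroup.centralizer {c.t}
  let f : H →* SLFive := c.p.comp (Subgroup.inclusion inf_le_left)
  have hzH : c.z ∈ H := ⟨c.Q_le c.z_mem_Q, Subgroup.mem_centralizer_singleton_iff.2 c.t_z.symm⟩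
  have hf : Function.Surjective f := fun x => by
    obtain ⟨l, hl⟩ := c.p_surj x
    obtain ⟨a, ha, hat⟩ := c.exists_lift l.2
    exact ⟨⟨a, a.2, Subgroup.mem_centralizer_singleton_iff.2 hat.symm⟩, by
      show c.p ⟨(a : G), a.2⟩ = x
      rw [← hl]; exact ha⟩
  have hker : ∀ h : H, f h = 1 ↔ h ∈ Subgroup.zpowers (⟨c.z, hzH⟩ : H) := fun h => by
    constructor
    · intro hh
      have hq : (h : G) ∈ c.Q := (c.p_ker _).1 hh
      obtain ⟨k, hk⟩ := c.fix_Q hq (Subgroup.mem_centralizer_singleton_iff.1 h.2.2).symm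
      exact ⟨k, Subtype.ext (by simpa using hk)⟩
    · rintro ⟨k, rfl⟩
      refine (c.p_ker _).2 ?_
      show ((((⟨c.z, hzH⟩ : H) ^ k : H) : G)) ∈ c.Q
      rw [SubgroupClass.coe_zpow]
      exact zpow_mem c.z_mem_Q k
  let R : Subgroup H := c.J.subgroupOf H
  obtain ⟨a, haJ, haQ⟩ : ∃ a ∈ c.J, a ∉ c.Q := SetLike.not_le_iff_exists.1 c.J_not_le_Q
  have haS := c.J_le_S haJ
  have htS : c.t ∈ Subgroup.normalizer (c.S : Set G) := mem_norm_of_conj fun s hs => by
    have hsL := c.S_le_L hs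
    have h := c.t_comm_mod hsL
    rw [c.t_inv, show c.t * s * c.t = s * (s⁻¹ * (c.t * s * c.t)) by group]
    exact mul_mem hs (c.Q_le_S h)
  have htJ : c.t * a * c.t ∈ c.J := by
    have h := c.eq_J c.card_S c.J_le_S (A := c.J.map (MulAut.conj c.t).toMonoidHom)
      (by rintro _ ⟨b, hb, rfl⟩; exact conj_mem_of_norm htS (c.J_le_S hb))
      (by rw [Subgroup.card_map_of_injective (MulAut.conj c.t).injective, c.card_J])
      (by rintro _ ⟨b, hb, rfl⟩ _ ⟨b', hb', rfl⟩; rw [← map_mul, ← map_mul, c.J_comm b hb b' hb'])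
      (by rintro _ ⟨b, hb, rfl⟩; rw [← map_pow, c.J_exp b hb, map_one])
    rw [← h]
    exact ⟨a, haJ, by simp [c.t_inv]⟩
  have hd := c.t_comm_mod (c.S_le_L haS)
  have hdJ : a⁻¹ * (c.t * a * c.t) ∈ c.J := mul_mem (inv_mem haJ) htJ
  obtain ⟨b, hb⟩ : ∃ b, b = a * (a⁻¹ * (c.t * a * c.t)) ^ 2 := ⟨_, rfl⟩
  have hbH : b ∈ H := hb ▸ ⟨mul_mem (c.S_le_L haS) (c.Q_le (pow_mem hd _)),
    Subgroup.mem_centralizer_singleton_iff.2 (exists_comm_invol c.t_sq (c.J_exp _ hdJ)).symm⟩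
  have hidx : ¬ 3 ∣ R.index := by
    have hcardH : Nat.card H = 3 * 120 := by
      have h := Subgroup.card_eq_card_quotient_mul_card_subgroup f.ker
      rw [Nat.card_congr (QuotientGroup.quotientKerEquivOfSurjective f hf).toEquiv,
        CfsgLib.Perm.RegularLinear.card_slFive,
        show f.ker = Subgroup.zpowers (⟨c.z, hzH⟩ : H) from Subgroup.ext fun h => hker h,
        Nat.card_zpowers, Subgroup.orderOf_mk, c.z_order] at h
      omega
    intro hdvd
    have hm := R.card_mul_index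
    rw [hcardH] at hm
    have hR9 : 9 ∣ Nat.card R := by
      have hRsub : Subgroup.zpowers (⟨c.z, hzH⟩ : H) < R := by
        refine lt_of_le_of_ne (Subgroup.zpowers_le.2 c.z_mem_J) fun he => ?_
        have hbR : (⟨b, hbH⟩ : H) ∈ R := hb ▸ mul_mem haJ (pow_mem hdJ _)
        rw [← he] at hbR
        obtain ⟨k, hk⟩ := hbR
        have hbQ : b ∈ c.Q := by
          have hk' : ((⟨c.z, hzH⟩ : H) ^ k : H).1 = b := congrArg Subtype.val hk
          rw [show b = c.z ^ k by rw [← hk', SubgroupClass.coe_zpow]]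
          exact zpow_mem c.z_mem_Q k
        exact haQ ((Subgroup.mul_mem_cancel_right _ (pow_mem hd 2)).1 (hb ▸ hbQ))
      obtain ⟨i, hi, hic⟩ := card_dvd_three (K := R.map H.subtype) (U := c.J) (k := 4)
        (by rintro _ ⟨x, hx, rfl⟩; exact hx) (by rw [c.card_J]; norm_num)
      rw [Subgroup.card_map_of_injective H.subtype_injective] at hic
      have h3 := Set.ncard_lt_ncard (show ((Subgroup.zpowers (⟨c.z, hzH⟩ : H) : Subgroup H) : Set H) ⊂ R
        from hRsub) (Set.toFinite _)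
      rw [← Nat.card_coe_set_eq, ← Nat.card_coe_set_eq, SetLike.coe_sort_coe, SetLike.coe_sort_coe,
        Nat.card_zpowers, Subgroup.orderOf_mk, c.z_order, hic] at h3
      have hi2 : 2 ≤ i := by
        by_contra h
        have := Nat.pow_le_pow_right (show 1 ≤ 3 by norm_num) (show i ≤ 1 by omega)
        omega
      rw [hic]
      exact pow_dvd_pow 3 hi2
    have h27 : 27 ∣ 3 * 120 := hm ▸ Nat.mul_dvd_mul hR9 hdvd
    norm_num at h27
  obtain ⟨σ, hσ, hσp⟩ := exists_section_of_central H f hf ⟨c.z, hzH⟩ (Subtype.ext c.z_cube)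
    (fun h => Subtype.ext (c.L_comm _ h.2.1).symm) hker R
    (fun x hx y hy => Subtype.ext (c.J_comm _ hx _ hy)) c.z_mem_J hidx
  refine ⟨σ, hσ, fun x => ?_⟩
  obtain ⟨h, hh, hfh⟩ := hσp x
  exact ⟨⟨h, h.2.1⟩, hh, hfh, (Subgroup.mem_centralizer_singleton_iff.1 h.2.2).symm⟩

/-- The complement `SL(2,5)` centralising `z` and `t`. -/
noncomputable def σ : SLFive →* G := c.exists_sigma.choose

theorem σ_inj : Function.Injective c.σ := c.exists_sigma.choose_spec.1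

theorem σ_spec (x : SLFive) : ∃ h : c.L, (h : G) = c.σ x ∧ c.p h = x ∧ c.t * (h : G) = (h : G) * c.t :=
  c.exists_sigma.choose_spec.2 x

theorem σ_mem (x : SLFive) : c.σ x ∈ c.L := by
  obtain ⟨h, hh, -, -⟩ := c.σ_spec x
  exact hh ▸ h.2

theorem p_σ (x : SLFive) : c.p ⟨c.σ x, c.σ_mem x⟩ = x := by
  obtain ⟨h, hh, hp, -⟩ := c.σ_spec x
  rw [← Subtype.ext (a1 := h) (a2 := ⟨c.σ x, c.σ_mem x⟩) hh, hp]

theorem t_σ (x : SLFive) : c.t * c.σ x = c.σ x * c.t := by
  obtain ⟨h, hh, -, ht⟩ := c.σ_spec x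
  rwa [hh] at ht

theorem z_σ (x : SLFive) : c.σ x * c.z = c.z * c.σ x := c.L_comm _ (c.σ_mem x)

/-- An element of `L` commuting with `t` is a power of `z` times an element of the complement. -/
theorem mem_L_cent {l : G} (hl : l ∈ c.L) (ht : c.t * l = l * c.t) :
    ∃ u ∈ Subgroup.zpowers c.z, ∃ x, l = u * c.σ x := by
  refine ⟨l * (c.σ (c.p ⟨l, hl⟩))⁻¹, c.fix_Q ?_ ?_, _, (inv_mul_cancel_right _ _).symm⟩
  · exact (c.p_ker (⟨l, hl⟩ * (⟨_, c.σ_mem _⟩ : c.L)⁻¹)).1 (by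
      rw [map_mul, map_inv, c.p_σ, mul_inv_cancel])
  · exact ((show Commute c.t l from ht).mul_right (Commute.inv_right (c.t_σ _))).eq

theorem σ_ee : c.σ ee = c.t := by
  obtain ⟨u, hu, x, hx⟩ := c.mem_L_cent c.t_mem rfl
  have h2 : c.σ (x * x) = (u * u)⁻¹ := by
    have hc : u * c.σ x = c.σ x * u := by
      obtain ⟨k, rfl⟩ := hu
      exact ((show Commute c.z (c.σ x) from (c.z_σ x).symm).zpow_left k).eq
    have h := c.t_sq
    rw [hx, show u * c.σ x * (u * c.σ x) = u * (c.σ x * u) * c.σ x by group, ← hc,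
      show u * (u * c.σ x) * c.σ x = u * u * (c.σ x * c.σ x) by group, ← map_mul] at h
    exact eq_inv_of_mul_eq_one_right h
  have hxx : x * x = 1 := by
    have hq : c.σ (x * x) ∈ c.Q := h2 ▸ inv_mem (mul_mem (Subgroup.zpowers_le.2 c.z_mem_Q hu)
      (Subgroup.zpowers_le.2 c.z_mem_Q hu))
    rw [← c.p_σ (x * x)]
    exact (c.p_ker _).2 hq
  rw [hxx, map_one, eq_comm, inv_eq_one] at h2
  have hu3 : u ^ 3 = 1 := c.J_exp u (c.Z_le_J hu)
  rw [pow_succ, sq, h2, one_mul] at hu3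
  rw [hu3, one_mul] at hx
  rcases eq_or_ne x 1 with rfl | hx1
  · exact absurd (by rw [hx, map_one]) c.t_ne
  · rw [hx, invol_eq x hxx hx1]

end Setup

end CfsgLib.McLThreeLocal
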