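import Cfsg.Agent.McLThreeLocal.Plane

/-!
# The involution exchanging the two lines

It commutes with `t`, lies in `M`, maps `z ↦ w^a`, `w ↦ z^a`, and is not a scalar on `E`.
-/

set_option autoImplicit false
set_option linter.style.haveILetI false
set_option linter.unusedSectionVars false

namespace CfsgLib.McLThreeLocal

namespace Setup

variable {G : Type*} [Group G] [Finite G] (c : Setup G)
include c

/-- An element of the normaliser of `J` preserving `E` and the fixed points of `t` becomes an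
element commuting with `t` after multiplication with an element of `J`. -/
theorem exists_cent_t {n : G} (hn : n ∈ Subgroup.normalizer (c.J : Set G))
    (hR : ∀ x ∈ c.J, c.t * x = x * c.t → c.t * (n * x * n⁻¹) = n * x * n⁻¹ * c.t)
    (hE : ∀ e ∈ c.E, n * e * n⁻¹ ∈ c.E) :
    ∃ d ∈ c.J, c.t * (d * n) = d * n * c.t := by
  let R : Subgroup G := c.J ⊓ Subgroup.centralizer {c.t}
  have hRm : ∀ x, x ∈ R ↔ x ∈ c.J ∧ c.t * x = x * c.t := fun x =>
    ⟨fun h => ⟨h.1, (Subgroup.mem_centralizer_singleton_iff.1 h.2).symm⟩,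
      fun h => ⟨h.1, Subgroup.mem_centralizer_singleton_iff.2 h.2.symm⟩⟩
  have hnR : n ∈ Subgroup.normalizer (R : Set G) := mem_norm_of_conj fun x hx => (hRm _).2
    ⟨conj_mem_of_norm hn hx.1, hR x hx.1 ((hRm x).1 hx).2⟩
  have hnE : n ∈ Subgroup.normalizer (c.E : Set G) := mem_norm_of_conj hE
  obtain ⟨D, hD⟩ : ∃ D, D = n * c.t * n⁻¹ * c.t := ⟨_, rfl⟩
  have hgrid : ∀ i k : Fin 3, n * c.t * n⁻¹ * (c.z ^ (i : ℕ) * c.w ^ (k : ℕ)) *
      (n * c.t * n⁻¹)⁻¹ = c.z ^ (i : ℕ) * c.w ^ (k : ℕ) := by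
    intro i k
    have hx : c.z ^ (i : ℕ) * c.w ^ (k : ℕ) ∈ R := (hRm _).2 ⟨c.grid_mem_J _ _,
      (((show Commute c.t c.z from c.t_z).pow_right _).mul_right
        ((show Commute c.t c.w from c.t_w).pow_right _)).eq⟩
    have h := conj_mem_of_norm (inv_mem hnR) hx
    rw [inv_inv] at h
    rw [show n * c.t * n⁻¹ * (c.z ^ (i : ℕ) * c.w ^ (k : ℕ)) * (n * c.t * n⁻¹)⁻¹ =
      n * (c.t * (n⁻¹ * (c.z ^ (i : ℕ) * c.w ^ (k : ℕ)) * n) * c.t⁻¹) * n⁻¹ by group,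
      conj_of_comm ((hRm _).1 h).2]
    group
  have hEinv : ∀ e ∈ c.E, n * c.t * n⁻¹ * e * (n * c.t * n⁻¹)⁻¹ = e⁻¹ := by
    intro e he
    have h := conj_mem_of_norm (inv_mem hnE) he
    rw [inv_inv] at h
    rw [show n * c.t * n⁻¹ * e * (n * c.t * n⁻¹)⁻¹ = n * (c.t * (n⁻¹ * e * n) * c.t⁻¹) * n⁻¹ by
      group, c.t_inv, c.E_inv_t h]
    group
  have hDJ : D ∈ c.J := by
    refine c.cent_J fun x hx => comm_of_conj ?_
    obtain ⟨i, k, e, he, rfl⟩ := c.decomp hx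
    rw [hD, conj_conj, show c.t * (c.z ^ (i : ℕ) * c.w ^ (k : ℕ) * e) * c.t⁻¹ =
      c.z ^ (i : ℕ) * c.w ^ (k : ℕ) * e⁻¹ by rw [c.t_inv, c.t_conj_mul, c.grid_fix, c.E_inv_t he],
      show n * c.t * n⁻¹ * (c.z ^ (i : ℕ) * c.w ^ (k : ℕ) * e⁻¹) * (n * c.t * n⁻¹)⁻¹ =
      (n * c.t * n⁻¹ * (c.z ^ (i : ℕ) * c.w ^ (k : ℕ)) * (n * c.t * n⁻¹)⁻¹) *
        (n * c.t * n⁻¹ * e⁻¹ * (n * c.t * n⁻¹)⁻¹) by group, hgrid, hEinv _ (inv_mem he), inv_inv]
  have hsq : n * c.t * n⁻¹ * (n * c.t * n⁻¹) = 1 := by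
    rw [show n * c.t * n⁻¹ * (n * c.t * n⁻¹) = n * (c.t * c.t) * n⁻¹ by group, c.t_sq]
    group
  have hDt : c.t * D * c.t = D⁻¹ := by
    rw [hD, mul_inv_rev, c.t_inv, inv_eq_of_mul_eq_one_right hsq]
    simp [mul_assoc, c.t_sq]
  have hD3 : D * D * D = 1 := by
    have h := c.J_exp D hDJ
    simpa only [pow_succ, pow_zero, one_mul] using h
  refine ⟨D, hDJ, ?_⟩
  have e1 : n * c.t * n⁻¹ = D * c.t := by rw [hD, mul_assoc (n * c.t * n⁻¹), c.t_sq, mul_one]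
  have e2 : D * n * c.t * (D * n)⁻¹ = c.t := by
    calc D * n * c.t * (D * n)⁻¹ = D * (n * c.t * n⁻¹) * D⁻¹ := by group
      _ = D * D * (c.t * D⁻¹ * c.t) * c.t⁻¹ := by rw [e1]; group
      _ = D * D * D * c.t⁻¹ := by
        rw [show c.t * D⁻¹ * c.t = (c.t * D * c.t)⁻¹ by simp [mul_assoc, c.t_inv], hDt, inv_inv]
      _ = c.t := by rw [hD3, one_mul, c.t_inv]
  exact (comm_of_conj e2).symm

/-- An element of `M` inverting `z` has image of order four. -/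
theorem inv_z_order {m : c.M} (hm : (m : G) * c.z * (m : G)⁻¹ = c.z⁻¹) : c.ψ m * c.ψ m ≠ 1 := by
  intro h2
  have hne : c.z⁻¹ ≠ c.z := fun e => c.z_ne (by
    have h3 := c.z_cube
    rw [pow_succ, sq] at h3
    rw [show c.z * c.z = 1 by
      calc c.z * c.z = c.z * c.z⁻¹ := by rw [e]
        _ = 1 := mul_inv_cancel _] at h3
    simpa using h3)
  have hcong : ∀ n : c.M, c.ψ m = c.ψ n → (n : G) * c.z * (n : G)⁻¹ = c.z⁻¹ := by
    intro n hn
    have hJ : ((m⁻¹ * n : c.M) : G) ∈ c.J := (c.ψ_ker _).1 (by rw [map_mul, map_inv, hn, inv_mul_cancel])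
    rw [show (n : G) = (m : G) * ((m⁻¹ * n : c.M) : G) by push_cast; group, conj_conj,
      conj_of_comm (c.J_comm _ hJ _ c.z_mem_J), hm]
  rcases eq_or_ne (c.ψ m) 1 with h1 | h1
  · have hJ : (m : G) ∈ c.J := (c.ψ_ker _).1 h1
    exact hne (hm ▸ conj_of_comm (c.J_comm _ hJ _ c.z_mem_J))
  · obtain ⟨-, f, hfN, hff⟩ := six_invol c.card_P
      ((c.fix_iff (m := m)).1 (by rw [hm]; exact inv_mem (Subgroup.mem_zpowers _))) h2 h1
    obtain ⟨n, rfl⟩ := c.ψ_surj f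
    obtain ⟨i, hi⟩ := c.fin_cases_zpow c.z_cube ((c.fix_iff (m := n)).2 hfN)
    have h := hcong (n * n) (by rw [map_mul, hff])
    rw [Subgroup.coe_mul, conj_conj, hi, ← conj_pow, hi, ← pow_fin_mul c.z_cube] at h
    refine hne (h.symm.trans ?_)
    fin_cases i
    · have hz : (n : G) * c.z * (n : G)⁻¹ = 1 := by simpa using hi
      exact absurd (conj_eq_one_iff.1 hz) c.z_ne
    · simp
    · show c.z ^ 1 = c.z
      rw [pow_one]

/-- An element of `M` fixing both lines with image `u` has `u ^ 4` trivial. -/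
theorem fix_four {m : c.M} (hz : (m : G) * c.z * (m : G)⁻¹ ∈ Subgroup.zpowers c.z)
    (hw : (m : G) * c.w * (m : G)⁻¹ ∈ Subgroup.zpowers c.w) : c.ψ m ^ 4 = 1 := by
  have h4 := six_four c.card_P ((c.fix_iff (m := m)).1 hz)
  have hpow : c.ψ m * c.ψ m * (c.ψ m * c.ψ m) = c.ψ (m ^ 4) := by
    rw [map_pow]; simp only [pow_succ, pow_zero, one_mul, mul_assoc]
  rw [hpow, c.mem_P_iff] at h4
  have hwz : c.w ∉ Subgroup.zpowers c.z := fun h =>
    c.w_not_Q (Subgroup.zpowers_le.2 c.z_mem_Q h)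
  rw [← map_pow, c.ψ_ker]
  refine c.free h4 c.isPt_w hwz ?_
  rw [SubgroupClass.coe_pow]
  obtain ⟨j, hj⟩ := c.fin_cases_zpow c.w_cube hw
  have hn : ∀ n : ℕ, (m : G) ^ n * c.w * ((m : G) ^ n)⁻¹ ∈ Subgroup.zpowers c.w := by
    intro n
    induction n with
    | zero => simp
    | succ n ih =>
      rw [pow_succ, conj_conj, hj, ← conj_pow]
      exact pow_mem ih _
  exact hn 4

/-- An element of `M` fixing both `z` and `w` and squaring to an exchange lies in `J`. -/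
theorem swap_sq_mem_J {g : c.M} {a : Fin 3} (ha : a ≠ 0)
    (hz : (g : G) * c.z * (g : G)⁻¹ = c.w ^ (a : ℕ)) (hw : (g : G) * c.w * (g : G)⁻¹ = c.z ^ (a : ℕ)) :
    (g : G) * g ∈ c.J := by
  have haa : a * a = 1 := fin_sq a ha
  have hgz : ((g * g : c.M) : G) * c.z * ((g * g : c.M) : G)⁻¹ = c.z := by
    rw [Subgroup.coe_mul, conj_conj, hz, ← conj_pow, hw, ← pow_fin_mul c.z_cube, haa]
    exact pow_one _
  have hgw : ((g * g : c.M) : G) * c.w * ((g * g : c.M) : G)⁻¹ = c.w := by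
    rw [Subgroup.coe_mul, conj_conj, hw, ← conj_pow, hz, ← pow_fin_mul c.w_cube, haa]
    exact pow_one _
  have h4 : c.ψ (g * g) ^ 4 = 1 := c.fix_four (by rw [hgz]; exact Subgroup.mem_zpowers _)
    (by rw [hgw]; exact Subgroup.mem_zpowers _)
  have h8 : c.ψ g ^ 8 = 1 := by
    rw [show (8 : ℕ) = 2 * 4 from rfl, pow_mul, sq, ← map_mul, h4]
  have h2 : c.ψ (g * g) * c.ψ (g * g) = 1 := by
    rw [map_mul, ← six_eight h8]
    simp only [pow_succ, pow_zero, one_mul, mul_assoc]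
  by_contra hJ
  have hu1 : c.ψ (g * g) ≠ 1 := fun h => hJ ((c.ψ_ker _).1 h)
  obtain ⟨hinv, f, hfN, hff⟩ := six_invol c.card_P
    ((c.fix_iff (m := g * g)).1 (by rw [hgz]; exact Subgroup.mem_zpowers _)) h2 hu1
  obtain ⟨n, rfl⟩ := c.ψ_surj f
  have hnz : (n : G) * c.z * (n : G)⁻¹ ∈ Subgroup.zpowers c.z := (c.fix_iff (m := n)).2 hfN
  rcases six_sq (f := c.ψ n) (h := c.ψ g) (by
      rw [← h2, ← hff]; simp only [pow_succ, pow_zero, one_mul, mul_assoc])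
    (by rw [hff]; exact hu1) (by rw [hff, map_mul]) with h | h
  · have hN := hfN
    rw [← h] at hN
    obtain ⟨i, hi⟩ := c.fin_cases_zpow c.z_cube ((c.fix_iff (m := g)).2 hN)
    rw [hz] at hi
    refine ha ?_
    refine (c.grid_inj (i := 0) (k := a) (i' := i) (k' := 0) ?_).2
    simpa using hi
  · have hN : c.ψ g ∈ Subgroup.normalizer (c.P : Set (alternatingGroup (Fin 6))) := h ▸ inv_mem hfN
    obtain ⟨i, hi⟩ := c.fin_cases_zpow c.z_cube ((c.fix_iff (m := g)).2 hN)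
    rw [hz] at hi
    refine ha ?_
    refine (c.grid_inj (i := 0) (k := a) (i' := i) (k' := 0) ?_).2
    simpa using hi

theorem exists_g : ∃ g ∈ c.M, g * g = 1 ∧ c.t * g = g * c.t ∧ (∀ e ∈ c.E, g * e * g ∈ c.E) ∧
    ∃ a : Fin 3, a ≠ 0 ∧ g * c.z * g = c.w ^ (a : ℕ) ∧ g * c.w * g = c.z ^ (a : ℕ) := by
  obtain ⟨a, b, ha0, hb0, ha, hb⟩ := c.g₀_spec
  have hN := c.M_le c.g₀_mem
  -- adjust to commute with `t`
  obtain ⟨d, hd, hdt⟩ := c.exists_cent_t hN (fun x hx hxt => by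
    obtain ⟨i, k, rfl⟩ := c.grid_of_fix hx hxt
    rw [show c.g₀ * (c.z ^ (i : ℕ) * c.w ^ (k : ℕ)) * c.g₀⁻¹ =
      (c.g₀ * c.z * c.g₀⁻¹) ^ (i : ℕ) * (c.g₀ * c.w * c.g₀⁻¹) ^ (k : ℕ) by
        rw [conj_pow, conj_pow]; group, ha, hb]
    exact (((show Commute c.t c.w from c.t_w).pow_right _).pow_right _ |>.mul_right
      (((show Commute c.t c.z from c.t_z).pow_right _).pow_right _)).eq)
    (fun e he => c.E_norm_g₀ he)
  obtain ⟨g, hg⟩ : ∃ g, g = d * c.g₀ := ⟨_, rfl⟩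
  have hgM : g ∈ c.M := hg ▸ mul_mem (c.J_le_M hd) c.g₀_mem
  have hgJ : ∀ x ∈ c.J, g * x * g⁻¹ = c.g₀ * x * c.g₀⁻¹ := fun x hx => by
    rw [hg, conj_conj]
    exact conj_of_comm (c.J_comm d hd _ (conj_mem_of_norm hN hx))
  have hgz : g * c.z * g⁻¹ = c.w ^ (a : ℕ) := (hgJ _ c.z_mem_J).trans ha
  have hgw : g * c.w * g⁻¹ = c.z ^ (b : ℕ) := (hgJ _ c.w_mem_J).trans hb
  have hgE : ∀ e ∈ c.E, g * e * g⁻¹ ∈ c.E := fun e he => by
    rw [hgJ e he.1]; exact c.E_norm_g₀ he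
  -- the two exponents agree
  have hab : a = b := by
    by_contra hne
    have hab2 : b * a = 2 := by
      have key : ∀ p q : Fin 3, p ≠ 0 → q ≠ 0 → p ≠ q → q * p = 2 := by decide
      exact key a b ha0 hb0 hne
    obtain ⟨m, hm⟩ : ∃ m : c.M, m = ⟨g, hgM⟩ * ⟨g, hgM⟩ := ⟨_, rfl⟩
    have hmz : (m : G) * c.z * (m : G)⁻¹ = c.z⁻¹ := by
      rw [hm, Subgroup.coe_mul, conj_conj, hgz, ← conj_pow, hgw, ← pow_fin_mul c.z_cube, hab2]
      exact (inv_eq_of_mul_eq_one_right (show c.z * c.z ^ 2 = 1 by rw [← pow_succ', c.z_cube])).symm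
    have hmw : (m : G) * c.w * (m : G)⁻¹ ∈ Subgroup.zpowers c.w := by
      rw [hm, Subgroup.coe_mul, conj_conj, hgw, ← conj_pow, hgz]
      exact pow_mem (pow_mem (Subgroup.mem_zpowers _) _) _
    refine c.inv_z_order hmz ?_
    have h4 := c.fix_four (by rw [hmz]; exact inv_mem (Subgroup.mem_zpowers _)) hmw
    have h8 : c.ψ ⟨g, hgM⟩ ^ 8 = 1 := by
      rw [show (8 : ℕ) = 2 * 4 from rfl, pow_mul, sq, ← map_mul, ← hm, h4]
    rw [hm, map_mul, ← six_eight h8]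
    simp only [pow_succ, pow_zero, one_mul, mul_assoc]
  subst hab
  have hg2 : g * g ∈ c.J := c.swap_sq_mem_J (g := ⟨g, hgM⟩) ha0 hgz hgw
  have hg6 : g * (g * g) * (g * (g * g)) = 1 := by
    have h := c.J_exp _ hg2
    simp only [pow_succ, pow_zero, one_mul, mul_assoc] at h ⊢
    exact h
  have hinv : (g * (g * g))⁻¹ = g * (g * g) := inv_eq_of_mul_eq_one_right hg6
  have hc : ∀ x ∈ c.J, g * (g * g) * x * (g * (g * g)) = g * x * g⁻¹ := fun x hx => by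
    nth_rewrite 2 [← hinv]
    rw [conj_conj, conj_of_comm (c.J_comm _ hg2 x hx)]
  refine ⟨g * (g * g), mul_mem hgM (mul_mem hgM hgM), hg6, ?_, fun e he => ?_, a, ha0, ?_, ?_⟩
  · have hcg : Commute c.t g := show c.t * g = g * c.t from hg ▸ hdt
    exact (hcg.mul_right (hcg.mul_right hcg)).eq
  · rw [hc e he.1]; exact hgE e he
  · rw [hc _ c.z_mem_J, hgz]
  · rw [hc _ c.w_mem_J, hgw]

/-- The involution. -/
noncomputable def g : G := c.exists_g.choose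

theorem g_mem : c.g ∈ c.M := c.exists_g.choose_spec.1

theorem g_sq : c.g * c.g = 1 := c.exists_g.choose_spec.2.1

theorem g_inv : c.g⁻¹ = c.g := inv_eq_of_mul_eq_one_right c.g_sq

theorem t_g : c.t * c.g = c.g * c.t := c.exists_g.choose_spec.2.2.1

theorem g_E {e : G} (he : e ∈ c.E) : c.g * e * c.g ∈ c.E := c.exists_g.choose_spec.2.2.2.1 e he

theorem g_conj_J {x : G} (hx : x ∈ c.J) : c.g * x * c.g ∈ c.J := by
  have h := conj_mem_of_norm (c.M_le c.g_mem) hx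
  rwa [c.g_inv] at h

/-- The exponent. -/
noncomputable def a : Fin 3 := c.exists_g.choose_spec.2.2.2.2.choose

theorem a_ne : c.a ≠ 0 := c.exists_g.choose_spec.2.2.2.2.choose_spec.1

theorem g_z : c.g * c.z * c.g = c.w ^ (c.a : ℕ) := c.exists_g.choose_spec.2.2.2.2.choose_spec.2.1

theorem g_w : c.g * c.w * c.g = c.z ^ (c.a : ℕ) := c.exists_g.choose_spec.2.2.2.2.choose_spec.2.2

theorem g_not_J : c.g ∉ c.J := fun h => c.a_ne (by
  have h1 := c.g_z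
  rw [c.J_comm _ h _ c.z_mem_J, mul_assoc, c.g_sq, mul_one] at h1
  refine (c.grid_inj (i := 0) (k := c.a) (i' := 1) (k' := 0) ?_).2
  simpa using h1.symm)

/-- The exchanging involution is no scalar on a hyperplane of `J`. -/
theorem g_not_scalar {W : Subgroup G} (hW : W ≤ c.J) (h27 : 27 ≤ Nat.card W) :
    ¬ ((∀ x ∈ W, c.g * x * c.g = x) ∨ ∀ x ∈ W, c.g * x * c.g = x⁻¹) := by
  intro hs
  obtain ⟨u, h5, hu1⟩ := six_invol_five (u := c.ψ ⟨c.g, c.g_mem⟩)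
    (by rw [← map_mul, c.ψ_ker, Subgroup.coe_mul, c.g_sq]; exact one_mem _)
    (fun h => c.g_not_J ((c.ψ_ker _).1 h))
  obtain ⟨k, rfl⟩ := c.ψ_surj u
  rw [← map_inv, ← map_mul, ← map_mul, ← map_mul] at h5 hu1
  have hWle : W.map (MulAut.conj k.1).toMonoidHom ≤ c.J := by
    rintro _ ⟨x, hx, rfl⟩; exact conj_mem_of_norm (c.M_le k.2) (hW hx)
  have h2 := card_inf_mul_le hW hWle
  rw [Subgroup.card_map_of_injective (MulAut.conj k.1).injective, c.card_J] at h2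
  obtain ⟨j, hj, hjc⟩ := card_dvd_three (inf_le_left.trans hW :
    W ⊓ W.map (MulAut.conj k.1).toMonoidHom ≤ c.J) (k := 4) (by rw [c.card_J]; norm_num)
  rw [hjc] at h2
  have hj2 : 2 ≤ j := by
    by_contra h
    have := Nat.pow_le_pow_right (show 1 ≤ 3 by norm_num) (show j ≤ 1 by omega)
    nlinarith
  refine c.five_free h5 hu1 (inf_le_left.trans hW) (hjc ▸ pow_dvd_pow 3 hj2) fun x hx => ?_
  obtain ⟨y, hy, he⟩ := hx.2
  change k.1 * y * k.1⁻¹ = x at he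
  show c.g * (k.1 * c.g * k.1⁻¹) * x = x * (c.g * (k.1 * c.g * k.1⁻¹))
  refine comm_of_conj ?_
  rw [conj_conj, ← he, show k.1 * c.g * k.1⁻¹ * (k.1 * y * k.1⁻¹) * (k.1 * c.g * k.1⁻¹)⁻¹ =
    k.1 * (c.g * y * c.g⁻¹) * k.1⁻¹ by group, c.g_inv]
  rcases hs with h | h
  · rw [h y hy, he, h x hx.1]
  · rw [h y hy, show k.1 * y⁻¹ * k.1⁻¹ = (k.1 * y * k.1⁻¹)⁻¹ by group, he, h _ (inv_mem hx.1), inv_inv]

theorem twentyseven {W : Subgroup G} (hW : W ≤ c.J) (hE : c.E ≤ W) {y : G} (hy : y ∈ W) (hyE : y ∉ c.E) :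
    27 ≤ Nat.card W := by
  obtain ⟨i, hi, hiW⟩ := card_dvd_three hW (k := 4) (by rw [c.card_J]; norm_num)
  have h9 := Subgroup.card_le_of_le hE
  rw [c.card_E, hiW] at h9
  rw [hiW]
  by_contra h27
  have hi3 : i ≤ 2 := by
    by_contra h3
    exact h27 (le_trans (by norm_num) (Nat.pow_le_pow_right (by norm_num) (show 3 ≤ i by omega)))
  have := Subgroup.eq_of_le_of_card_ge hE (by
    rw [c.card_E, hiW]; exact (Nat.pow_le_pow_right (by norm_num) hi3).trans (by norm_num))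
  exact hyE (this ▸ hy)

theorem g_E_not_one : ¬ ∀ e ∈ c.E, c.g * e * c.g = e := by
  intro h
  let W : Subgroup G :=
    { carrier := {x | x ∈ c.J ∧ c.g * x * c.g = x}
      one_mem' := ⟨one_mem _, by rw [mul_one, c.g_sq]⟩
      mul_mem' := fun {x y} hx hy => ⟨mul_mem hx.1 hy.1, by
        calc c.g * (x * y) * c.g = c.g * x * (c.g * c.g) * y * c.g := by rw [c.g_sq]; group
          _ = c.g * x * c.g * (c.g * y * c.g) := by group
          _ = x * y := by rw [hx.2, hy.2]⟩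
      inv_mem' := fun {x} hx => ⟨inv_mem hx.1, by
        calc c.g * x⁻¹ * c.g = (c.g * x * c.g)⁻¹ := by simp [mul_assoc, c.g_inv]
          _ = x⁻¹ := by rw [hx.2]⟩ }
  have hy : c.z * c.w ^ (c.a : ℕ) ∈ W := ⟨by simpa using c.grid_mem_J 1 (c.a : ℕ), by
    calc c.g * (c.z * c.w ^ (c.a : ℕ)) * c.g
        = c.g * c.z * (c.g * c.g) * c.w ^ (c.a : ℕ) * c.g := by rw [c.g_sq]; group
      _ = c.g * c.z * c.g * (c.g * c.w ^ (c.a : ℕ) * c.g) := by group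
      _ = c.w ^ (c.a : ℕ) * (c.g * c.w * c.g⁻¹) ^ (c.a : ℕ) := by rw [c.g_z, conj_pow, c.g_inv]
      _ = c.w ^ (c.a : ℕ) * c.z := by rw [c.g_inv, c.g_w, ← c.z_line c.a_ne]
      _ = _ := (c.J_comm _ c.z_mem_J _ (pow_mem c.w_mem_J _)).symm⟩
  refine c.g_not_scalar (W := W) (fun x hx => hx.1) (c.twentyseven (fun x hx => hx.1)
    (fun e he => ⟨he.1, h e he⟩) hy ?_) (Or.inl fun x hx => hx.2)
  intro hE
  have hQ := c.E_le_Q hE
  exact c.a_ne (c.w_pow_Q ((Subgroup.mul_mem_cancel_left _ c.z_mem_Q).1 hQ))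

theorem g_E_not_inv : ¬ ∀ e ∈ c.E, c.g * e * c.g = e⁻¹ := by
  intro h
  let W : Subgroup G :=
    { carrier := {x | x ∈ c.J ∧ c.g * x * c.g = x⁻¹}
      one_mem' := ⟨one_mem _, by rw [mul_one, c.g_sq, inv_one]⟩
      mul_mem' := fun {x y} hx hy => ⟨mul_mem hx.1 hy.1, by
        calc c.g * (x * y) * c.g = c.g * x * (c.g * c.g) * y * c.g := by rw [c.g_sq]; group
          _ = c.g * x * c.g * (c.g * y * c.g) := by group
          _ = (x * y)⁻¹ := by rw [hx.2, hy.2, ← mul_inv_rev, c.J_comm x hx.1 y hy.1]⟩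
      inv_mem' := fun {x} hx => ⟨inv_mem hx.1, by
        calc c.g * x⁻¹ * c.g = (c.g * x * c.g)⁻¹ := by simp [mul_assoc, c.g_inv]
          _ = x⁻¹⁻¹ := by rw [hx.2]⟩ }
  have hy : c.z * (c.w ^ (c.a : ℕ))⁻¹ ∈ W := ⟨mul_mem c.z_mem_J (inv_mem (pow_mem c.w_mem_J _)), by
    calc c.g * (c.z * (c.w ^ (c.a : ℕ))⁻¹) * c.g
        = c.g * c.z * (c.g * c.g) * (c.w ^ (c.a : ℕ))⁻¹ * c.g := by rw [c.g_sq]; group
      _ = c.g * c.z * c.g * (c.g * (c.w ^ (c.a : ℕ)) * c.g⁻¹)⁻¹ := by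
        simp [mul_assoc, c.g_inv]
      _ = c.w ^ (c.a : ℕ) * ((c.g * c.w * c.g⁻¹) ^ (c.a : ℕ))⁻¹ := by rw [c.g_z, conj_pow]
      _ = c.w ^ (c.a : ℕ) * c.z⁻¹ := by rw [c.g_inv, c.g_w, ← c.z_line c.a_ne]
      _ = _ := by rw [mul_inv_rev, inv_inv]⟩
  refine c.g_not_scalar (W := W) (fun x hx => hx.1) (c.twentyseven (fun x hx => hx.1)
    (fun e he => ⟨he.1, h e he⟩) hy ?_) (Or.inr fun x hx => hx.2)
  intro hE
  have hQ := c.E_le_Q hE
  exact c.a_ne (c.w_pow_Q (inv_mem_iff.1 ((Subgroup.mul_mem_cancel_left _ c.z_mem_Q).1 hQ)))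

end Setup

end CfsgLib.McLThreeLocal
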