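import Cfsg.Agent.McLThreeLocal.Odd

/-!
# The second case: `S₃ × S₅` in `C(t)` modulo `t`
-/

set_option autoImplicit false
set_option linter.style.haveILetI false
set_option linter.unusedSectionVars false

namespace CfsgLib.McLThreeLocal

open Equiv
open CfsgLib.Perm.RegularLinear (SLFive)
open CfsgLib.AltEightLocal (centralizer_alt)

theorem perm_three_affine : ∀ π π' : Perm (Fin 3),
    (π * π') 0 = if Perm.sign π = 1 then π 0 + π' 0 else π 0 - π' 0 := by decide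

theorem perm_three_one : ∀ π : Perm (Fin 3), Perm.sign π = 1 → π 0 = 0 → π = 1 := by decide

theorem perm_three_surj : ∀ (i : Fin 3) (e : ℤˣ), ∃ π : Perm (Fin 3), π 0 = i ∧ Perm.sign π = e := by
  decide

namespace Setup

variable {G : Type*} [Group G] [Finite G] {c : Setup G}

namespace Odd5

variable (o : c.Odd5)
include o

theorem q_mem_X : o.q ∈ c.X := c.mem_X.2 o.q_t

/-- The image of the odd element. -/
noncomputable def qb : c.Xb := c.π ⟨o.q, o.q_mem_X⟩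

/-- The image of the element inverting `z`. -/
noncomputable def bb : c.Xb := c.π ⟨c.jz * o.q, mul_mem c.jz_mem_X o.q_mem_X⟩

theorem π_eq_of {a b : c.X} (h : (b : G) = (a : G) ∨ (b : G) = (a : G) * c.t) : c.π a = c.π b :=
  c.π_eq_iff.2 h

theorem qb_sq : o.qb * o.qb = 1 := by
  rw [qb, ← map_mul, ← map_one c.π]
  exact (o.π_eq_of (Or.inr (by
    show (1 : G) = o.q * o.q * c.t
    rw [o.q_sq, c.t_sq]))).trans rfl

theorem bb_sq : o.bb * o.bb = 1 := by
  rw [bb, ← map_mul, ← map_one c.π]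
  exact (o.π_eq_of (Or.inr (by
    show (1 : G) = c.jz * o.q * (c.jz * o.q) * c.t
    rw [o.b_sq, c.t_sq]))).trans rfl

/-- The image of the conjugate of `j`. -/
noncomputable def jzb (_o : c.Odd5) : c.Xb := c.π ⟨c.jz, c.jz_mem_X⟩

theorem bb_eq : o.bb = o.jzb * o.qb := by rw [bb, jzb, qb, ← map_mul]; rfl

theorem jzb_sq : o.jzb * o.jzb = 1 := by
  rw [jzb, ← map_mul, ← map_one c.π]
  exact (o.π_eq_of (Or.inr (by
    show (1 : G) = c.jz * c.jz * c.t
    rw [c.jz_sq, c.t_sq]))).trans rfl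

theorem jzb_qb : o.jzb * o.qb = o.qb * o.jzb := by
  have h := o.bb_sq
  rw [o.bb_eq] at h
  have h1 : (o.jzb * o.qb)⁻¹ = o.jzb * o.qb := inv_eq_of_mul_eq_one_right h
  rw [mul_inv_rev, inv_eq_of_mul_eq_one_right o.qb_sq, inv_eq_of_mul_eq_one_right o.jzb_sq] at h1
  exact h1.symm

theorem qb_eq : o.qb = o.bb * o.jzb := by
  rw [o.bb_eq, mul_assoc, ← o.jzb_qb, ← mul_assoc, o.jzb_sq, one_mul]

theorem bb_jzb : o.bb * o.jzb = o.jzb * o.bb := by
  rw [← o.qb_eq, o.bb_eq, ← mul_assoc, o.jzb_sq, one_mul]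

theorem bb_z : o.bb * c.zb * o.bb⁻¹ = c.zb⁻¹ := by
  rw [bb, zb, ← map_inv, ← map_mul, ← map_mul, ← map_inv]
  congr 1
  refine Subtype.ext ?_
  show c.jz * o.q * c.z * (c.jz * o.q)⁻¹ = c.z⁻¹
  rw [conj_conj, conj_of_comm o.q_z, c.jz_z]

theorem al_even (y : SLFive) :
    c.al (altFive y : Perm (Fin 5)) = c.π ⟨c.σ y, c.σ_mem_X y⟩ := by
  rw [← c.al_ρY ⟨⟨c.σ y, c.σ_mem_X y⟩, y, Or.inl rfl⟩, c.ρY_σ (y := y) rfl]

theorem al_jz : c.al (c.ρ ⟨c.jz, c.jz_N5⟩) = o.jzb := by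
  have h : (⟨c.jz, c.jz_mem_X⟩ : c.X) ∈ c.Y := ⟨1, Or.inr (by simp)⟩
  rw [jzb, show c.π ⟨c.jz, c.jz_mem_X⟩ = c.al (c.ρY ⟨_, h⟩) from (c.al_ρY ⟨_, h⟩).symm]
  congr 1

theorem bb_al (p : Perm (Fin 5)) : Commute o.bb (c.al p) := by
  have heven : ∀ y, Commute o.bb (c.al (altFive y : Perm (Fin 5))) := fun y => by
    rw [o.al_even, bb]
    show c.π _ * c.π _ = c.π _ * c.π _
    rw [← map_mul, ← map_mul]
    exact congrArg c.π (Subtype.ext (o.b_σ y))
  rcases Int.units_eq_one_or (Perm.sign p) with h | h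
  · obtain ⟨y, hy⟩ := altFive_surj ⟨p, Perm.mem_alternatingGroup.2 h⟩
    have := heven y
    rwa [hy] at this
  · obtain ⟨y, hy⟩ := altFive_surj ⟨(c.ρ ⟨c.jz, c.jz_N5⟩)⁻¹ * p, Perm.mem_alternatingGroup.2 (by
      rw [map_mul, map_inv, c.sign_jz, h]; rfl)⟩
    have h1 : p = c.ρ ⟨c.jz, c.jz_N5⟩ * (altFive y : Perm (Fin 5)) := by rw [hy, mul_inv_cancel_left]
    rw [h1, map_mul, o.al_jz]
    exact (show Commute o.bb o.jzb from o.bb_jzb).mul_right (heven y)

/-- The inverter as a sign homomorphism. -/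
noncomputable def bh : ℤˣ →* c.Xb where
  toFun e := if e = 1 then 1 else o.bb
  map_one' := if_pos rfl
  map_mul' e f := by
    rcases Int.units_eq_one_or e with rfl | rfl <;> rcases Int.units_eq_one_or f with rfl | rfl
    · simp
    · simp
    · simp
    · rw [if_pos (show (-1 : ℤˣ) * -1 = 1 by decide), if_neg (by decide), o.bb_sq]

theorem bh_neg : o.bh (-1) = o.bb := by
  show (if (-1 : ℤˣ) = 1 then 1 else o.bb) = o.bb
  rw [if_neg (by decide)]

theorem bh_al (e : ℤˣ) (p : Perm (Fin 5)) : Commute (o.bh e) (c.al p) := by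
  rcases Int.units_eq_one_or e with rfl | rfl
  · rw [map_one]; exact Commute.one_left _
  · rw [o.bh_neg]; exact o.bb_al p

/-- The symmetric group of degree five centralising `z`. -/
noncomputable def al₂ : Perm (Fin 5) →* c.Xb :=
  MonoidHom.mk' (fun p => c.al p * o.bh (Perm.sign p)) fun p p' => by
    rw [map_mul, map_mul, map_mul, (o.bh_al (Perm.sign p) p').symm.mul_mul_mul_comm]

theorem al₂_apply (p : Perm (Fin 5)) : o.al₂ p = c.al p * o.bh (Perm.sign p) := rfl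

theorem al₂_z (p : Perm (Fin 5)) : Commute (o.al₂ p) c.zb := by
  rw [o.al₂_apply]
  refine comm_of_conj ?_
  rcases Int.units_eq_one_or (Perm.sign p) with h | h
  · rw [h, map_one, mul_one]
    exact conj_of_comm (c.al_comm h)
  · rw [h, o.bh_neg, conj_conj, o.bb_z, ← conj_inv, c.al_inv h, inv_inv]

theorem al₂_bb (p : Perm (Fin 5)) : Commute o.bb (o.al₂ p) := by
  rw [o.al₂_apply]
  refine (o.bb_al p).mul_right ?_
  rcases Int.units_eq_one_or (Perm.sign p) with h | h <;> rw [h]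
  · rw [map_one]; exact Commute.one_right _
  · rw [o.bh_neg]; exact Commute.refl _

theorem al₂_qb : o.al₂ (c.ρ ⟨c.jz, c.jz_N5⟩) = o.qb := by
  rw [o.al₂_apply, o.al_jz, c.sign_jz, o.bh_neg, ← o.bb_jzb, o.qb_eq]

theorem al₂_trivial {p : Perm (Fin 5)} {i : ℕ} (h : o.al₂ p = c.zb ^ i) : p = 1 := by
  refine centralizer_alt p fun π hπ => c.al_inj ?_
  rw [map_mul, map_mul]
  have hd : c.al p = c.zb ^ i * (o.bh (Perm.sign p))⁻¹ := by rw [← h, o.al₂_apply, mul_inv_cancel_right]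
  rw [hd]
  exact (((show Commute c.zb (c.al π) from (c.al_comm hπ).symm).pow_left i).mul_left
    (o.bh_al _ π).inv_left).eq

/-- The symmetric group of degree three inverting `z`. -/
noncomputable def s₃ : Perm (Fin 3) →* c.Xb :=
  MonoidHom.mk' (fun π => c.zb ^ (π 0 : ℕ) * o.bh (Perm.sign π)) fun π π' => by
    rw [perm_three_affine π π', map_mul, map_mul]
    rcases Int.units_eq_one_or (Perm.sign π) with h | h
    · rw [if_pos h, h, map_one, one_mul, mul_one, pow_fin_add c.zb_cube, mul_assoc]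
    · rw [if_neg (by rw [h]; decide), h, o.bh_neg, sub_eq_add_neg, pow_fin_add c.zb_cube,
        pow_fin_neg c.zb_cube, ← inv_pow, ← o.bb_z, conj_pow]
      group

theorem s₃_apply (π : Perm (Fin 3)) : o.s₃ π = c.zb ^ (π 0 : ℕ) * o.bh (Perm.sign π) := rfl

theorem s₃_al₂ (π : Perm (Fin 3)) (p : Perm (Fin 5)) : Commute (o.s₃ π) (o.al₂ p) := by
  rw [o.s₃_apply]
  refine ((o.al₂_z p).symm.pow_left _).mul_left ?_
  rcases Int.units_eq_one_or (Perm.sign π) with h | h <;> rw [h]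
  · rw [map_one]; exact Commute.one_left _
  · rw [o.bh_neg]; exact o.al₂_bb p

theorem cent_z {τ : c.Xb} (h : τ * c.zb = c.zb * τ) :
    ∃ (i : Fin 3) (p : Perm (Fin 5)), τ = c.zb ^ (i : ℕ) * o.al₂ p := by
  obtain ⟨a, rfl⟩ := c.π_surj τ
  have hz : (a : G) * c.z = c.z * a := c.lift_comm (x := ⟨c.z, c.z_mem_X⟩) c.z_cube h
  have ht := c.mem_X.1 a.2
  have hN : ∀ r : G, r * c.z = c.z * r → r * c.t = c.t * r → r ∈ c.N5 := fun r hz ht =>
    c.mem_N5 ht (by rw [conj_of_comm hz]; exact Subgroup.mem_zpowers _)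
  have hev : ∀ y : SLFive, o.al₂ (altFive y : Perm (Fin 5)) = c.π ⟨c.σ y, c.σ_mem_X y⟩ := fun y => by
    rw [o.al₂_apply, o.al_even, Perm.mem_alternatingGroup.1 (altFive y).2, map_one, mul_one]
  rcases Int.units_eq_one_or (Perm.sign (c.ρ ⟨(a : G), hN _ hz ht⟩)) with hs | hs
  · obtain ⟨i, x, hx⟩ := c.inner_decomp (n := ⟨(a : G), hN _ hz ht⟩) hz ht hs
    refine ⟨i, (altFive x : Perm (Fin 5)), ?_⟩
    rw [hev, zb, ← map_pow, ← map_mul]
    exact congrArg c.π (Subtype.ext hx)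
  · have hz' : (a : G) * o.q⁻¹ * c.z = c.z * ((a : G) * o.q⁻¹) :=
      ((show Commute (a : G) c.z from hz).mul_left (show Commute o.q c.z from o.q_z).inv_left).eq
    have ht' : (a : G) * o.q⁻¹ * c.t = c.t * ((a : G) * o.q⁻¹) :=
      ((show Commute (a : G) c.t from ht).mul_left (show Commute o.q c.t from o.q_t).inv_left).eq
    obtain ⟨i, x, hx⟩ := c.inner_decomp (n := ⟨(a : G) * o.q⁻¹, hN _ hz' ht'⟩) hz' ht' (by
      rw [show (⟨(a : G) * o.q⁻¹, hN _ hz' ht'⟩ : c.N5) =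
        ⟨(a : G), hN _ hz ht⟩ * ⟨o.q, hN o.q o.q_z o.q_t⟩⁻¹ from Subtype.ext rfl, map_mul, map_inv,
        map_mul, map_inv, hs, o.q_odd]
      rfl)
    refine ⟨i, (altFive x : Perm (Fin 5)) * c.ρ ⟨c.jz, c.jz_N5⟩, ?_⟩
    rw [map_mul, hev, o.al₂_qb, zb, qb, ← map_pow, ← map_mul, ← map_mul]
    refine congrArg c.π (Subtype.ext ?_)
    change (a : G) * o.q⁻¹ = c.z ^ (i : ℕ) * c.σ x at hx
    show (a : G) = c.z ^ (i : ℕ) * (c.σ x * o.q)
    rw [← mul_assoc, ← hx, inv_mul_cancel_right]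

theorem eC : Nonempty (Subgroup.centralizer ({c.zb} : Set c.Xb) ≃*
    Multiplicative (ZMod 3) × Perm (Fin 5)) := by
  let f : Multiplicative (ZMod 3) × Perm (Fin 5) →* Subgroup.centralizer ({c.zb} : Set c.Xb) :=
    MonoidHom.mk' (fun x => ⟨c.zb ^ x.1.toAdd.val * o.al₂ x.2,
      Subgroup.mem_centralizer_singleton_iff.2
        (((Commute.refl c.zb).pow_left _).mul_left (o.al₂_z x.2)).eq⟩) fun x y => Subtype.ext (by
      show c.zb ^ (x.1.toAdd + y.1.toAdd).val * o.al₂ (x.2 * y.2) = _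
      rw [map_mul, ZMod.val_add, ← pow_eq_pow_mod _ c.zb_cube, pow_add,
        ((o.al₂_z x.2).symm.pow_left _).mul_mul_mul_comm]
      rfl)
  have hz : orderOf c.zb = 3 := orderOf_eq_prime c.zb_cube c.zb_ne
  refine ⟨(MulEquiv.ofBijective f ⟨?_, ?_⟩).symm⟩
  · refine (injective_iff_map_eq_one f).2 fun x hx => ?_
    obtain ⟨i, hi⟩ : ∃ i : ℕ, i = x.1.toAdd.val := ⟨_, rfl⟩
    have h : c.zb ^ i * o.al₂ x.2 = 1 := by rw [hi]; exact (congrArg Subtype.val hx :)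
    have h1 : o.al₂ x.2 = c.zb ^ (2 * i) := by
      calc o.al₂ x.2 = (c.zb ^ i)⁻¹ * (c.zb ^ i * o.al₂ x.2) := by group
        _ = (c.zb ^ i)⁻¹ * (c.zb ^ 3) ^ i := by rw [h, c.zb_cube, one_pow]
        _ = _ := by rw [← pow_mul, show 3 * i = i + 2 * i by ring, pow_add, inv_mul_cancel_left]
    have hp := o.al₂_trivial h1
    rw [hp, map_one, mul_one] at h
    refine Prod.ext (Multiplicative.toAdd.injective ?_) hp
    show x.1.toAdd = 0
    refine (ZMod.val_eq_zero _).1 (pow_injOn_Iio_orderOf ?_ ?_ (h.trans (pow_zero _).symm) |> fun e => hi ▸ e)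
    · rw [hz, hi]; exact ZMod.val_lt _
    · rw [hz]; norm_num
  · rintro ⟨τ, hτ⟩
    obtain ⟨i, p, rfl⟩ := o.cent_z (Subgroup.mem_centralizer_singleton_iff.1 hτ)
    refine ⟨(Multiplicative.ofAdd ((i : ℕ) : ZMod 3), p), Subtype.ext ?_⟩
    show c.zb ^ ((i : ℕ) : ZMod 3).val * o.al₂ p = _
    rw [ZMod.val_natCast, Nat.mod_eq_of_lt i.2]

theorem conj_cases {τ : c.Xb} (h : τ ∈ Subgroup.normalizer (Subgroup.zpowers c.zb : Set c.Xb)) :
    τ * c.zb * τ⁻¹ = c.zb ∨ τ * c.zb * τ⁻¹ = c.zb⁻¹ := by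
  obtain ⟨k, hk⟩ := conj_mem_of_norm h (Subgroup.mem_zpowers c.zb)
  have h3 : c.zb ^ (3 : ℤ) = 1 := by exact_mod_cast c.zb_cube
  change c.zb ^ k = _ at hk
  rw [← Int.emod_add_mul_ediv k 3, zpow_add, zpow_mul, h3, one_zpow, mul_one] at hk
  have : k % 3 = 0 ∨ k % 3 = 1 ∨ k % 3 = 2 := by omega
  rcases this with e | e | e <;> rw [e] at hk
  · exact absurd (conj_eq_one_iff.1 (hk.symm.trans (zpow_zero _))) c.zb_ne
  · exact Or.inl (hk.symm.trans (zpow_one _))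
  · refine Or.inr (hk.symm.trans ?_)
    rw [show (2 : ℤ) = ((2 : ℕ) : ℤ) from rfl, zpow_natCast]
    exact (inv_eq_of_mul_eq_one_right (by rw [← pow_succ', c.zb_cube])).symm

theorem eL : Nonempty (Subgroup.normalizer (Subgroup.zpowers c.zb : Set c.Xb) ≃*
    Perm (Fin 3) × Perm (Fin 5)) := by
  have hmem : ∀ τ : c.Xb, τ * c.zb * τ⁻¹ = c.zb ∨ τ * c.zb * τ⁻¹ = c.zb⁻¹ →
      τ ∈ Subgroup.normalizer (Subgroup.zpowers c.zb : Set c.Xb) := fun τ h =>
    mem_norm_of_conj fun x hx => by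
      obtain ⟨k, rfl⟩ := hx
      show τ * c.zb ^ k * τ⁻¹ ∈ _
      rw [← conj_zpow]
      rcases h with h | h <;> rw [h]
      · exact zpow_mem (Subgroup.mem_zpowers _) _
      · exact zpow_mem (inv_mem (Subgroup.mem_zpowers _)) _
  have hbz : ∀ e : ℤˣ, o.bh e * c.zb * (o.bh e)⁻¹ = c.zb ∨ o.bh e * c.zb * (o.bh e)⁻¹ = c.zb⁻¹ := by
    intro e
    rcases Int.units_eq_one_or e with rfl | rfl
    · exact Or.inl (by simp)
    · exact Or.inr (by rw [o.bh_neg]; exact o.bb_z)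
  let f : Perm (Fin 3) × Perm (Fin 5) →* Subgroup.normalizer (Subgroup.zpowers c.zb : Set c.Xb) :=
    MonoidHom.mk' (fun x => ⟨o.s₃ x.1 * o.al₂ x.2, mul_mem (by
        rw [o.s₃_apply]
        exact mul_mem (Subgroup.le_normalizer (pow_mem (Subgroup.mem_zpowers _) _)) (hmem _ (hbz _)))
      (hmem _ (Or.inl (conj_of_comm (o.al₂_z x.2).eq)))⟩) fun x y => Subtype.ext (by
      show o.s₃ (x.1 * y.1) * o.al₂ (x.2 * y.2) = _
      rw [map_mul, map_mul, (o.s₃_al₂ y.1 x.2).mul_mul_mul_comm]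
      rfl)
  refine ⟨(MulEquiv.ofBijective f ⟨?_, ?_⟩).symm⟩
  · refine (injective_iff_map_eq_one f).2 fun x hx => ?_
    have h : o.s₃ x.1 * o.al₂ x.2 = 1 := congrArg Subtype.val hx
    rw [o.s₃_apply] at h
    have hs : Perm.sign x.1 = 1 := by
      refine (Int.units_eq_one_or _).resolve_right fun e => ?_
      rw [e, o.bh_neg] at h
      have h2 : c.zb ^ (x.1 0 : ℕ) * o.bb * o.al₂ x.2 * c.zb *
          (c.zb ^ (x.1 0 : ℕ) * o.bb * o.al₂ x.2)⁻¹ = c.zb := by rw [h]; simp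
      rw [conj_conj, conj_of_comm (o.al₂_z x.2).eq, conj_conj, o.bb_z, ← conj_inv,
        conj_of_comm ((Commute.refl c.zb).pow_left _).eq] at h2
      refine c.zb_ne ?_
      have h3 := c.zb_cube
      rw [pow_succ, sq] at h3
      calc c.zb = c.zb * (c.zb * c.zb⁻¹) := by simp
        _ = c.zb * c.zb * c.zb := by rw [h2]; group
        _ = 1 := h3
    rw [hs, map_one, mul_one] at h
    have hp := o.al₂_trivial (p := x.2) (i := ((-(x.1 0) : Fin 3) : ℕ)) (by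
      rw [pow_fin_neg c.zb_cube]; exact eq_inv_of_mul_eq_one_right h)
    rw [hp, map_one, mul_one] at h
    have hz : orderOf c.zb = 3 := orderOf_eq_prime c.zb_cube c.zb_ne
    refine Prod.ext (perm_three_one _ hs (Fin.ext ?_)) hp
    exact pow_injOn_Iio_orderOf (by rw [hz]; exact (x.1 0).2) (by rw [hz]; norm_num)
      (h.trans (pow_zero _).symm)
  · rintro ⟨τ, hτ⟩
    obtain ⟨e, he⟩ : ∃ e : ℤˣ, (o.bh e * τ) * c.zb = c.zb * (o.bh e * τ) := by
      rcases o.conj_cases hτ with h | h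
      · exact ⟨1, comm_of_conj (by rw [map_one, one_mul]; exact h)⟩
      · exact ⟨-1, comm_of_conj (by rw [o.bh_neg, conj_conj, h, ← conj_inv, o.bb_z, inv_inv])⟩
    obtain ⟨i, p, hip⟩ := o.cent_z he
    have he2 : o.bh e * o.bh e = 1 := by
      rw [← map_mul, show e * e = 1 from Int.units_mul_self e, map_one]
    obtain ⟨i', hτ'⟩ : ∃ i' : Fin 3, τ = c.zb ^ (i' : ℕ) * o.bh e * o.al₂ p := by
      rcases Int.units_eq_one_or e with rfl | rfl
      · exact ⟨i, by rw [map_one, one_mul] at hip; rw [map_one, mul_one]; exact hip⟩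
      · refine ⟨-i, ?_⟩
        rw [o.bh_neg] at hip he2 ⊢
        rw [pow_fin_neg c.zb_cube, ← inv_pow, ← o.bb_z, conj_pow, inv_mul_cancel_right, mul_assoc,
          ← hip, ← mul_assoc, he2, one_mul]
    obtain ⟨π, hπ0, hπs⟩ := perm_three_surj i' e
    refine ⟨(π, p), Subtype.ext ?_⟩
    show o.s₃ π * o.al₂ p = τ
    rw [o.s₃_apply, hπ0, hπs, hτ']

end Odd5

end Setup

end CfsgLib.McLThreeLocal
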