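import Cfsg.Agent.McLThreeLocal.SymShape
import Cfsg.Agent.McLThreeLocal.PermEight

/-!
# The centraliser of `t` as a double cover of the symmetric group of degree eight

Transpositions lift to elements of square `t`, disjoint ones anticommute.
-/

set_option autoImplicit false
set_option linter.style.haveILetI false
set_option linter.unusedSectionVars false

namespace CfsgLib.McLThreeLocal

open Equiv

namespace Setup

universe u

variable {G : Type u} [Group G] [Finite G] {c : Setup G}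

namespace Odd5

variable (o : c.Odd5) (e : c.Xb ≃* Perm (Fin 8))
include o

/-- The projection onto the symmetric group. -/
noncomputable def ph (_o : c.Odd5) (e : c.Xb ≃* Perm (Fin 8)) : c.X →* Perm (Fin 8) :=
  e.toMonoidHom.comp c.π

/-- The parity. -/
noncomputable def sg (_o : c.Odd5) (e : c.Xb ≃* Perm (Fin 8)) : c.X →* ℤˣ :=
  Perm.sign.comp (o.ph e)

theorem ph_eq (a : c.X) : o.ph e a = e (c.π a) := rfl

theorem ph_surj : Function.Surjective (o.ph e) := e.surjective.comp c.π_surj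

theorem ph_eq_iff {a b : c.X} : o.ph e a = o.ph e b ↔ b = a ∨ b = a * c.tX := by
  rw [ph_eq, ph_eq, e.injective.eq_iff, c.π_eq_iff]
  constructor
  · rintro (h | h)
    · exact Or.inl (Subtype.ext h)
    · exact Or.inr (Subtype.ext h)
  · rintro (rfl | rfl)
    · exact Or.inl rfl
    · exact Or.inr rfl

theorem ph_tX : o.ph e c.tX = 1 := by
  rw [← map_one (o.ph e)]
  exact ((o.ph_eq_iff e).2 (Or.inr (one_mul _).symm)).symm

theorem tX_comm (a : c.X) : Commute c.tX a := Subtype.ext (c.mem_X.1 a.2).symm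

theorem tX_tX : c.tX * c.tX = 1 := Subtype.ext c.t_sq

theorem card_cent_zb (e : c.Xb ≃* Perm (Fin 8)) : (e c.zb).support.card = 3 := by
  have h3 : (e c.zb) ^ 3 = 1 := by rw [← map_pow, c.zb_cube, map_one]
  have h1 : e c.zb ≠ 1 := fun h => c.zb_ne (e.injective (h.trans (map_one e).symm))
  refine (three_support h3 h1).resolve_right fun h6 => ?_
  have hcard : Nat.card (Subgroup.centralizer ({e c.zb} : Set (Perm (Fin 8)))) = 360 := by
    obtain ⟨f⟩ := o.eC
    rw [← show Nat.card (Subgroup.centralizer ({c.zb} : Set c.Xb)) = 360 by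
      rw [Nat.card_congr f.toEquiv, Nat.card_prod, Nat.card_congr Multiplicative.toAdd, Nat.card_zmod,
        Nat.card_perm, Nat.card_fin]
      rfl]
    refine (Nat.card_congr (e.toEquiv.subtypeEquiv fun a => ?_)).symm
    rw [Subgroup.mem_centralizer_singleton_iff, Subgroup.mem_centralizer_singleton_iff]
    show a * c.zb = c.zb * a ↔ e a * e c.zb = e c.zb * e a
    rw [← map_mul, ← map_mul, e.injective.eq_iff]
  have ho : orderOf (e c.zb) = 3 := orderOf_eq_prime h3 h1
  obtain ⟨n, hn⟩ := Perm.cycleType_prime_order (σ := e c.zb) (ho ▸ Nat.prime_three)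
  rw [ho] at hn
  have hn1 : n = 1 := by
    rw [← Perm.sum_cycleType, hn, Multiset.sum_replicate, smul_eq_mul] at h6
    omega
  have := Perm.nat_card_centralizer (e c.zb)
  rw [hn, hn1, hcard] at this
  revert this
  decide

theorem conj_swap_fix {x : Perm (Fin 8)} {a b : Fin 8}
    (h : x * swap a b * x⁻¹ = swap a b) (hab : a ≠ b) : x a = a ∨ x a = b := by
  rw [swap_conj] at h
  have h1 := congrArg (fun p : Perm (Fin 8) => p (x a)) h
  simp only [swap_apply_left] at h1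
  by_contra hne
  push Not at hne
  rw [swap_apply_of_ne_of_ne hne.1 hne.2] at h1
  exact hab (x.injective h1).symm

theorem al_sign (p : Perm (Fin 5)) : Perm.sign (e (o.al₂ p)) = Perm.sign p := by
  let χ : Perm (Fin 5) →* ℤˣ := Perm.sign.comp (e.toMonoidHom.comp o.al₂)
  show χ p = Perm.sign p
  have hs : Function.Surjective χ := by
    intro u
    rcases Int.units_eq_one_or u with rfl | rfl
    · exact ⟨1, map_one _⟩
    by_contra hno
    push Not at hno
    have hev : ∀ q, χ q = 1 := fun q => (Int.units_eq_one_or _).resolve_right (hno q)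
    -- every element centralising `zb` would be even
    have hz3 := o.card_cent_zb e
    obtain ⟨a, ha, b, hb, hab⟩ := Finset.one_lt_card.1 (show 1 < (e c.zb).supportᶜ.card by
      rw [Finset.card_compl, hz3]; decide)
    rw [Finset.mem_compl, Perm.notMem_support] at ha hb
    have hc : e.symm (swap a b) * c.zb = c.zb * e.symm (swap a b) := by
      refine e.injective ?_
      rw [map_mul, map_mul, e.apply_symm_apply]
      exact (mul_swap_eq_swap_mul _ a b |>.trans (by rw [ha, hb])).symm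
    obtain ⟨i, q, hq⟩ := o.cent_z hc
    have h1 := congrArg (fun x => Perm.sign (e x)) hq
    simp only [e.apply_symm_apply, map_mul, map_pow, Perm.sign_swap hab] at h1
    rw [show Perm.sign (e c.zb) = 1 by
      have h3 : Perm.sign (e c.zb) ^ 3 = 1 := by
        rw [← map_pow, ← map_pow, c.zb_cube, map_one, map_one]
      rcases Int.units_eq_one_or (Perm.sign (e c.zb)) with h | h
      · exact h
      · rw [h] at h3; exact absurd h3 (by decide),
      show Perm.sign (e (o.al₂ q)) = 1 from hev q, one_pow, mul_one] at h1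
    exact absurd h1 (by decide)
  rw [Perm.eq_sign_of_surjective_hom hs]

/-- The images of the two anticommuting elements are disjoint transpositions. -/
theorem exists_pair : ∃ a b u v : Fin 8, a ≠ b ∧ u ≠ v ∧ a ≠ u ∧ a ≠ v ∧ b ≠ u ∧ b ≠ v ∧
    e o.bb = swap a b ∧ e o.qb = swap u v := by
  have hz3 := o.card_cent_zb e
  have hc3 : (e c.zb) ^ 3 = 1 := by rw [← map_pow, c.zb_cube, map_one]
  have hb2 : e o.bb * e o.bb = 1 := by rw [← map_mul, o.bb_sq, map_one]
  have hq2 : e o.qb * e o.qb = 1 := by rw [← map_mul, o.qb_sq, map_one]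
  have hz1 : c.zb ≠ 1 := c.zb_ne
  -- `bb` moves only points moved by `zb`
  have hbfix : ∀ x, x ∉ (e c.zb).support → e o.bb x = x := by
    intro x hx
    have hsw : ∀ y, y ∉ (e c.zb).support → y ≠ x → e o.bb x = x ∨ e o.bb x = y := by
      intro y hy hyx
      refine conj_swap_fix o ?_ hyx.symm
      rw [Perm.notMem_support] at hx hy
      have hc : e.symm (swap x y) * c.zb = c.zb * e.symm (swap x y) := by
        refine e.injective ?_
        rw [map_mul, map_mul, e.apply_symm_apply]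
        exact (mul_swap_eq_swap_mul _ x y |>.trans (by rw [hx, hy])).symm
      obtain ⟨i, q, hq⟩ := o.cent_z hc
      have hsq : c.zb ^ (2 * (i : ℕ)) * o.al₂ (q * q) = 1 := by
        rw [map_mul, two_mul, pow_add,
          ((o.al₂_z q).symm.pow_left (i : ℕ)).mul_mul_mul_comm, ← hq, ← map_mul, swap_mul_self,
          map_one]
      have hqq : q * q = 1 := o.al₂_trivial (i := (i : ℕ)) (by
        rw [← mul_eq_one_iff_inv_eq.1 hsq, inv_eq_iff_mul_eq_one, ← pow_add,
          show 2 * (i : ℕ) + i = 3 * i by ring, pow_mul, c.zb_cube, one_pow])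
      rw [hqq, map_one, mul_one] at hsq
      have hi : i = 0 := by
        by_contra hi
        refine hz1 ?_
        have key : ∀ i : Fin 3, i ≠ 0 → 2 * (i : ℕ) = 2 ∨ 2 * (i : ℕ) = 4 := by decide
        have h3 := c.zb_cube
        rcases key i hi with h | h <;> rw [h] at hsq
        · rwa [pow_succ, hsq, one_mul] at h3
        · rwa [pow_succ, h3, one_mul] at hsq
      rw [hi, Fin.val_zero, pow_zero, one_mul] at hq
      refine conj_of_comm ?_
      rw [← e.apply_symm_apply (swap x y), hq, ← map_mul, ← map_mul, (o.al₂_bb q).eq]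
    obtain ⟨y, hy, w, hw, hyw⟩ := Finset.one_lt_card.1
      (show 1 < ((e c.zb).supportᶜ.erase x).card by
        rw [Finset.card_erase_of_mem (Finset.mem_compl.2 hx), Finset.card_compl, hz3]; decide)
    rw [Finset.mem_erase, Finset.mem_compl] at hy hw
    rcases hsw y hy.2 hy.1 with h | h
    · exact h
    · rcases hsw w hw.2 hw.1 with h' | h'
      · exact h'
      · exact absurd (h.symm.trans h') hyw
  have hb1 : e o.bb ≠ 1 := fun h => hz1 (by
    have hb : o.bb = 1 := e.injective (h.trans (map_one e).symm)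
    have h2 := o.bb_z
    rw [hb, one_mul, inv_one, mul_one] at h2
    have h3 := c.zb_cube
    rwa [pow_succ, sq, show c.zb * c.zb = c.zb * c.zb⁻¹ by rw [← h2], mul_inv_cancel, one_mul] at h3)
  have hbsub : (e o.bb).support ⊆ (e c.zb).support := fun x hx => by
    by_contra h
    exact Perm.mem_support.1 hx (hbfix x h)
  obtain ⟨n, -, hn⟩ := invol_support hb2 hb1
  have hle := Finset.card_le_card hbsub
  rw [hz3, hn] at hle
  obtain ⟨a, b, hab, habe⟩ := Perm.card_support_eq_two.1 (show (e o.bb).support.card = 2 by omega)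
  -- `qb` fixes the points moved by `zb`
  have hqfix : ∀ x ∈ (e c.zb).support, e o.qb x = x := invol_fix_three hc3 hz3 hq2 (by
    rw [← map_mul, ← map_mul, o.qb_z.eq])
  have hqs : Perm.sign (e o.qb) = -1 := by rw [← o.al₂_qb, o.al_sign e, c.sign_jz]
  have hq1 : e o.qb ≠ 1 := fun h => by rw [h, map_one] at hqs; exact absurd hqs (by decide)
  obtain ⟨m, hm, hms⟩ := invol_support hq2 hq1
  have hqsub : (e o.qb).support ⊆ (e c.zb).supportᶜ := fun x hx => Finset.mem_compl.2 fun h =>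
    Perm.mem_support.1 hx (hqfix x h)
  have hle' := Finset.card_le_card hqsub
  rw [Finset.card_compl, hz3, hms, Fintype.card_fin] at hle'
  have hm0 : m = 0 := by
    rcases (show m = 0 ∨ m = 1 by omega) with h | h
    · exact h
    · rw [Perm.sign_of_cycleType, hm, h] at hqs
      exact absurd hqs (by decide)
  rw [hm0] at hms
  obtain ⟨u, v, huv, huve⟩ := Perm.card_support_eq_two.1 hms
  have hmem : ∀ x, (x = a ∨ x = b) → x ∈ (e c.zb).support := fun x hx => hbsub (by
    rw [habe, Perm.support_swap hab]; simpa using hx)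
  have hmem' : ∀ x, (x = u ∨ x = v) → x ∉ (e c.zb).support := fun x hx =>
    Finset.mem_compl.1 (hqsub (by rw [huve, Perm.support_swap huv]; simpa using hx))
  exact ⟨a, b, u, v, hab, huv, fun h => hmem' u (Or.inl rfl) (hmem u (Or.inl h.symm)),
    fun h => hmem' v (Or.inr rfl) (hmem v (Or.inl h.symm)),
    fun h => hmem' u (Or.inl rfl) (hmem u (Or.inr h.symm)),
    fun h => hmem' v (Or.inr rfl) (hmem v (Or.inr h.symm)), habe, huve⟩

theorem qX_bX : (⟨c.jz * o.q, mul_mem c.jz_mem_X o.q_mem_X⟩ : c.X) * ⟨o.q, o.q_mem_X⟩ =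
    ⟨o.q, o.q_mem_X⟩ * ⟨c.jz * o.q, mul_mem c.jz_mem_X o.q_mem_X⟩ * c.tX := by
  refine Subtype.ext ?_
  show c.jz * o.q * o.q = o.q * (c.jz * o.q) * c.t
  have h := o.b_sq
  have hj : o.q * c.jz * o.q = c.jz⁻¹ * c.t := by
    rw [eq_inv_mul_iff_mul_eq]
    calc c.jz * (o.q * c.jz * o.q) = c.jz * o.q * (c.jz * o.q) := by group
      _ = c.t := h
  rw [mul_assoc, o.q_sq, ← mul_assoc, hj, mul_assoc, c.t_sq, mul_one]
  refine (inv_eq_of_mul_eq_one_right ?_).symm
  rw [← mul_assoc, c.jz_sq, c.t_sq]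

/-- Lifts of four disjoint transpositions. -/
theorem exists_lifts : ∃ T : Fin 4 → c.X, (∀ i, o.ph e (T i) = sw i) ∧
    (∀ i, T i * T i = c.tX) ∧ ∀ i l, i ≠ l → T i * T l = T l * T i * c.tX := by
  obtain ⟨a, b, u, v, hab, huv, hau, hav, hbu, hbv, hbb, hqb⟩ := o.exists_pair e
  obtain ⟨B, hB⟩ : ∃ B : c.X, B = ⟨c.jz * o.q, mul_mem c.jz_mem_X o.q_mem_X⟩ := ⟨_, rfl⟩
  obtain ⟨Q, hQ⟩ : ∃ Q : c.X, Q = ⟨o.q, o.q_mem_X⟩ := ⟨_, rfl⟩
  have hBQ : B * Q = Q * B * c.tX := hB ▸ hQ ▸ o.qX_bX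
  have hB2 : B * B = c.tX := hB ▸ Subtype.ext o.b_sq
  have hphB : o.ph e B = swap a b := hB ▸ hbb
  have hphQ : o.ph e Q = swap u v := hQ ▸ hqb
  choose T hT using fun i => o.ph_surj e (sw i)
  have main : ∀ i l, i ≠ l → T i * T i = c.tX ∧ T i * T l = T l * T i * c.tX := by
    intro i l hil
    obtain ⟨ρ, h1, h2⟩ := exists_conj_pair hab huv hau hav hbu hbv hil
    obtain ⟨R, hR⟩ := o.ph_surj e ρ
    have e1 : T i = R * B * R⁻¹ ∨ T i = R * B * R⁻¹ * c.tX := (o.ph_eq_iff e).1 (by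
      rw [map_mul, map_mul, map_inv, hR, hphB, h1, hT])
    have e2 : T l = R * Q * R⁻¹ ∨ T l = R * Q * R⁻¹ * c.tX := (o.ph_eq_iff e).1 (by
      rw [map_mul, map_mul, map_inv, hR, hphQ, h2, hT])
    have hsc : R * B * R⁻¹ * (R * B * R⁻¹) = c.tX := by
      rw [show R * B * R⁻¹ * (R * B * R⁻¹) = R * (B * B) * R⁻¹ by group, hB2,
        conj_of_comm (o.tX_comm R).eq.symm]
    have hac : R * B * R⁻¹ * (R * Q * R⁻¹) = R * Q * R⁻¹ * (R * B * R⁻¹) * c.tX := by
      rw [show R * B * R⁻¹ * (R * Q * R⁻¹) = R * (B * Q) * R⁻¹ by group, hBQ,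
        show R * (Q * B * c.tX) * R⁻¹ = R * (Q * B) * (c.tX * R⁻¹) by group, (o.tX_comm R⁻¹).eq]
      group
    obtain ⟨A, hA⟩ : ∃ A, A = R * B * R⁻¹ := ⟨_, rfl⟩
    obtain ⟨D, hD⟩ : ∃ D, D = R * Q * R⁻¹ := ⟨_, rfl⟩
    rw [← hA] at e1 hsc
    rw [← hD] at e2
    rw [← hA, ← hD] at hac
    have hsq : ∀ A, T i = A ∨ T i = A * c.tX → A * A = c.tX → T i * T i = c.tX := by
      rintro A (h | h) hA <;> rw [h]
      · exact hA
      · rw [((o.tX_comm A)).mul_mul_mul_comm, hA, o.tX_tX, mul_one]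
    refine ⟨hsq A e1 hsc, ?_⟩
    have hmove : ∀ x y : c.X, x * c.tX * y = x * y * c.tX := fun x y => by
      rw [mul_assoc, (o.tX_comm y).eq, ← mul_assoc]
    rcases e1 with h | h <;> rcases e2 with h' | h' <;> rw [h, h'] <;>
      simp only [← mul_assoc, hmove, hac]
  refine ⟨T, hT, fun i => ?_, fun i l h => (main i l h).2⟩
  exact (main i (i + 1) (by revert i; decide)).1

/-- The involutions of `C(t)`: `t`, and two classes lying over products of three and four
disjoint transpositions, each closed under multiplication by `t`. -/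
theorem exists_classes : ∃ L₃ L₄ : c.X, L₃ * L₃ = 1 ∧ L₄ * L₄ = 1 ∧
    o.ph e L₃ = pr 2 ∧ o.ph e L₄ = pr 3 ∧
    (∃ h, h * L₃ * h⁻¹ = L₃ * c.tX) ∧ (∃ h, h * L₄ * h⁻¹ = L₄ * c.tX) ∧
    ∀ x : c.X, x * x = 1 → x ≠ 1 → x ≠ c.tX →
      ∃ h, h * L₃ * h⁻¹ = x ∨ h * L₄ * h⁻¹ = x := by
  obtain ⟨T, hT, hsq, hanti⟩ := o.exists_lifts e
  have hmove : ∀ x y : c.X, x * c.tX * y = x * y * c.tX := fun x y => by
    rw [mul_assoc, (o.tX_comm y).eq, ← mul_assoc]
  have hmove2 : ∀ x y : c.X, x * c.tX * y * c.tX = x * y := fun x y => by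
    rw [hmove, mul_assoc (x * y), o.tX_tX, mul_one]
  have htt : ∀ x : c.X, x * c.tX * c.tX = x := fun x => by rw [mul_assoc, o.tX_tX, mul_one]
  have a10 := hanti 1 0 (by decide)
  have a20 := hanti 2 0 (by decide)
  have a21 := hanti 2 1 (by decide)
  have a30 := hanti 3 0 (by decide)
  have a31 := hanti 3 1 (by decide)
  have a32 := hanti 3 2 (by decide)
  have a01 := hanti 0 1 (by decide)
  have a02 := hanti 0 2 (by decide)
  have a03 := hanti 0 3 (by decide)
  obtain ⟨L1, hL1⟩ : ∃ L1, L1 = T 0 * T 1 := ⟨_, rfl⟩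
  obtain ⟨L3, hL3⟩ : ∃ L3, L3 = T 0 * T 1 * T 2 := ⟨_, rfl⟩
  obtain ⟨L4, hL4⟩ : ∃ L4, L4 = T 0 * T 1 * T 2 * T 3 := ⟨_, rfl⟩
  have hc2 : T 2 * L1 = L1 * T 2 := by
    rw [hL1, ← mul_assoc, a20, hmove, mul_assoc (T 0) (T 2) (T 1), a21, ← mul_assoc, ← mul_assoc, htt]
  have hc3 : T 3 * L1 = L1 * T 3 := by
    rw [hL1, ← mul_assoc, a30, hmove, mul_assoc (T 0) (T 3) (T 1), a31, ← mul_assoc, ← mul_assoc, htt]
  have h11 : L1 * L1 = c.tX := by
    rw [hL1, show T 0 * T 1 * (T 0 * T 1) = T 0 * (T 1 * T 0) * T 1 by group, a10, ← mul_assoc,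
      ← mul_assoc, hsq, hmove, mul_assoc c.tX, hsq, htt]
  have h33 : L3 * L3 = 1 := by
    rw [hL3, ← hL1, (show Commute (T 2) L1 from hc2).mul_mul_mul_comm, h11, hsq, o.tX_tX]
  have hc33 : T 3 * L3 = L3 * T 3 * c.tX := by
    rw [hL3, ← hL1, ← mul_assoc, hc3, mul_assoc L1, a32, ← mul_assoc, ← mul_assoc]
  have h44 : L4 * L4 = 1 := by
    rw [hL4, ← hL3, show L3 * T 3 * (L3 * T 3) = L3 * (T 3 * L3) * T 3 by group, hc33, ← mul_assoc,
      ← mul_assoc, h33, one_mul, hmove, hsq, o.tX_tX]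
  have hph3 : o.ph e L3 = pr 2 := by rw [hL3, map_mul, map_mul, hT, hT, hT]; rfl
  have hph4 : o.ph e L4 = pr 3 := by rw [hL4, map_mul, map_mul, map_mul, hT, hT, hT, hT]; rfl
  have hf3 : T 3 * L3 * (T 3)⁻¹ = L3 * c.tX := by
    rw [hc33, hmove, mul_inv_cancel_right]
  have hU : T 1 * T 2 * T 3 * T 0 = T 0 * (T 1 * T 2 * T 3) * c.tX := by
    rw [mul_assoc (T 1 * T 2) (T 3) (T 0), a30, ← mul_assoc, ← mul_assoc,
      mul_assoc (T 1) (T 2) (T 0), a20, ← mul_assoc, ← mul_assoc, a10]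
    simp only [← mul_assoc, hmove, htt]
  have hf4 : T 0 * L4 * (T 0)⁻¹ = L4 * c.tX := by
    rw [mul_inv_eq_iff_eq_mul, hmove, hL4,
      show T 0 * T 1 * T 2 * T 3 = T 0 * (T 1 * T 2 * T 3) by simp only [mul_assoc],
      mul_assoc (T 0) (T 1 * T 2 * T 3) (T 0), hU]
    simp only [← mul_assoc, hmove, htt]
  refine ⟨L3, L4, h33, h44, hph3, hph4, ⟨_, hf3⟩, ⟨_, hf4⟩, fun x hx hx1 hxt => ?_⟩
  have hp1 : o.ph e x ≠ 1 := fun h => by
    rcases (o.ph_eq_iff e (a := 1) (b := x)).1 (by rw [map_one, h]) with h' | h'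
    · exact hx1 h'
    · exact hxt (by rw [h', one_mul])
  obtain ⟨k, ρ, hρ⟩ := invol_conj_eight (σ := o.ph e x) (by rw [← map_mul, hx, map_one]) hp1
  obtain ⟨R, hR⟩ := o.ph_surj e ρ
  have hlift : ∀ L : c.X, o.ph e L = pr k →
      x = R * L * R⁻¹ ∨ x = R * L * R⁻¹ * c.tX := fun L hL => (o.ph_eq_iff e).1 (by
    rw [map_mul, map_mul, map_inv, hR, hL, hρ])
  have hbad : ∀ L : c.X, L * L = c.tX → o.ph e L = pr k → False := fun L hLL hL => by
    have hcj : R * L * R⁻¹ * (R * L * R⁻¹) = c.tX := by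
      rw [show R * L * R⁻¹ * (R * L * R⁻¹) = R * (L * L) * R⁻¹ by group, hLL,
        conj_of_comm (o.tX_comm R).eq.symm]
    have hne : c.tX ≠ 1 := fun h => c.t_ne (congrArg Subtype.val h)
    rcases hlift L hL with h | h
    · exact hne (hcj.symm.trans (h ▸ hx))
    · rw [h, (o.tX_comm (R * L * R⁻¹)).mul_mul_mul_comm, hcj, o.tX_tX, mul_one] at hx
      exact hne hx
  have hgood : ∀ (L h : c.X), h * L * h⁻¹ = L * c.tX → o.ph e L = pr k → ∃ h', h' * L * h'⁻¹ = x := by
    intro L h hh hL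
    rcases hlift L hL with h' | h'
    · exact ⟨R, h'.symm⟩
    · refine ⟨R * h, ?_⟩
      rw [conj_conj, hh, h', show R * (L * c.tX) * R⁻¹ = R * L * (c.tX * R⁻¹) by group,
        (o.tX_comm R⁻¹).eq, ← mul_assoc]
  have key : k = 0 ∨ k = 1 ∨ k = 2 ∨ k = 3 :=
    (by decide : ∀ k : Fin 4, k = 0 ∨ k = 1 ∨ k = 2 ∨ k = 3) k
  rcases key with rfl | rfl | rfl | rfl
  · exact (hbad (T 0) (hsq 0) (by rw [hT]; rfl)).elim
  · exact (hbad L1 h11 (by rw [hL1, map_mul, hT, hT]; rfl)).elim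
  · obtain ⟨h, hh⟩ := hgood L3 _ hf3 hph3
    exact ⟨h, Or.inl hh⟩
  · obtain ⟨h, hh⟩ := hgood L4 _ hf4 hph4
    exact ⟨h, Or.inr hh⟩

theorem sg_pr : Perm.sign (pr 2) = -1 ∧ Perm.sign (pr 3) = 1 := by decide

end Odd5

end Setup

end CfsgLib.McLThreeLocal
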