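import Cfsg.Agent.McLThreeLocal.SymBasic
import Cfsg.Agent.S3330

/-!
# The second case: `C(t)` modulo `t` is the symmetric group of degree eight
-/

set_option autoImplicit false
set_option linter.style.haveILetI false
set_option linter.unusedSectionVars false

namespace CfsgLib.McLThreeLocal

open Equiv
open CfsgLib.AltEightLocal (centralizer_alt)

/-- A dihedral group of order eight times two, from generators. -/
theorem exists_hom_dihedral {H : Type*} [Group H] (r s q : H) (hr : r ^ 4 = 1) (hs : s * s = 1)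
    (hsr : s * r * s = r⁻¹) (hq : q * q = 1) (hqr : Commute q r) (hqs : Commute q s) :
    ∃ φ : DihedralGroup 4 × Multiplicative (ZMod 2) →* H,
      (∀ (i : ZMod 4) (e : Multiplicative (ZMod 2)),
        φ (DihedralGroup.r i, e) = r ^ i.val * q ^ e.toAdd.val) ∧
      ∀ (i : ZMod 4) (e : Multiplicative (ZMod 2)),
        φ (DihedralGroup.sr i, e) = s * r ^ i.val * q ^ e.toAdd.val := by
  have hadd : ∀ i j : ZMod 4, r ^ (i + j).val = r ^ i.val * r ^ j.val := fun i j => by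
    rw [← pow_add, ZMod.val_add, ← pow_eq_pow_mod _ hr]
  have hsub : ∀ i j : ZMod 4, r ^ (j - i).val = (r ^ i.val)⁻¹ * r ^ j.val := fun i j => by
    rw [eq_inv_mul_iff_mul_eq, ← hadd, add_sub_cancel]
  have hsp : ∀ n : ℕ, r ^ n * s = s * (r ^ n)⁻¹ := fun n => by
    have hsi : s⁻¹ = s := inv_eq_of_mul_eq_one_right hs
    have h : s * r ^ n * s⁻¹ = (r⁻¹) ^ n := by rw [← conj_pow, hsi, hsr]
    rw [inv_pow] at h
    calc r ^ n * s = s⁻¹ * (s * r ^ n * s⁻¹) * (s * s) := by group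
      _ = s * (r ^ n)⁻¹ := by rw [h, hs, hsi, mul_one]
  have hadd2 : ∀ e e' : Multiplicative (ZMod 2),
      q ^ (e * e').toAdd.val = q ^ e.toAdd.val * q ^ e'.toAdd.val := fun e e' => by
    have hq2 : q ^ 2 = 1 := by rw [sq, hq]
    show q ^ (e.toAdd + e'.toAdd).val = _
    rw [← pow_add, ZMod.val_add, ← pow_eq_pow_mod _ hq2]
  let f : DihedralGroup 4 → H := fun x => match x with
    | DihedralGroup.r i => r ^ i.val
    | DihedralGroup.sr i => s * r ^ i.val
  have hf : ∀ x y, f (x * y) = f x * f y := by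
    rintro (i | i) (j | j)
    · exact hadd i j
    · show s * r ^ (j - i).val = r ^ i.val * (s * r ^ j.val)
      rw [hsub, ← mul_assoc (r ^ i.val), hsp, mul_assoc]
    · show s * r ^ (i + j).val = s * r ^ i.val * r ^ j.val
      rw [hadd, mul_assoc]
    · show r ^ (j - i).val = s * r ^ i.val * (s * r ^ j.val)
      rw [hsub, ← mul_assoc (s * r ^ i.val), mul_assoc s (r ^ i.val) s, hsp, ← mul_assoc s s, hs,
        one_mul]
  have hqf : ∀ x (n : ℕ), Commute (q ^ n) (f x) := by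
    rintro (i | i) n
    · exact hqr.pow_pow _ _
    · exact (hqs.pow_left _).mul_right (hqr.pow_pow _ _)
  refine ⟨MonoidHom.mk' (fun x => f x.1 * q ^ x.2.toAdd.val) fun x y => ?_,
    fun _ _ => rfl, fun _ _ => rfl⟩
  show f (x.1 * y.1) * q ^ (x.2 * y.2).toAdd.val = _
  rw [hf, hadd2, (hqf y.1 _).symm.mul_mul_mul_comm]

/-- The action of the dihedral group on the two lines. -/
def dAct (a : Fin 3) : DihedralGroup 4 → V3 → V3
  | .r i, v => (fun u => (-(a * u.2), a * u.1))^[i.val] v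
  | .sr i, v =>
    (fun u => (a * u.2, a * u.1)) ((fun u => (-(a * u.2), a * u.1))^[i.val] v)

theorem dAct_faithful : ∀ a : Fin 3, a ≠ 0 → ∀ x : DihedralGroup 4,
    dAct a x (1, 0) = (1, 0) → dAct a x (0, 1) = (0, 1) → x = 1 := by decide

theorem dAct_sq : ∀ a : Fin 3, a ≠ 0 → ∀ x : DihedralGroup 4,
    dAct a x (1, 1) = (1, 1) ∨ dAct a x (1, 1) = (-1, -1) → x * x = 1 := by decide

set_option synthInstance.maxSize 2000 in
theorem dAct_exists : ∀ a : Fin 3, a ≠ 0 → ∀ u : V3, u ≠ 0 → (u.1 = 0 ∨ u.2 = 0) → ∀ v : V3,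
    v ≠ 0 → (v.1 = 0 ∨ v.2 = 0) → (∀ k : Fin 3, k ≠ 0 → v ≠ (k * u.1, k * u.2)) →
    ∃ d : DihedralGroup 4, dAct a d (1, 0) = u ∧ dAct a d (0, 1) = v := by decide

namespace Setup

universe u

variable {G : Type u} [Group G] [Finite G] {c : Setup G}

theorem wb_cube' (c : Setup G) : c.wb ^ 3 = 1 := by
  rw [wb, ← map_pow, show (⟨c.w, c.w_mem_X⟩ : c.X) ^ 3 = 1 from Subtype.ext c.w_cube, map_one]

theorem zb_wb' (c : Setup G) : c.zb * c.wb = c.wb * c.zb := by
  rw [zb, wb, ← map_mul, ← map_mul]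
  exact congrArg c.π (Subtype.ext c.w_z.symm)

namespace Odd5

variable (o : c.Odd5)
include o

/-- Coordinates of the Sylow subgroup. -/
noncomputable def grid (_o : c.Odd5) (v : V3) : c.Xb := c.zb ^ (v.1 : ℕ) * c.wb ^ (v.2 : ℕ)

theorem grid_add (u v : V3) : o.grid (u + v) = o.grid u * o.grid v := by
  have hc : Commute (c.wb ^ (u.2 : ℕ)) (c.zb ^ (v.1 : ℕ)) :=
    (show Commute c.wb c.zb from c.zb_wb'.symm).pow_pow _ _
  rw [grid, grid, grid, Prod.fst_add, Prod.snd_add, pow_fin_add c.zb_cube, pow_fin_add c.wb_cube']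
  exact hc.symm.mul_mul_mul_comm _ _

theorem grid_lift (v : V3) : o.grid v = c.π ⟨c.z ^ (v.1 : ℕ) * c.w ^ (v.2 : ℕ),
    mul_mem (pow_mem c.z_mem_X _) (pow_mem c.w_mem_X _)⟩ := by
  rw [grid, zb, wb, ← map_pow, ← map_pow, ← map_mul]; rfl

theorem grid_inj_b {u v : V3} (h : o.grid u = o.grid v) : u = v := by
  rw [o.grid_lift, o.grid_lift] at h
  have h' := c.π_cube_inj (c.J_exp _ (c.grid_mem_J _ _)) (c.J_exp _ (c.grid_mem_J _ _)) h
  obtain ⟨e1, e2⟩ := c.grid_inj h'.symm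
  exact Prod.ext e1 e2

/-- The Sylow subgroup. -/
noncomputable def D : Subgroup c.Xb where
  carrier := Set.range o.grid
  one_mem' := ⟨0, by simp [grid]⟩
  mul_mem' := by rintro _ _ ⟨u, rfl⟩ ⟨v, rfl⟩; exact ⟨u + v, o.grid_add u v⟩
  inv_mem' := by
    rintro _ ⟨u, rfl⟩
    exact ⟨-u, eq_inv_of_mul_eq_one_left (by rw [← o.grid_add, neg_add_cancel]; simp [grid])⟩

theorem grid_mem (v : V3) : o.grid v ∈ o.D := ⟨v, rfl⟩

theorem zb_mem : c.zb ∈ o.D := ⟨(1, 0), by simp [grid]⟩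

theorem wb_mem : c.wb ∈ o.D := ⟨(0, 1), by simp [grid]⟩

theorem D_comm : ∀ a ∈ o.D, ∀ b ∈ o.D, a * b = b * a := by
  rintro _ ⟨u, rfl⟩ _ ⟨v, rfl⟩
  rw [← o.grid_add, ← o.grid_add, add_comm]

theorem D_exp : ∀ a ∈ o.D, a ^ 3 = 1 := by
  rintro _ ⟨u, rfl⟩
  have h : ∀ u : V3, u + u + u = 0 := by decide
  simp only [pow_succ, pow_zero, one_mul]
  rw [← o.grid_add, ← o.grid_add, h]
  simp [grid]

theorem card_D : Nat.card o.D = 9 := by
  show Nat.card (Set.range o.grid) = 9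
  rw [← Nat.card_congr (Equiv.ofInjective o.grid fun u v h => o.grid_inj_b h), Nat.card_prod,
    Nat.card_fin]

theorem qb_z : Commute o.qb c.zb := by
  show c.π _ * c.π _ = c.π _ * c.π _
  rw [← map_mul, ← map_mul]
  exact congrArg c.π (Subtype.ext o.q_z)

theorem qb_w : Commute o.qb c.wb := by
  show c.π _ * c.π _ = c.π _ * c.π _
  rw [← map_mul, ← map_mul]
  exact congrArg c.π (Subtype.ext o.q_w)

theorem qb_grid (v : V3) : Commute o.qb (o.grid v) :=
  (o.qb_z.pow_right _).mul_right (o.qb_w.pow_right _)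

theorem cent_D {τ : c.Xb} (h1 : τ * c.zb = c.zb * τ) (h2 : τ * c.wb = c.wb * τ) :
    ∃ (v : V3) (l : Fin 2), τ = o.grid v * o.qb ^ (l : ℕ) := by
  obtain ⟨a, rfl⟩ := c.π_surj τ
  obtain ⟨i, m, k, l, hn⟩ := o.cent_R (c.lift_comm (x := ⟨c.z, c.z_mem_X⟩) c.z_cube h1)
    (c.lift_comm (x := ⟨c.w, c.w_mem_X⟩) c.w_cube h2) (c.mem_X.1 a.2)
  refine ⟨(i, m), l, ?_⟩
  rw [o.grid_lift, qb, ← map_pow, ← map_mul, eq_comm, c.π_eq_iff]
  push_cast
  fin_cases k
  · left; rw [hn]; simp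
  · right
    rw [hn]
    show c.z ^ (i : ℕ) * c.w ^ (m : ℕ) * c.t ^ 1 * o.q ^ (l : ℕ) =
      c.z ^ (i : ℕ) * c.w ^ (m : ℕ) * o.q ^ (l : ℕ) * c.t
    rw [pow_one, mul_assoc _ c.t, ← ((show Commute o.q c.t from o.q_t).pow_left _).eq, mul_assoc,
      mul_assoc, mul_assoc]

theorem qb_not_D : o.qb ∉ o.D := fun h => by
  have h3 := o.D_exp _ h
  have h2 := o.qb_sq
  rw [pow_succ, sq, h2, one_mul] at h3
  rw [← o.al₂_qb, ← pow_zero c.zb] at h3
  have h4 := o.al₂_trivial h3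
  have hs := c.sign_jz
  rw [h4, map_one] at hs
  exact absurd hs (by decide)

/-- The exchange. -/
noncomputable def gb (_o : c.Odd5) : c.Xb := c.π ⟨c.g, c.mem_X.2 c.t_g.symm⟩

/-- The image of `j`. -/
noncomputable def jb (_o : c.Odd5) : c.Xb := c.π ⟨c.j, c.σ_mem_X _⟩

theorem gb_sq : o.gb * o.gb = 1 := by
  rw [gb, ← map_mul, ← map_one c.π]
  exact congrArg c.π (Subtype.ext c.g_sq)

theorem gb_inv : o.gb⁻¹ = o.gb := inv_eq_of_mul_eq_one_right o.gb_sq

theorem jb_sq : o.jb * o.jb = 1 := by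
  rw [jb, ← map_mul, ← map_one c.π]
  exact (c.π_eq_iff.2 (Or.inr (by
    show (1 : G) = c.j * c.j * c.t
    rw [c.j_sq, c.t_sq]))).trans rfl

theorem jb_inv : o.jb⁻¹ = o.jb := inv_eq_of_mul_eq_one_right o.jb_sq

theorem gjg : o.gb * o.jb * o.gb = o.jzb := by
  rw [gb, jb, jzb, ← map_mul, ← map_mul]; rfl

theorem jb_jzb : o.jzb * o.jb = o.jb * o.jzb := by
  rw [jb, jzb, ← map_mul, ← map_mul, eq_comm, c.π_eq_iff]
  right
  show c.jz * c.j = c.j * c.jz * c.t
  rw [c.jz_j]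
  exact (((show Commute c.t c.j from c.j_t.symm).mul_right (show Commute c.t c.jz from c.jz_t.symm))).eq

theorem qb_jb : Commute o.qb o.jb := by
  show c.π _ * c.π _ = c.π _ * c.π _
  rw [← map_mul, ← map_mul, eq_comm, c.π_eq_iff]
  right
  show o.q * c.j = c.j * o.q * c.t
  rw [o.q_j]
  exact ((show Commute c.t c.j from c.j_t.symm).mul_right (show Commute c.t o.q from o.q_t.symm)).eq

theorem gb_grid (v : V3) : o.gb * o.grid v * o.gb⁻¹ = o.grid (c.a * v.2, c.a * v.1) := by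
  have hz : o.gb * c.zb * o.gb⁻¹ = c.wb ^ (c.a : ℕ) := by
    rw [o.gb_inv, gb, zb, wb, ← map_pow, ← map_mul, ← map_mul]
    exact congrArg c.π (Subtype.ext (by push_cast; exact c.g_z))
  have hw : o.gb * c.wb * o.gb⁻¹ = c.zb ^ (c.a : ℕ) := by
    rw [o.gb_inv, gb, zb, wb, ← map_pow, ← map_mul, ← map_mul]
    exact congrArg c.π (Subtype.ext (by push_cast; exact c.g_w))
  rw [grid, grid, show o.gb * (c.zb ^ (v.1 : ℕ) * c.wb ^ (v.2 : ℕ)) * o.gb⁻¹ =
    o.gb * c.zb ^ (v.1 : ℕ) * o.gb⁻¹ * (o.gb * c.wb ^ (v.2 : ℕ) * o.gb⁻¹) by group,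
    ← conj_pow, ← conj_pow, hz, hw, ← pow_fin_mul c.wb_cube', ← pow_fin_mul c.zb_cube]
  exact ((show Commute c.wb c.zb from c.zb_wb'.symm).pow_pow _ _).eq

theorem jb_grid (v : V3) : o.jb * o.grid v * o.jb⁻¹ = o.grid (v.1, -v.2) := by
  have hz : o.jb * c.zb * o.jb⁻¹ = c.zb := by
    rw [jb, zb, ← map_inv, ← map_mul, ← map_mul]
    exact congrArg c.π (Subtype.ext (conj_of_comm c.j_z))
  have hw : o.jb * c.wb * o.jb⁻¹ = c.wb⁻¹ := by
    rw [jb, wb, ← map_inv, ← map_mul, ← map_mul, ← map_inv]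
    exact congrArg c.π (Subtype.ext c.j_w)
  rw [grid, grid, show o.jb * (c.zb ^ (v.1 : ℕ) * c.wb ^ (v.2 : ℕ)) * o.jb⁻¹ =
    o.jb * c.zb ^ (v.1 : ℕ) * o.jb⁻¹ * (o.jb * c.wb ^ (v.2 : ℕ) * o.jb⁻¹) by group,
    ← conj_pow, ← conj_pow, hz, hw, inv_pow, pow_fin_neg c.wb_cube']

/-- The normaliser of the Sylow subgroup. -/
noncomputable def Nd : Subgroup c.Xb := Subgroup.normalizer (o.D : Set c.Xb)

theorem mem_Nd {τ : c.Xb} (h : ∀ v, τ * o.grid v * τ⁻¹ ∈ o.D) : τ ∈ o.Nd :=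
  mem_norm_of_conj (by rintro _ ⟨v, rfl⟩; exact h v)

theorem gb_Nd : o.gb ∈ o.Nd := o.mem_Nd fun v => by rw [o.gb_grid]; exact o.grid_mem _

theorem jb_Nd : o.jb ∈ o.Nd := o.mem_Nd fun v => by rw [o.jb_grid]; exact o.grid_mem _

theorem qb_Nd : o.qb ∈ o.Nd := o.mem_Nd fun v => by
  rw [conj_of_comm (o.qb_grid v).eq]; exact o.grid_mem _

/-- The Sylow subgroup inside its normaliser. -/
noncomputable def DN : Subgroup o.Nd := o.D.subgroupOf o.Nd

instance DN_normal : o.DN.Normal := Subgroup.normal_in_normalizer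

theorem exists_iso : ∃ ε : DihedralGroup 4 × Multiplicative (ZMod 2) ≃* o.Nd ⧸ o.DN,
    ∀ (τ : o.Nd) (x : DihedralGroup 4 × Multiplicative (ZMod 2)),
      (QuotientGroup.mk τ : o.Nd ⧸ o.DN) = ε x →
        (∀ v, (τ : c.Xb) * o.grid v * (τ : c.Xb)⁻¹ = o.grid (dAct c.a x.1 v)) := by
  obtain ⟨g', hg'⟩ : ∃ g' : o.Nd, g' = ⟨o.gb, o.gb_Nd⟩ := ⟨_, rfl⟩
  obtain ⟨j', hj'⟩ : ∃ j' : o.Nd, j' = ⟨o.jb, o.jb_Nd⟩ := ⟨_, rfl⟩
  obtain ⟨q', hq'⟩ : ∃ q' : o.Nd, q' = ⟨o.qb, o.qb_Nd⟩ := ⟨_, rfl⟩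
  have hD : ∀ τ : o.Nd, (QuotientGroup.mk τ : o.Nd ⧸ o.DN) = 1 ↔ (τ : c.Xb) ∈ o.D := fun τ =>
    QuotientGroup.eq_one_iff τ
  -- the exchange centralises the odd element modulo `D`
  have hgq : Commute (QuotientGroup.mk q' : o.Nd ⧸ o.DN) (QuotientGroup.mk g') := by
    obtain ⟨v, l, h⟩ := o.cent_D (τ := o.gb * o.qb * o.gb)
      (by
        have hz : o.gb * c.zb * o.gb⁻¹ = o.grid (c.a * 0, c.a * 1) := by
          rw [← o.gb_grid (1, 0)]; simp [grid]
        refine comm_of_conj ?_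
        rw [conj_conj, hz, conj_conj, conj_of_comm (o.qb_grid _).eq, o.gb_grid]
        have key : ∀ a : Fin 3, a ≠ 0 → (a * (a * 1), a * (a * 0)) = ((1, 0) : V3) := by decide
        rw [key _ c.a_ne]; simp [grid])
      (by
        have hz : o.gb * c.wb * o.gb⁻¹ = o.grid (c.a * 1, c.a * 0) := by
          rw [← o.gb_grid (0, 1)]; simp [grid]
        refine comm_of_conj ?_
        rw [conj_conj, hz, conj_conj, conj_of_comm (o.qb_grid _).eq, o.gb_grid]
        have key : ∀ a : Fin 3, a ≠ 0 → (a * (a * 0), a * (a * 1)) = ((0, 1) : V3) := by decide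
        rw [key _ c.a_ne]; simp [grid])
    fin_cases l
    · exfalso
      refine o.qb_not_D ?_
      have h' : o.gb * o.qb * o.gb = o.grid v := by simpa using h
      rw [show o.qb = o.gb * (o.gb * o.qb * o.gb) * o.gb⁻¹ by
        rw [o.gb_inv]; simp [mul_assoc, o.gb_sq]; rw [← mul_assoc o.gb o.gb, o.gb_sq, one_mul], h',
        o.gb_grid]
      exact o.grid_mem _
    · have h' : o.gb * o.qb * o.gb = o.grid v * o.qb := by simpa using h
      refine comm_of_conj ?_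
      rw [← QuotientGroup.mk_inv, ← QuotientGroup.mk_mul, ← QuotientGroup.mk_mul,
        QuotientGroup.eq_iff_div_mem]
      show (q' * g' * q'⁻¹ / g' : o.Nd).1 ∈ o.D
      rw [hq', hg', div_eq_mul_inv]
      push_cast
      rw [inv_eq_of_mul_eq_one_right o.qb_sq, o.gb_inv,
        show o.qb * o.gb * o.qb * o.gb = o.qb * (o.gb * o.qb * o.gb) by group, h', ← mul_assoc,
        (o.qb_grid v).eq, mul_assoc, o.qb_sq, mul_one]
      exact o.grid_mem _
  have hqq : (QuotientGroup.mk q' : o.Nd ⧸ o.DN) * QuotientGroup.mk q' = 1 := by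
    rw [← QuotientGroup.mk_mul, hq', hD]; push_cast; rw [o.qb_sq]; exact one_mem _
  have hgg : (QuotientGroup.mk g' : o.Nd ⧸ o.DN) * QuotientGroup.mk g' = 1 := by
    rw [← QuotientGroup.mk_mul, hg', hD]; push_cast; rw [o.gb_sq]; exact one_mem _
  have hjj : (QuotientGroup.mk j' : o.Nd ⧸ o.DN) * QuotientGroup.mk j' = 1 := by
    rw [← QuotientGroup.mk_mul, hj', hD]; push_cast; rw [o.jb_sq]; exact one_mem _
  have hqj : Commute (QuotientGroup.mk q' : o.Nd ⧸ o.DN) (QuotientGroup.mk j') := by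
    show QuotientGroup.mk q' * QuotientGroup.mk j' = QuotientGroup.mk j' * QuotientGroup.mk q'
    rw [← QuotientGroup.mk_mul, ← QuotientGroup.mk_mul, hq', hj']
    exact congrArg QuotientGroup.mk (Subtype.ext o.qb_jb.eq)
  have hr4 : ((QuotientGroup.mk g' : o.Nd ⧸ o.DN) * QuotientGroup.mk j') ^ 4 = 1 := by
    rw [← QuotientGroup.mk_mul, ← QuotientGroup.mk_pow, hg', hj', hD]
    push_cast
    rw [show (o.gb * o.jb) ^ 4 = o.gb * o.jb * o.gb * o.jb * (o.gb * o.jb * o.gb * o.jb) by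
      simp only [pow_succ, pow_zero, one_mul, mul_assoc], o.gjg,
      (show Commute o.jzb o.jb from o.jb_jzb).symm.mul_mul_mul_comm, o.jzb_sq, o.jb_sq, mul_one]
    exact one_mem _
  have hsr : (QuotientGroup.mk g' : o.Nd ⧸ o.DN) * (QuotientGroup.mk g' * QuotientGroup.mk j') *
      QuotientGroup.mk g' = (QuotientGroup.mk g' * QuotientGroup.mk j')⁻¹ := by
    rw [← mul_assoc (QuotientGroup.mk g'), hgg, one_mul, mul_inv_rev,
      inv_eq_of_mul_eq_one_right hgg, inv_eq_of_mul_eq_one_right hjj]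
  obtain ⟨φ, hφr, hφs⟩ := exists_hom_dihedral _ _ _ hr4 hgg hsr hqq (hgq.mul_right hqj) hgq
  have hact : ∀ (τ : o.Nd) (x : DihedralGroup 4 × Multiplicative (ZMod 2)),
      (QuotientGroup.mk τ : o.Nd ⧸ o.DN) = φ x →
        ∀ v, (τ : c.Xb) * o.grid v * (τ : c.Xb)⁻¹ = o.grid (dAct c.a x.1 v) := by
    have hr : ∀ (n : ℕ) v, (o.gb * o.jb) ^ n * o.grid v * ((o.gb * o.jb) ^ n)⁻¹ =
        o.grid ((fun u : V3 => (-(c.a * u.2), c.a * u.1))^[n] v) := by
      intro n
      induction n with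
      | zero => intro v; simp
      | succ n ih =>
        intro v
        rw [pow_succ', conj_conj, ih, Function.iterate_succ_apply', conj_conj, o.jb_grid, o.gb_grid,
          mul_neg]
    have hq : ∀ (n : ℕ) v, o.qb ^ n * o.grid v * (o.qb ^ n)⁻¹ = o.grid v := fun n v =>
      conj_of_comm ((o.qb_grid v).pow_left n).eq
    intro τ x hx v
    have key : ∀ rep : o.Nd, φ x = QuotientGroup.mk rep →
        (τ : c.Xb) * o.grid v * (τ : c.Xb)⁻¹ = (rep : c.Xb) * o.grid v * (rep : c.Xb)⁻¹ := by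
      intro rep h
      rw [h, QuotientGroup.eq] at hx
      have hd : (τ : c.Xb)⁻¹ * (rep : c.Xb) ∈ o.D := hx
      rw [show (rep : c.Xb) = (τ : c.Xb) * ((τ : c.Xb)⁻¹ * (rep : c.Xb)) by group,
        conj_conj (τ : c.Xb) ((τ : c.Xb)⁻¹ * (rep : c.Xb)),
        conj_of_comm (o.D_comm _ hd _ (o.grid_mem v))]
    obtain ⟨d, e⟩ := x
    cases d with
    | r i =>
      rw [key ((g' * j') ^ i.val * q' ^ e.toAdd.val) (by rw [hφr]; rfl)]
      push_cast
      rw [hg', hj', hq', conj_conj, hq, hr]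
      rfl
    | sr i =>
      rw [key (g' * (g' * j') ^ i.val * q' ^ e.toAdd.val) (by rw [hφs]; rfl)]
      push_cast
      rw [hg', hj', hq', conj_conj, hq, conj_conj, hr, o.gb_grid]
      rfl
  refine ⟨MulEquiv.ofBijective φ ⟨?_, ?_⟩, fun τ x h => hact τ x h⟩
  · refine (injective_iff_map_eq_one φ).2 fun x hx => ?_
    have h1 : x.1 = 1 := by
      have h := hact 1 x (by rw [QuotientGroup.mk_one]; exact hx.symm)
      refine dAct_faithful _ c.a_ne _ (o.grid_inj_b ?_) (o.grid_inj_b ?_) <;>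
        rw [← h] <;> simp
    obtain ⟨d, e⟩ := x
    obtain rfl : d = 1 := h1
    rw [show (1 : DihedralGroup 4) = DihedralGroup.r 0 from rfl, hφr, ZMod.val_zero, pow_zero,
      one_mul] at hx
    refine Prod.ext rfl (Multiplicative.toAdd.injective ?_)
    show e.toAdd = 0
    have h01 : ∀ u : ZMod 2, u = 0 ∨ u = 1 := by decide
    rcases h01 e.toAdd with h | h
    · exact h
    · exfalso
      rw [h, ZMod.val_one, pow_one, hq', hD] at hx
      exact o.qb_not_D hx
  · intro y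
    induction y using QuotientGroup.induction_on with
    | H τ =>
      have hgrp : QuotientGroup.mk (s := o.DN) g' ∈ φ.range :=
        ⟨(DihedralGroup.sr 0, 1), by rw [hφs]; simp⟩
      have hjrp : QuotientGroup.mk (s := o.DN) j' ∈ φ.range := by
        have h : QuotientGroup.mk (s := o.DN) g' * QuotientGroup.mk j' ∈ φ.range :=
          ⟨(DihedralGroup.r 1, 1), by
            rw [hφr, show ((1 : ZMod 4)).val = 1 from rfl, pow_one]; simp⟩
        have := mul_mem hgrp h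
        rwa [← mul_assoc, hgg, one_mul] at this
      have hqrp : QuotientGroup.mk (s := o.DN) q' ∈ φ.range :=
        ⟨(DihedralGroup.r 0, Multiplicative.ofAdd 1), by
          rw [hφr]; simp [ZMod.val_one]⟩
      -- compare with an element of the same action
      have hline : ∀ v : V3, ∃ v', (τ : c.Xb) * o.grid v * (τ : c.Xb)⁻¹ = o.grid v' := fun v => by
        obtain ⟨v', hv'⟩ := conj_mem_of_norm τ.2 (o.grid_mem v)
        exact ⟨v', hv'.symm⟩
      have hpt : ∀ (v : V3) (v' : V3), c.IsPt (c.z ^ (v.1 : ℕ) * c.w ^ (v.2 : ℕ)) →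
          (τ : c.Xb) * o.grid v * (τ : c.Xb)⁻¹ = o.grid v' → v'.1 = 0 ∨ v'.2 = 0 := by
        intro v v' hv h
        obtain ⟨a, ha⟩ := c.π_surj (τ : c.Xb)
        rw [← ha, o.grid_lift, o.grid_lift] at h
        have he := c.lift_conj (c.J_exp _ (c.grid_mem_J _ _)) (c.J_exp _ (c.grid_mem_J _ _)) h
        change (a : G) * (c.z ^ (v.1 : ℕ) * c.w ^ (v.2 : ℕ)) * (a : G)⁻¹ =
          c.z ^ (v'.1 : ℕ) * c.w ^ (v'.2 : ℕ) at he
        obtain ⟨m, hm, hx⟩ := hv
        have hconj : ∀ y, (a : G) * (m * y * m⁻¹) * (a : G)⁻¹ =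
            ((a : G) * m) * y * ((a : G) * m)⁻¹ := fun y => by group
        have hJ := c.grid_mem_J (v'.1 : ℕ) (v'.2 : ℕ)
        refine c.grid_pt' (i := v'.1) (k := v'.2) ?_
        rw [← he] at hJ ⊢
        rcases hx with hx | hx <;> rw [hx, hconj] at hJ ⊢
        · exact c.isPt_of_conj hJ
        · rw [← conj_inv] at hJ ⊢
          exact (c.isPt_of_conj (inv_mem_iff.1 hJ)).inv c
      obtain ⟨u, hu⟩ := hline (1, 0)
      obtain ⟨v, hv⟩ := hline (0, 1)
      have hu' := hpt (1, 0) u (by simpa using c.isPt_z) hu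
      have hv' := hpt (0, 1) v (by simpa using c.isPt_w) hv
      have hne : ∀ s : V3, o.grid s = 1 → s = 0 := fun s h => o.grid_inj_b (h.trans (by simp [grid]))
      have hu0 : u ≠ 0 := fun h => by
        rw [h, show o.grid (0 : V3) = 1 by simp [grid]] at hu
        exact absurd (hne _ (conj_eq_one_iff.1 hu)) (by decide)
      have hv0 : v ≠ 0 := fun h => by
        rw [h, show o.grid (0 : V3) = 1 by simp [grid]] at hv
        exact absurd (hne _ (conj_eq_one_iff.1 hv)) (by decide)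
      have huv : ∀ k : Fin 3, k ≠ 0 → v ≠ (k * u.1, k * u.2) := by
        intro k hk hvk
        have e : o.grid (0, 1) = o.grid (k, 0) := by
          refine (MulAut.conj (τ : c.Xb)).injective ?_
          show (τ : c.Xb) * _ * (τ : c.Xb)⁻¹ = (τ : c.Xb) * _ * (τ : c.Xb)⁻¹
          rw [hv, show o.grid (k, 0) = o.grid (1, 0) ^ (k : ℕ) by simp [grid], ← conj_pow, hu, hvk,
            grid, grid, ((show Commute c.zb c.wb from c.zb_wb').pow_pow _ _).mul_pow,
            ← pow_fin_mul c.zb_cube, ← pow_fin_mul c.wb_cube', mul_comm k u.1, mul_comm k u.2]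
        exact absurd (congrArg Prod.snd (o.grid_inj_b e)) (show (1 : Fin 3) ≠ 0 by decide)
      obtain ⟨d, hd1, hd2⟩ := dAct_exists c.a c.a_ne u hu0 hu' v hv0 hv' huv
      obtain ⟨ρ₀, hρ₀⟩ := QuotientGroup.mk_surjective (φ (d, 1))
      have hr0 := hact ρ₀ (d, 1) hρ₀
      have hc : ∀ s : V3, (s = (1, 0) ∨ s = (0, 1)) →
          ((ρ₀⁻¹ * τ : o.Nd) : c.Xb) * o.grid s = o.grid s * ((ρ₀⁻¹ * τ : o.Nd) : c.Xb) := by
        intro s hs
        refine comm_of_conj ?_
        have h2 : (τ : c.Xb) * o.grid s * (τ : c.Xb)⁻¹ =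
            (ρ₀ : c.Xb) * o.grid s * (ρ₀ : c.Xb)⁻¹ := by
          rcases hs with rfl | rfl
          · rw [hu, hr0, hd1]
          · rw [hv, hr0, hd2]
        push_cast
        rw [conj_conj, h2]
        group
      obtain ⟨w', l, hl⟩ := o.cent_D (τ := ((ρ₀⁻¹ * τ : o.Nd) : c.Xb))
        (by have := hc (1, 0) (Or.inl rfl); simpa [grid] using this)
        (by have := hc (0, 1) (Or.inr rfl); simpa [grid] using this)
      have hlast : QuotientGroup.mk (s := o.DN) (ρ₀⁻¹ * τ) = QuotientGroup.mk q' ^ (l : ℕ) := by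
        rw [← QuotientGroup.mk_pow, QuotientGroup.eq_iff_div_mem]
        show ((ρ₀⁻¹ * τ / q' ^ (l : ℕ) : o.Nd) : c.Xb) ∈ o.D
        rw [div_eq_mul_inv, Subgroup.coe_mul, hl, hq']
        push_cast
        rw [mul_inv_cancel_right]
        exact o.grid_mem _
      have : QuotientGroup.mk (s := o.DN) τ = φ (d, 1) * QuotientGroup.mk q' ^ (l : ℕ) := by
        rw [← hlast, ← hρ₀, ← QuotientGroup.mk_mul, mul_inv_cancel_left]
      rw [this]
      exact φ.range.mul_mem ⟨(d, 1), rfl⟩ (pow_mem hqrp _)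

theorem jzjb_y :
    o.jzb * o.jb * (c.zb * c.wb) * (o.jzb * o.jb)⁻¹ = (c.zb * c.wb)⁻¹ := by
  have h1 : o.jzb * c.zb * o.jzb⁻¹ = c.zb⁻¹ := by
    rw [← o.al_jz]; exact c.al_inv c.sign_jz
  have h2 : o.jb * c.zb * o.jb⁻¹ = c.zb := by
    have e := o.jb_grid (1, 0)
    simpa [grid] using e
  have h3 : o.jb * c.wb * o.jb⁻¹ = c.wb⁻¹ := by
    rw [jb, wb, ← map_inv, ← map_mul, ← map_mul, ← map_inv]
    exact congrArg c.π (Subtype.ext c.j_w)
  have h4 : o.jzb * c.wb * o.jzb⁻¹ = c.wb := by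
    rw [jzb, wb, ← map_inv, ← map_mul, ← map_mul]
    exact congrArg c.π (Subtype.ext c.jz_w)
  rw [show o.jzb * o.jb * (c.zb * c.wb) * (o.jzb * o.jb)⁻¹ =
    o.jzb * (o.jb * c.zb * o.jb⁻¹ * (o.jb * c.wb * o.jb⁻¹)) * o.jzb⁻¹ by group, h2, h3,
    show o.jzb * (c.zb * c.wb⁻¹) * o.jzb⁻¹ = o.jzb * c.zb * o.jzb⁻¹ * (o.jzb * c.wb * o.jzb⁻¹)⁻¹ by
      group, h1, h4, mul_inv_rev]
  exact ((show Commute c.zb c.wb from c.zb_wb').inv_inv).eq

theorem mem_Ny {τ : c.Xb} (hn : c.NormN)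
    (h : τ * (c.zb * c.wb) * τ⁻¹ = c.zb * c.wb ∨ τ * (c.zb * c.wb) * τ⁻¹ = (c.zb * c.wb)⁻¹) :
    τ ∈ o.Nd := by
  have main : ∀ τ : c.Xb, τ * (c.zb * c.wb) = c.zb * c.wb * τ → τ ∈ o.Nd := by
    intro τ h
    obtain ⟨a, rfl⟩ := c.π_surj τ
    have hzw : c.π ⟨c.z * c.w, mul_mem c.z_mem_X c.w_mem_X⟩ = c.zb * c.wb := by
      rw [zb, wb, ← map_mul]; rfl
    have ha : (a : G) * (c.z * c.w) = c.z * c.w * a :=
      c.lift_comm (x := ⟨c.z * c.w, mul_mem c.z_mem_X c.w_mem_X⟩)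
        (c.J_exp _ (mul_mem c.z_mem_J c.w_mem_J)) (by rw [hzw]; exact h)
    refine o.mem_Nd fun v => ?_
    rw [o.grid_lift, ← map_inv, ← map_mul, ← map_mul]
    rcases c.cent_n_cases hn ha (c.mem_X.1 a.2) with ⟨h1, h2⟩ | ⟨h1, h2⟩
    · refine ⟨v, (o.grid_lift v).trans (congrArg c.π (Subtype.ext ?_)).symm⟩
      push_cast
      exact conj_of_comm (((show Commute (a : G) c.z from h1).pow_right _).mul_right
        ((show Commute (a : G) c.w from h2).pow_right _)).eq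
    · refine ⟨(v.2, v.1), (o.grid_lift _).trans (congrArg c.π (Subtype.ext ?_)).symm⟩
      push_cast
      rw [show (a : G) * (c.z ^ (v.1 : ℕ) * c.w ^ (v.2 : ℕ)) * (a : G)⁻¹ =
        (a : G) * c.z ^ (v.1 : ℕ) * (a : G)⁻¹ * ((a : G) * c.w ^ (v.2 : ℕ) * (a : G)⁻¹) by group,
        ← conj_pow, ← conj_pow, h1, h2]
      exact c.J_comm _ (pow_mem c.w_mem_J _) _ (pow_mem c.z_mem_J _)
  rcases h with h | h
  · exact main τ (comm_of_conj h)
  · have hn' : o.jzb * o.jb ∈ o.Nd := by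
      rw [← o.gjg]; exact mul_mem (mul_mem (mul_mem o.gb_Nd o.jb_Nd) o.gb_Nd) o.jb_Nd
    have hinv := o.jzjb_y
    have h2 : o.jzb * o.jb * τ ∈ o.Nd := main _ (comm_of_conj (by
      rw [conj_conj, h, ← conj_inv, hinv, inv_inv]))
    exact (Subgroup.mul_mem_cancel_left _ hn').1 h2

theorem sq_mem_D {τ : c.Xb} (hn : c.NormN)
    (h : τ * (c.zb * c.wb) * τ⁻¹ = c.zb * c.wb ∨ τ * (c.zb * c.wb) * τ⁻¹ = (c.zb * c.wb)⁻¹) :
    τ ^ 2 ∈ o.D := by
  have hτ := o.mem_Ny hn h
  obtain ⟨ε, hε⟩ := o.exists_iso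
  obtain ⟨x, hx⟩ : ∃ x, x = ε.symm (QuotientGroup.mk ⟨τ, hτ⟩) := ⟨_, rfl⟩
  have hmk : (QuotientGroup.mk ⟨τ, hτ⟩ : o.Nd ⧸ o.DN) = ε x := by rw [hx, MulEquiv.apply_symm_apply]
  have hact := hε ⟨τ, hτ⟩ x hmk (1, 1)
  have hy : c.zb * c.wb = o.grid (1, 1) := by simp [grid]
  rw [hy] at h
  have hd : x.1 * x.1 = 1 := by
    refine dAct_sq _ c.a_ne _ ?_
    rcases h with h | h
    · exact Or.inl (o.grid_inj_b (hact.symm.trans h))
    · refine Or.inr (o.grid_inj_b (hact.symm.trans (h.trans ?_)))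
      refine inv_eq_of_mul_eq_one_right ?_
      rw [← o.grid_add, show ((1, 1) : V3) + (-1, -1) = 0 by decide]
      simp [grid]
  have he : x * x = 1 := Prod.ext hd (by
    show x.2 * x.2 = 1
    have key : ∀ e : Multiplicative (ZMod 2), e * e = 1 := by decide
    exact key _)
  have h1 : (QuotientGroup.mk ((⟨τ, hτ⟩ : o.Nd) ^ 2) : o.Nd ⧸ o.DN) = 1 := by
    rw [QuotientGroup.mk_pow, hmk, ← map_pow, sq, he, map_one]
  have h2 : ((⟨τ, hτ⟩ : o.Nd) ^ 2) ∈ o.DN := (QuotientGroup.eq_one_iff _).1 h1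
  exact Subgroup.mem_subgroupOf.1 h2

theorem mem_cent_D {τ : c.Xb} : τ ∈ Subgroup.centralizer (o.D : Set c.Xb) ↔
    ∃ (v : V3) (l : Fin 2), τ = o.grid v * o.qb ^ (l : ℕ) := by
  constructor
  · intro h
    rw [Subgroup.mem_centralizer_iff] at h
    exact o.cent_D (h _ o.zb_mem).symm (h _ o.wb_mem).symm
  · rintro ⟨v, l, rfl⟩
    rw [Subgroup.mem_centralizer_iff]
    rintro _ ⟨u, rfl⟩
    exact ((show Commute (o.grid u) (o.grid v) from o.D_comm _ (o.grid_mem u) _ (o.grid_mem v)).mul_right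
      ((o.qb_grid u).symm.pow_right _)).eq

theorem grid_qb_inj {v v' : V3} {l l' : Fin 2}
    (h : o.grid v * o.qb ^ (l : ℕ) = o.grid v' * o.qb ^ (l' : ℕ)) : v = v' ∧ l = l' := by
  have hl : l = l' := by
    by_contra hne
    refine o.qb_not_D ?_
    fin_cases l <;> fin_cases l'
    · exact absurd rfl hne
    · have h' : o.grid v = o.grid v' * o.qb := by simpa using h
      exact (Subgroup.mul_mem_cancel_left _ (o.grid_mem v')).1 (h' ▸ o.grid_mem v)
    · have h' : o.grid v * o.qb = o.grid v' := by simpa using h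
      exact (Subgroup.mul_mem_cancel_left _ (o.grid_mem v)).1 (h'.symm ▸ o.grid_mem v')
    · exact absurd rfl hne
  subst hl
  exact ⟨o.grid_inj_b (mul_right_cancel h), rfl⟩

theorem card_cent_D : Nat.card (Subgroup.centralizer (o.D : Set c.Xb)) = 18 := by
  have hb : Function.Bijective (fun p : V3 × Fin 2 =>
      (⟨o.grid p.1 * o.qb ^ (p.2 : ℕ), o.mem_cent_D.2 ⟨p.1, p.2, rfl⟩⟩ :
        Subgroup.centralizer (o.D : Set c.Xb))) := by
    constructor
    · rintro ⟨v, l⟩ ⟨v', l'⟩ h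
      obtain ⟨rfl, rfl⟩ := o.grid_qb_inj (congrArg Subtype.val h :)
      rfl
    · rintro ⟨τ, hτ⟩
      obtain ⟨v, l, rfl⟩ := o.mem_cent_D.1 hτ
      exact ⟨(v, l), rfl⟩
  rw [← Nat.card_congr (Equiv.ofBijective _ hb), Nat.card_prod, Nat.card_prod, Nat.card_fin,
    Nat.card_fin]

theorem card_cent_y (hn : c.NormN) :
    Nat.card (Subgroup.centralizer ({c.zb * c.wb} : Set c.Xb)) = 36 := by
  obtain ⟨u, hut, huz, huw⟩ := c.exists_exchange
  obtain ⟨v, hv⟩ : ∃ v, v = c.π ⟨u, c.mem_X.2 hut.symm⟩ := ⟨_, rfl⟩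
  have hvz : v * c.zb * v⁻¹ = c.wb := by
    rw [hv, zb, wb, ← map_inv, ← map_mul, ← map_mul]
    exact congrArg c.π (Subtype.ext huz)
  have hvw : v * c.wb * v⁻¹ = c.zb := by
    rw [hv, zb, wb, ← map_inv, ← map_mul, ← map_mul]
    exact congrArg c.π (Subtype.ext huw)
  have hvy : Commute v (c.zb * c.wb) := comm_of_conj (by
    rw [show v * (c.zb * c.wb) * v⁻¹ = v * c.zb * v⁻¹ * (v * c.wb * v⁻¹) by group, hvz, hvw,
      c.zb_wb'])
  have hvnot : v ∉ Subgroup.centralizer (o.D : Set c.Xb) := fun h => by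
    rw [Subgroup.mem_centralizer_iff] at h
    have h1 := conj_of_comm (h _ o.zb_mem).symm
    rw [hvz] at h1
    exact absurd (o.grid_inj_b (u := (0, 1)) (v := (1, 0)) (by simpa [grid] using h1)) (by decide)
  have hcy : ∀ x ∈ Subgroup.centralizer (o.D : Set c.Xb), Commute x (c.zb * c.wb) := fun x hx => by
    rw [Subgroup.mem_centralizer_iff] at hx
    exact (show Commute x c.zb from (hx _ o.zb_mem).symm).mul_right (hx _ o.wb_mem).symm
  have hb : Function.Bijective (fun p : Fin 2 × Subgroup.centralizer (o.D : Set c.Xb) =>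
      (⟨v ^ (p.1 : ℕ) * p.2.1, Subgroup.mem_centralizer_singleton_iff.2
        ((hvy.pow_left _).mul_left (hcy _ p.2.2)).eq⟩ :
          Subgroup.centralizer ({c.zb * c.wb} : Set c.Xb))) := by
    constructor
    · rintro ⟨e, x⟩ ⟨e', x'⟩ h
      have h' : v ^ (e : ℕ) * x.1 = v ^ (e' : ℕ) * x'.1 := congrArg Subtype.val h
      have he : e = e' := by
        by_contra hne
        refine hvnot ?_
        fin_cases e <;> fin_cases e'
        · exact absurd rfl hne
        · have h'' : (x : c.Xb) = v * x' := by simpa using h'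
          exact (Subgroup.mul_mem_cancel_right _ x'.2).1 (h'' ▸ x.2)
        · have h'' : v * (x : c.Xb) = x' := by simpa using h'
          exact (Subgroup.mul_mem_cancel_right _ x.2).1 (h''.symm ▸ x'.2)
        · exact absurd rfl hne
      subst he
      rw [Subtype.ext (mul_left_cancel h')]
    · rintro ⟨τ, hτ⟩
      rw [Subgroup.mem_centralizer_singleton_iff] at hτ
      obtain ⟨a, rfl⟩ := c.π_surj τ
      have hzw : c.π ⟨c.z * c.w, mul_mem c.z_mem_X c.w_mem_X⟩ = c.zb * c.wb := by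
        rw [zb, wb, ← map_mul]; rfl
      have ha : (a : G) * (c.z * c.w) = c.z * c.w * a :=
        c.lift_comm (x := ⟨c.z * c.w, mul_mem c.z_mem_X c.w_mem_X⟩)
          (c.J_exp _ (mul_mem c.z_mem_J c.w_mem_J)) (by rw [hzw]; exact hτ)
      rcases c.cent_n_cases hn ha (c.mem_X.1 a.2) with ⟨h1, h2⟩ | ⟨h1, h2⟩
      · obtain ⟨s, l, hx⟩ := o.cent_D (τ := c.π a)
          (by rw [zb, ← map_mul, ← map_mul]; exact congrArg c.π (Subtype.ext h1))
          (by rw [wb, ← map_mul, ← map_mul]; exact congrArg c.π (Subtype.ext h2))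
        exact ⟨(0, ⟨c.π a, o.mem_cent_D.2 ⟨s, l, hx⟩⟩), Subtype.ext (by simp)⟩
      · have e1 : c.π a * c.zb * (c.π a)⁻¹ = c.wb := by
          rw [zb, wb, ← map_inv, ← map_mul, ← map_mul]; exact congrArg c.π (Subtype.ext h1)
        have e2 : c.π a * c.wb * (c.π a)⁻¹ = c.zb := by
          rw [zb, wb, ← map_inv, ← map_mul, ← map_mul]; exact congrArg c.π (Subtype.ext h2)
        obtain ⟨s, l, hx⟩ := o.cent_D (τ := v⁻¹ * c.π a)
          (comm_of_conj (by rw [conj_conj, e1, inv_inv, ← hvz]; group))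
          (comm_of_conj (by rw [conj_conj, e2, inv_inv, ← hvw]; group))
        refine ⟨(1, ⟨v⁻¹ * c.π a, o.mem_cent_D.2 ⟨s, l, hx⟩⟩), Subtype.ext ?_⟩
        show v ^ ((1 : Fin 2) : ℕ) * (v⁻¹ * c.π a) = c.π a
        simp
  rw [← Nat.card_congr (Equiv.ofBijective _ hb), Nat.card_prod, Nat.card_fin, o.card_cent_D]

theorem card_Nd : Nat.card o.Nd = 144 := by
  obtain ⟨ε, -⟩ := o.exists_iso
  rw [Subgroup.card_eq_card_quotient_mul_card_subgroup o.DN, ← Nat.card_congr ε.toEquiv,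
    DN, Nat.card_congr (Subgroup.subgroupOfEquivOfLe (show o.D ≤ o.Nd from Subgroup.le_normalizer)).toEquiv,
    o.card_D, Nat.card_prod, DihedralGroup.nat_card, Nat.card_congr Multiplicative.toAdd, Nat.card_zmod]

theorem sylow : ¬ 27 ∣ Nat.card c.Xb := by
  intro h27
  haveI : Fact (Nat.Prime 3) := ⟨Nat.prime_three⟩
  have h := Sylow.prime_dvd_card_quotient_normalizer (p := 3) (n := 2) (H := o.D)
    (by simpa using h27) (by rw [o.card_D]; norm_num)
  have h2 : Nat.card (Subgroup.normalizer (o.D : Set c.Xb) ⧸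
      Subgroup.comap (Subgroup.normalizer (o.D : Set c.Xb)).subtype o.D) = 16 := by
    have h1 := Subgroup.card_eq_card_quotient_mul_card_subgroup
      (Subgroup.comap (Subgroup.normalizer (o.D : Set c.Xb)).subtype o.D)
    rw [show Nat.card (Subgroup.normalizer (o.D : Set c.Xb)) = 144 from o.card_Nd,
      show Nat.card (Subgroup.comap (Subgroup.normalizer (o.D : Set c.Xb)).subtype o.D) = 9 from
        (Nat.card_congr (Subgroup.subgroupOfEquivOfLe Subgroup.le_normalizer).toEquiv).trans o.card_D] at h1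
    omega
  rw [h2] at h
  norm_num at h

/-- The exceptional configuration does not occur. -/
theorem not_product (N : Subgroup c.Xb) (hN : N.Normal)
    (e : N ≃* alternatingGroup (Fin 5) × alternatingGroup (Fin 5)) (hsq : ∀ g, g ^ 2 ∈ N) : False := by
  haveI : IsSimpleGroup (alternatingGroup (Fin 5)) := alternatingGroup.isSimpleGroup (by simp)
  have hD : ∀ x ∈ o.D, x ∈ N := fun x hx => by
    have h := o.D_exp x hx
    have e : x = (x ^ 2) ^ 2 := by rw [← pow_mul, show 2 * 2 = 3 + 1 from rfl, pow_add, h, one_mul, pow_one]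
    rw [e]; exact hsq _
  have heven : ∀ π : alternatingGroup (Fin 5), c.al (π : Perm (Fin 5)) ∈ N := by
    intro π
    let φ : alternatingGroup (Fin 5) →* c.Xb ⧸ N :=
      (QuotientGroup.mk' N).comp (c.al.comp (alternatingGroup (Fin 5)).subtype)
    rcases IsSimpleGroup.eq_bot_or_eq_top_of_normal φ.ker inferInstance with h | h
    · exfalso
      have hi : Function.Injective φ := (MonoidHom.ker_eq_bot_iff φ).1 h
      have hx : (⟨swap 0 1 * swap 1 2, Perm.mem_alternatingGroup.2 (by decide)⟩ :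
          alternatingGroup (Fin 5)) ^ 2 = 1 := hi (by
        rw [map_pow, map_one]
        obtain ⟨y, hy⟩ := QuotientGroup.mk'_surjective N (φ ⟨swap 0 1 * swap 1 2, Perm.mem_alternatingGroup.2 (by decide)⟩)
        rw [← hy, ← map_pow]
        exact (QuotientGroup.eq_one_iff _).2 (hsq y))
      exact absurd (congrArg Subtype.val hx) (by decide)
    · have : π ∈ φ.ker := h ▸ Subgroup.mem_top π
      exact (QuotientGroup.eq_one_iff _).1 this
  -- the two copies of `A₅`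
  let f : alternatingGroup (Fin 5) →* alternatingGroup (Fin 5) × alternatingGroup (Fin 5) :=
    e.toMonoidHom.comp ((c.al.comp (alternatingGroup (Fin 5)).subtype).codRestrict N heven)
  have hg : ∀ π : alternatingGroup (Fin 5), o.gb * c.al (π : Perm (Fin 5)) * o.gb ∈ N := fun π => by
    have h := hN.conj_mem _ (heven π) o.gb
    rwa [o.gb_inv] at h
  let f' : alternatingGroup (Fin 5) →* alternatingGroup (Fin 5) × alternatingGroup (Fin 5) :=
    e.toMonoidHom.comp (((MulAut.conj o.gb).toMonoidHom.comp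
      (c.al.comp (alternatingGroup (Fin 5)).subtype)).codRestrict N fun π => by
        show o.gb * c.al (π : Perm (Fin 5)) * o.gb⁻¹ ∈ N
        rw [o.gb_inv]; exact hg π)
  have hfi : Function.Injective f := fun a b h =>
    Subtype.ext (c.al_inj (congrArg Subtype.val (e.injective h) :))
  have hfi' : Function.Injective f' := fun a b h =>
    Subtype.ext (c.al_inj ((MulAut.conj o.gb).injective (congrArg Subtype.val (e.injective h) :)))
  obtain ⟨Z, hZ⟩ : ∃ Z, Z = e ⟨c.zb, hD _ o.zb_mem⟩ := ⟨_, rfl⟩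
  obtain ⟨W, hW⟩ : ∃ W, W = e ⟨c.wb, hD _ o.wb_mem⟩ := ⟨_, rfl⟩
  have hZne : Z ≠ 1 := fun h => by
    rw [hZ, ← map_one e] at h
    exact c.zb_ne (congrArg Subtype.val (e.injective h) :)
  have hfZ : ∀ π, f π * Z = Z * f π := fun π => by
    rw [hZ]
    show e _ * e _ = e _ * e _
    rw [← map_mul, ← map_mul]
    exact congrArg e (Subtype.ext (c.al_comm (Perm.mem_alternatingGroup.1 π.2)))
  have hgw : o.gb * c.zb * o.gb⁻¹ = c.wb ^ (c.a : ℕ) := by
    have h := o.gb_grid (1, 0)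
    simpa [grid] using h
  have hfW : ∀ π, f' π * W = W * f' π := fun π => by
    have hcm : Commute (o.gb * c.al (π : Perm (Fin 5)) * o.gb⁻¹) c.wb := by
      have h0 : Commute (o.gb * c.al (π : Perm (Fin 5)) * o.gb⁻¹) (c.wb ^ (c.a : ℕ)) := by
        rw [← hgw]
        show _ * _ = _ * _
        rw [show o.gb * c.al (π : Perm (Fin 5)) * o.gb⁻¹ * (o.gb * c.zb * o.gb⁻¹) =
          o.gb * (c.al (π : Perm (Fin 5)) * c.zb) * o.gb⁻¹ by group,
          c.al_comm (Perm.mem_alternatingGroup.1 π.2)]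
        group
      have h1 := h0.pow_right (c.a : ℕ)
      rwa [← pow_fin_mul c.wb_cube', fin_sq _ c.a_ne, show c.wb ^ ((1 : Fin 3) : ℕ) = c.wb from pow_one _] at h1
    rw [hW]
    show e _ * e _ = e _ * e _
    rw [← map_mul, ← map_mul]
    exact congrArg e (Subtype.ext hcm.eq)
  obtain ⟨p, hp3, hp1, hpw⟩ := c.al_w
  have hpe : Perm.sign p = 1 := (CfsgLib.AltEightLocal.three_cycle p hp3 hp1).1
  have hWf : W = f ⟨p, Perm.mem_alternatingGroup.2 hpe⟩ := by
    rw [hW]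
    exact congrArg e (Subtype.ext hpw.symm)
  -- a homomorphism into the centraliser of a non-trivial element is trivial
  have triv : ∀ (φ : alternatingGroup (Fin 5) →* alternatingGroup (Fin 5))
      (a : alternatingGroup (Fin 5)), (∀ π, φ π * a = a * φ π) → a ≠ 1 → ∀ π, φ π = 1 := by
    intro φ a ha ha1 π
    rcases IsSimpleGroup.eq_bot_or_eq_top_of_normal φ.ker inferInstance with h | h
    · exfalso
      have hsurj := Finite.surjective_of_injective ((MonoidHom.ker_eq_bot_iff φ).1 h)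
      refine ha1 (Subtype.ext (centralizer_alt _ fun σ hσ => ?_))
      obtain ⟨s, hs⟩ := hsurj ⟨σ, Perm.mem_alternatingGroup.2 hσ⟩
      have := ha s
      rw [hs] at this
      exact (congrArg Subtype.val this :).symm
    · exact (h ▸ Subgroup.mem_top π : π ∈ φ.ker)
  have hcomm : ∀ π π', f π * f' π' = f' π' * f π := by
    have side : ∀ (P1 P2 : alternatingGroup (Fin 5) × alternatingGroup (Fin 5) →* alternatingGroup (Fin 5)),
        (∀ x, P1 x = 1 → P2 x = 1 → x = 1) → P1 Z ≠ 1 →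
        (∀ π, P1 (f π) = 1) ∧ ∀ π, P2 (f' π) = 1 := by
      intro P1 P2 hP hz1
      have h1 : ∀ π, P1 (f π) = 1 := triv (P1.comp f) (P1 Z) (fun π => by
        show P1 (f π) * P1 Z = P1 Z * P1 (f π)
        rw [← map_mul, ← map_mul, hfZ]) hz1
      refine ⟨h1, triv (P2.comp f') (P2 W) (fun π => by
        show P2 (f' π) * P2 W = P2 W * P2 (f' π)
        rw [← map_mul, ← map_mul, hfW]) fun h => ?_⟩
      have hW1 : W = 1 := hP W (hWf ▸ h1 _) h
      rw [hW, ← map_one e] at hW1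
      have h2 : c.wb = 1 := (congrArg Subtype.val (e.injective hW1) :)
      rw [← hpw, ← map_one c.al] at h2
      exact hp1 (c.al_inj h2)
    have hz : Z.1 ≠ 1 ∨ Z.2 ≠ 1 := by
      by_contra h
      push Not at h
      exact hZne (Prod.ext h.1 h.2)
    intro π π'
    rcases hz with hz | hz
    · obtain ⟨h1, h2⟩ := side (MonoidHom.fst _ _) (MonoidHom.snd _ _)
        (fun x a b => Prod.ext a b) hz
      refine Prod.ext ?_ ?_
      · show (f π).1 * _ = _ * (f π).1
        rw [show (f π).1 = 1 from h1 π, one_mul, mul_one]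
      · show _ * (f' π').2 = (f' π').2 * _
        rw [show (f' π').2 = 1 from h2 π', one_mul, mul_one]
    · obtain ⟨h1, h2⟩ := side (MonoidHom.snd _ _) (MonoidHom.fst _ _)
        (fun x a b => Prod.ext b a) hz
      refine Prod.ext ?_ ?_
      · show _ * (f' π').1 = (f' π').1 * _
        rw [show (f' π').1 = 1 from h2 π', one_mul, mul_one]
      · show (f π).2 * _ = _ * (f π).2
        rw [show (f π).2 = 1 from h1 π, one_mul, mul_one]
  -- so the conjugate of `j` centralises the complement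
  obtain ⟨π₀, hπ₀⟩ : ∃ π₀, π₀ = altFive j0 := ⟨_, rfl⟩
  have hjb : c.al (π₀ : Perm (Fin 5)) = o.jb := by rw [hπ₀, o.al_even]; rfl
  have hjz : ∀ π : alternatingGroup (Fin 5), Commute (c.al (π : Perm (Fin 5))) o.jzb := by
    intro π
    have h := congrArg (fun x => ((e.symm x : N) : c.Xb)) (hcomm π π₀)
    simp only [map_mul, Subgroup.coe_mul] at h
    have e1 : ((e.symm (f π) : N) : c.Xb) = c.al (π : Perm (Fin 5)) := by
      show ((e.symm (e _) : N) : c.Xb) = _
      rw [MulEquiv.symm_apply_apply]; rfl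
    have e2 : ((e.symm (f' π₀) : N) : c.Xb) = o.jzb := by
      show ((e.symm (e _) : N) : c.Xb) = _
      rw [MulEquiv.symm_apply_apply]
      show o.gb * c.al (π₀ : Perm (Fin 5)) * o.gb⁻¹ = o.jzb
      rw [hjb, o.gb_inv, o.gjg]
    rw [e1, e2] at h
    exact h
  have h1 : c.ρ ⟨c.jz, c.jz_N5⟩ = 1 := centralizer_alt _ fun σ hσ => c.al_inj (by
    rw [map_mul, map_mul, o.al_jz]
    exact (hjz ⟨σ, Perm.mem_alternatingGroup.2 hσ⟩).eq.symm)
  have hs := c.sign_jz
  rw [h1, map_one] at hs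
  exact absurd hs (by decide)

theorem nonempty_sym_eight (hn : c.NormN) : Nonempty (c.Xb ≃* Perm (Fin 8)) := by
  classical
  haveI : Fact (Nat.Prime 3) := ⟨Nat.prime_three⟩
  obtain ⟨ε, hε⟩ := o.exists_iso
  obtain ⟨P, hP⟩ : ∃ P : Sylow 3 c.Xb, (P : Subgroup c.Xb) = o.D := by
    refine ⟨(IsPGroup.of_card (G := o.D) (p := 3) (n := 2) (by rw [o.card_D]; norm_num)).toSylow ?_, rfl⟩
    intro hd
    refine o.sylow ?_
    rw [← o.D.card_mul_index, o.card_D, show (27 : ℕ) = 9 * 3 by norm_num]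
    exact Nat.mul_dvd_mul_left _ hd
  obtain ⟨y, hy⟩ : ∃ y, y = c.zb * c.wb := ⟨_, rfl⟩
  have hgen : Subgroup.closure ({y, c.zb} : Set c.Xb) = o.D := by
    refine le_antisymm ((Subgroup.closure_le _).2 ?_) ?_
    · rintro x (rfl | rfl)
      · rw [hy]; exact mul_mem o.zb_mem o.wb_mem
      · exact o.zb_mem
    · rintro _ ⟨v, rfl⟩
      have hz : c.zb ∈ Subgroup.closure ({y, c.zb} : Set c.Xb) := Subgroup.subset_closure (by simp)
      have hw : c.wb ∈ Subgroup.closure ({y, c.zb} : Set c.Xb) := by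
        have h := mul_mem (inv_mem hz) (Subgroup.subset_closure (show y ∈ ({y, c.zb} : Set c.Xb) by simp))
        rw [hy, inv_mul_cancel_left] at h
        rw [hy]; exact h
      exact mul_mem (pow_mem hz _) (pow_mem hw _)
  have hDc : IsMulCommutative o.D := ⟨⟨fun a b => Subtype.ext (o.D_comm _ a.2 _ b.2)⟩⟩
  -- the quotient by the centraliser
  haveI hcn : ((Subgroup.centralizer (o.D : Set c.Xb)).subgroupOf
      (Subgroup.normalizer (o.D : Set c.Xb))).Normal := by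
    rw [← Subgroup.normalizerMonoidHom_ker]; infer_instance
  haveI hcn' : ((Subgroup.centralizer (o.D : Set c.Xb)).subgroupOf o.Nd).Normal := hcn
  let θ : o.Nd →* DihedralGroup 4 :=
    (MonoidHom.fst (DihedralGroup 4) (Multiplicative (ZMod 2))).comp
      (ε.symm.toMonoidHom.comp (QuotientGroup.mk' o.DN))
  have hθs : Function.Surjective θ := fun d => by
    obtain ⟨τ, hτ⟩ := QuotientGroup.mk_surjective (ε (d, 1))
    exact ⟨τ, by show (ε.symm (QuotientGroup.mk τ)).1 = d; rw [hτ, MulEquiv.symm_apply_apply]⟩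
  have hker : θ.ker = (Subgroup.centralizer (o.D : Set c.Xb)).subgroupOf o.Nd := by
    ext τ
    obtain ⟨x, hx⟩ : ∃ x, x = ε.symm (QuotientGroup.mk τ) := ⟨_, rfl⟩
    have hact := hε τ x (by rw [hx, MulEquiv.apply_symm_apply])
    have hθ : θ τ = x.1 := by rw [hx]; rfl
    rw [MonoidHom.mem_ker, Subgroup.mem_subgroupOf, hθ]
    constructor
    · intro h1
      rw [Subgroup.mem_centralizer_iff]
      rintro _ ⟨v, rfl⟩
      refine (comm_of_conj ?_).symm
      rw [hact, h1]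
      rfl
    · intro h
      rw [Subgroup.mem_centralizer_iff] at h
      refine dAct_faithful _ c.a_ne _ (o.grid_inj_b ?_) (o.grid_inj_b ?_) <;>
        rw [← hact] <;> exact conj_of_comm (h _ (o.grid_mem _)).symm
  let eNC : o.Nd ⧸ (Subgroup.centralizer (o.D : Set c.Xb)).subgroupOf (Subgroup.normalizer (o.D : Set c.Xb))
      ≃* DihedralGroup 4 :=
    (QuotientGroup.quotientMulEquivOfEq hker.symm).trans
      (QuotientGroup.quotientKerEquivOfSurjective θ hθs)
  obtain ⟨Ny, hNy⟩ : ∃ Ny : Subgroup c.Xb, Ny = Subgroup.normalizer (Subgroup.zpowers y : Set c.Xb) :=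
    ⟨_, rfl⟩
  have hy1 : y ≠ 1 := fun h => by
    have h2 : o.grid (1, 1) = o.grid 0 := by rw [hy] at h; simpa [grid] using h
    exact absurd (o.grid_inj_b h2) (by decide)
  have hy3 : y ^ 3 = 1 := hy ▸ o.D_exp _ (mul_mem o.zb_mem o.wb_mem)
  have hcases : ∀ τ ∈ Ny, τ * y * τ⁻¹ = y ∨ τ * y * τ⁻¹ = y⁻¹ := fun τ hτ => by
    rw [hNy] at hτ
    obtain ⟨k, hk⟩ := conj_mem_of_norm hτ (Subgroup.mem_zpowers y)
    have h3 : y ^ (3 : ℤ) = 1 := by exact_mod_cast hy3
    change y ^ k = _ at hk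
    rw [← Int.emod_add_mul_ediv k 3, zpow_add, zpow_mul, h3, one_zpow, mul_one] at hk
    have : k % 3 = 0 ∨ k % 3 = 1 ∨ k % 3 = 2 := by omega
    rcases this with e | e | e <;> rw [e] at hk
    · exact absurd (conj_eq_one_iff.1 (hk.symm.trans (zpow_zero _))) hy1
    · exact Or.inl (hk.symm.trans (zpow_one _))
    · refine Or.inr (hk.symm.trans ?_)
      rw [show (2 : ℤ) = ((2 : ℕ) : ℤ) from rfl, zpow_natCast]
      exact (inv_eq_of_mul_eq_one_right (by rw [← pow_succ', hy3])).symm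
  have hconjNy : ∀ τ, τ * y * τ⁻¹ = y ∨ τ * y * τ⁻¹ = y⁻¹ → τ ∈ Ny := fun τ h => by
    rw [hNy]
    refine mem_norm_of_conj fun x hx => ?_
    obtain ⟨k, rfl⟩ := hx
    show τ * y ^ k * τ⁻¹ ∈ _
    rw [← conj_zpow]
    rcases h with h | h <;> rw [h]
    · exact zpow_mem (Subgroup.mem_zpowers _) _
    · exact zpow_mem (inv_mem (Subgroup.mem_zpowers _)) _
  have hNyD : ∀ τ ∈ Ny, τ ∈ o.Nd := fun τ hτ => o.mem_Ny hn (hy ▸ hcases τ hτ)
  have hcyD : ∀ τ ∈ Subgroup.centralizer ({y} : Set c.Xb), τ ∈ Ny := fun τ hτ =>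
    hconjNy τ (Or.inl (conj_of_comm (Subgroup.mem_centralizer_singleton_iff.1 hτ)))
  have hnormal : ∀ H : Subgroup c.Xb, (∀ τ ∈ H, τ ∈ o.Nd) → (o.D.subgroupOf H).Normal := fun H hH =>
    ⟨fun n hn' g => by
      rw [Subgroup.mem_subgroupOf] at hn' ⊢
      push_cast
      exact conj_mem_of_norm (hH g g.2) hn'⟩
  have hcard72 : Nat.card Ny = 72 := by
    obtain ⟨h, hh⟩ : ∃ h, h = o.jzb * o.jb := ⟨_, rfl⟩
    have hhy : h * y * h⁻¹ = y⁻¹ := by rw [hh, hy]; exact o.jzjb_y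
    have hb : Function.Bijective (fun p : Fin 2 × Subgroup.centralizer ({y} : Set c.Xb) =>
        (⟨h ^ (p.1 : ℕ) * p.2.1, mul_mem (pow_mem (hconjNy h (Or.inr hhy)) _) (hcyD _ p.2.2)⟩ : Ny)) := by
      have hnot : h ∉ Subgroup.centralizer ({y} : Set c.Xb) := fun hc => by
        rw [Subgroup.mem_centralizer_singleton_iff] at hc
        rw [conj_of_comm hc] at hhy
        apply hy1
        rw [pow_succ, sq] at hy3
        calc y = y * (y * y⁻¹) := by simp
          _ = y * y * y := by rw [← hhy]; group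
          _ = 1 := hy3
      constructor
      · rintro ⟨e, x⟩ ⟨e', x'⟩ h'
        have h'' : h ^ (e : ℕ) * x.1 = h ^ (e' : ℕ) * x'.1 := congrArg Subtype.val h'
        have he : e = e' := by
          by_contra hne
          refine hnot ?_
          fin_cases e <;> fin_cases e'
          · exact absurd rfl hne
          · have h3 : (x : c.Xb) = h * x' := by simpa using h''
            exact (Subgroup.mul_mem_cancel_right _ x'.2).1 (h3 ▸ x.2)
          · have h3 : h * (x : c.Xb) = x' := by simpa using h''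
            exact (Subgroup.mul_mem_cancel_right _ x.2).1 (h3.symm ▸ x'.2)
          · exact absurd rfl hne
        subst he
        rw [Subtype.ext (mul_left_cancel h'')]
      · rintro ⟨τ, hτ⟩
        rcases hcases τ hτ with h' | h'
        · exact ⟨(0, ⟨τ, Subgroup.mem_centralizer_singleton_iff.2 (comm_of_conj h')⟩), Subtype.ext (by simp)⟩
        · refine ⟨(1, ⟨h⁻¹ * τ, Subgroup.mem_centralizer_singleton_iff.2 (comm_of_conj ?_)⟩), Subtype.ext (by simp)⟩
          rw [conj_conj, h', inv_inv, ← hhy]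
          group
    rw [← Nat.card_congr (Equiv.ofBijective _ hb), Nat.card_prod, Nat.card_fin, hy, o.card_cent_y hn]
  rcases Cfsg.Agent.S3330.result P o.D hP.symm y c.zb hgen hDc o.card_D o.D_exp o.card_cent_D
    (ε.symm : o.Nd ⧸ o.DN ≃* DihedralGroup 4 × Multiplicative (ZMod 2)) eNC
    (hnormal _ fun τ hτ => hNyD τ (hcyD τ hτ)) (hy ▸ o.card_cent_y hn)
    (fun g hg => o.sq_mem_D hn (hy ▸ Or.inl (conj_of_comm (Subgroup.mem_centralizer_singleton_iff.1 hg))))
    Ny hNy (hnormal _ hNyD) hcard72 (fun g hg => o.sq_mem_D hn (hy ▸ hcases g hg))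
    o.eC.some o.eL.some with h | ⟨N, hN, -, ⟨e⟩, -, -, hsq⟩
  · exact h
  · exact (o.not_product N hN e hsq).elim

end Odd5

end Setup

end CfsgLib.McLThreeLocal
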