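import Mathlib

/-!
# Small tools for the `3`-local recognition of the McLaughlin group

Coprime fixed-point tricks for an element of order prime to three, and counting fixed points of an
element of order five.
-/

set_option autoImplicit false
set_option linter.style.haveILetI false

namespace CfsgLib.McLThreeLocal

variable {G : Type*} [Group G]

theorem conj_mem_of_norm {H : Subgroup G} {a x : G} (ha : a ∈ Subgroup.normalizer (H : Set G))
    (hx : x ∈ H) : a * x * a⁻¹ ∈ H := (Subgroup.mem_normalizer_iff.1 ha x).1 hx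

theorem mem_norm_of_conj [Finite G] {H : Subgroup G} {a : G} (h : ∀ x ∈ H, a * x * a⁻¹ ∈ H) :
    a ∈ Subgroup.normalizer (H : Set G) := Subgroup.mem_normalizer_fintype h

theorem conj_conj (a b x : G) : a * b * x * (a * b)⁻¹ = a * (b * x * b⁻¹) * a⁻¹ := by group

theorem comm_of_conj {a x : G} (h : a * x * a⁻¹ = x) : a * x = x * a := mul_inv_eq_iff_eq_mul.1 h

theorem conj_of_comm {a x : G} (h : a * x = x * a) : a * x * a⁻¹ = x := by
  rw [h, mul_inv_cancel_right]

theorem fix_pow {r x d : G} (h : r * x * r⁻¹ = x * d) (hd : r * d * r⁻¹ = d) (n : ℕ) :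
    r ^ n * x * (r ^ n)⁻¹ = x * d ^ n := by
  induction n with
  | zero => simp
  | succ n ih =>
    rw [pow_succ' r, conj_conj, ih,
      show r * (x * d ^ n) * r⁻¹ = r * x * r⁻¹ * (r * d ^ n * r⁻¹) by group, h,
      ← conj_pow, hd, mul_assoc, ← pow_succ']

/-- An element of order prime to three stabilising a series of 3-groups fixes it. -/
theorem fix_of_shift {r x d : G} (h : r * x * r⁻¹ = x * d) (hd : r * d * r⁻¹ = d) {n : ℕ}
    (hn : r ^ n = 1) (hd3 : d ^ 3 = 1) (hco : n.Coprime 3) : r * x * r⁻¹ = x := by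
  have h1 := fix_pow h hd n
  rw [hn, one_mul, inv_one, mul_one, left_eq_mul] at h1
  have hd1 : d = 1 := by
    have := pow_gcd_eq_one.2 ⟨h1, hd3⟩
    rwa [hco.gcd_eq_one, pow_one] at this
  rw [h, hd1, mul_one]

/-- An element which is congruent to its conjugate under an involution modulo a group of exponent
three is congruent to an element commuting with the involution. -/
theorem exists_comm_invol {t a : G} (ht : t * t = 1) (hd : (a⁻¹ * (t * a * t)) ^ 3 = 1) :
    t * (a * (a⁻¹ * (t * a * t)) ^ 2) = a * (a⁻¹ * (t * a * t)) ^ 2 * t := by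
  have hti : t⁻¹ = t := inv_eq_of_mul_eq_one_right ht
  have hinv : t * (a⁻¹ * (t * a * t)) * t⁻¹ = (a⁻¹ * (t * a * t))⁻¹ := by
    rw [hti]
    simp only [mul_inv_rev, inv_inv, hti, ← mul_assoc]
    rw [mul_assoc (t * a⁻¹ * t * a) t t, ht, mul_one]
  set d := a⁻¹ * (t * a * t) with hdd
  have hta : t * a * t⁻¹ = a * d := by rw [hdd, hti]; group
  have key : t * (a * d ^ 2) * t⁻¹ = a * d ^ 2 := by
    rw [show t * (a * d ^ 2) * t⁻¹ = t * a * t⁻¹ * (t * d ^ 2 * t⁻¹) by group, hta, ← conj_pow,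
      hinv]
    calc a * d * d⁻¹ ^ 2 = a * d⁻¹ := by group
      _ = a * d ^ 2 := by rw [inv_eq_of_mul_eq_one_right (show d * d ^ 2 = 1 by rw [← pow_succ', hd])]
  exact mul_inv_eq_iff_eq_mul.1 key

/-- The points of a normalised subgroup fixed by an element of order five. -/
theorem five_fix [Finite G] {U : Subgroup G} {c : G} (hc : c ^ 5 = 1)
    (hn : ∀ x ∈ U, c * x * c⁻¹ ∈ U) :
    Nat.card (U ⊓ Subgroup.centralizer {c} : Subgroup G) ≡ Nat.card U [MOD 5] := by
  haveI : Fact (Nat.Prime 5) := ⟨by norm_num⟩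
  have hcU : c ∈ Subgroup.normalizer (U : Set G) := mem_norm_of_conj hn
  have hzU : Subgroup.zpowers c ≤ Subgroup.normalizer (U : Set G) := Subgroup.zpowers_le.2 hcU
  letI : MulAction (Subgroup.zpowers c) U :=
    { smul := fun g x => ⟨g.1 * x.1 * g.1⁻¹, conj_mem_of_norm (hzU g.2) x.2⟩
      one_smul := fun x => Subtype.ext (by
        show (1 : G) * x.1 * (1 : G)⁻¹ = x.1
        simp)
      mul_smul := fun a b x => Subtype.ext (conj_conj _ _ _) }
  have hp : IsPGroup 5 (Subgroup.zpowers c) := by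
    intro g
    refine ⟨1, Subtype.ext ?_⟩
    obtain ⟨k, hk⟩ := g.2
    rw [pow_one, SubgroupClass.coe_pow, ← hk, ← zpow_natCast, ← zpow_mul, mul_comm, zpow_mul,
      zpow_natCast, hc, one_zpow, OneMemClass.coe_one]
  have hm := hp.card_modEq_card_fixedPoints U
  have he : Nat.card (MulAction.fixedPoints (Subgroup.zpowers c) U) =
      Nat.card (U ⊓ Subgroup.centralizer {c} : Subgroup G) := by
    refine Nat.card_congr
      { toFun := fun x => ⟨x.1.1, x.1.2, ?_⟩
        invFun := fun y => ⟨⟨y.1, y.2.1⟩, ?_⟩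
        left_inv := fun _ => rfl
        right_inv := fun _ => rfl }
    · have h := congrArg Subtype.val (x.2 ⟨c, Subgroup.mem_zpowers c⟩)
      exact Subgroup.mem_centralizer_singleton_iff.2 (comm_of_conj h).symm
    · intro g
      refine Subtype.ext (conj_of_comm ?_)
      obtain ⟨k, hk⟩ := g.2
      rw [← hk]
      exact (Commute.zpow_left (Subgroup.mem_centralizer_singleton_iff.1 y.2.2).symm k).eq
  rw [he] at hm
  exact hm.symm

theorem card_dvd_three {K U : Subgroup G} (hKU : K ≤ U) {k : ℕ} (hU : Nat.card U = 3 ^ k) :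
    ∃ i ≤ k, Nat.card K = 3 ^ i :=
  (Nat.dvd_prime_pow Nat.prime_three).1 (hU ▸ Subgroup.card_dvd_of_le hKU)

/-- An element of order five fixing at least nine points of a `3`-group of order `81` fixes all. -/
theorem five_fix_all [Finite G] {U : Subgroup G} {k : ℕ} (hk : k ≤ 5) (hU : Nat.card U = 3 ^ k)
    {c : G} (hc : c ^ 5 = 1) (hn : ∀ x ∈ U, c * x * c⁻¹ ∈ U) {F : Subgroup G} (hFU : F ≤ U)
    (hF : ∀ x ∈ F, c * x = x * c) (hk9 : k ≤ 3 ∧ 3 ∣ Nat.card F ∨ 9 ∣ Nat.card F) :
    ∀ x ∈ U, c * x = x * c := by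
  have hm := five_fix hc hn
  set W := (U ⊓ Subgroup.centralizer {c} : Subgroup G) with hW
  obtain ⟨i, hi, hWi⟩ := card_dvd_three (inf_le_left : W ≤ U) hU
  have hFW : Nat.card F ∣ 3 ^ i := hWi ▸ Subgroup.card_dvd_of_le (le_inf hFU fun x hx =>
    Subgroup.mem_centralizer_singleton_iff.2 (hF x hx).symm)
  rw [hWi, hU] at hm
  have hik : i = k := by
    have h1 : k ≤ 3 ∧ 1 ≤ i ∨ 2 ≤ i := by
      rcases hk9 with ⟨h, h'⟩ | h'
      · refine Or.inl ⟨h, ?_⟩
        by_contra h0
        obtain rfl : i = 0 := by omega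
        exact absurd (h'.trans hFW) (by norm_num)
      · refine Or.inr ?_
        by_contra h0
        have := Nat.le_of_dvd (by norm_num) ((h'.trans hFW).trans
          (pow_dvd_pow 3 (show i ≤ 1 by omega)))
        norm_num at this
    interval_cases k <;> interval_cases i <;> first | rfl | (simp_all [Nat.ModEq])
  intro x hx
  have hWU : W = U := Subgroup.eq_of_le_of_card_ge inf_le_left (by rw [hWi, hU, hik])
  exact (Subgroup.mem_centralizer_singleton_iff.1 (hWU ▸ hx : x ∈ W).2).symm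

end CfsgLib.McLThreeLocal
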